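import Mathlib
import Cfsg.Prelude.Def_Transfer
import Cfsg.Prelude.Def_Solvable

set_option autoImplicit false

namespace Cfsg.Agent.Lib.Helper93

open scoped commutatorElement

variable {G : Type*} [Group G]

/-- The 2-core of the centralizer of `x`, viewed inside `G`. -/
def coreQ (x : G) : Subgroup G :=
  (Cfsg.pCore 2 ↥(Subgroup.centralizer ({x} : Set G))).map (Subgroup.centralizer ({x} : Set G)).subtype

theorem coreQ_le (x : G) : coreQ x ≤ Subgroup.centralizer ({x} : Set G) :=
  Subgroup.map_subtype_le _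

theorem coreQ_comm {x v : G} (hv : v ∈ coreQ x) : v * x = x * v := by
  have h := coreQ_le x hv
  rw [Subgroup.mem_centralizer_iff] at h
  exact (h x rfl).symm

theorem pCore_normal (p : ℕ) (H : Type*) [Group H] : (Cfsg.pCore p H).Normal :=
  Subgroup.sSup_normal _ (fun _ hN => hN.1)

theorem pCore_isPGroup' (H : Type*) [Group H] : IsPGroup 2 (Cfsg.pCore 2 H) := by
  have : Fact (Nat.Prime 2) := ⟨Nat.prime_two⟩
  obtain ⟨P⟩ : Nonempty (Sylow 2 H) := inferInstance
  refine P.isPGroup'.to_le ?_
  unfold Cfsg.pCore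
  refine sSup_le ?_
  rintro N ⟨hN, hp⟩
  have := hN
  exact hp.le_sylow_of_normal P

theorem coreQ_isPGroup (x : G) : IsPGroup 2 (coreQ x) :=
  (pCore_isPGroup' _).map _

theorem le_normalizer_coreQ (x : G) :
    Subgroup.centralizer ({x} : Set G) ≤ Subgroup.normalizer ((coreQ x : Subgroup G) : Set G) := by
  have := pCore_normal 2 ↥(Subgroup.centralizer ({x} : Set G))
  have h := Subgroup.le_normalizer_map (H := Cfsg.pCore 2 ↥(Subgroup.centralizer ({x} : Set G)))
    (Subgroup.centralizer ({x} : Set G)).subtype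
  rw [Subgroup.normalizer_eq_top, ← MonoidHom.range_eq_map, Subgroup.range_subtype] at h
  exact h

/-- Maximality of `coreQ x` among 2-subgroups of the centralizer normalized by it. -/
theorem le_coreQ {x : G} {N : Subgroup G} (h1 : N ≤ Subgroup.centralizer ({x} : Set G))
    (h2 : Subgroup.centralizer ({x} : Set G) ≤ Subgroup.normalizer (N : Set G))
    (h3 : IsPGroup 2 N) : N ≤ coreQ x := by
  have hn : (N.subgroupOf (Subgroup.centralizer ({x} : Set G))).Normal :=
    (Subgroup.normal_subgroupOf_iff_le_normalizer h1).mpr h2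
  have hp : IsPGroup 2 (N.subgroupOf (Subgroup.centralizer ({x} : Set G))) :=
    h3.comap_of_injective _ (Subgroup.subtype_injective _)
  have hle : N.subgroupOf (Subgroup.centralizer ({x} : Set G)) ≤
      Cfsg.pCore 2 ↥(Subgroup.centralizer ({x} : Set G)) := le_sSup ⟨hn, hp⟩
  have := Subgroup.map_mono (f := (Subgroup.centralizer ({x} : Set G)).subtype) hle
  rwa [Subgroup.map_subgroupOf_eq_of_le h1] at this

/-- Equivariance of `coreQ` under conjugation (one direction). -/
theorem conj_mem_coreQ (g x v : G) (hv : v ∈ coreQ x) : g * v * g⁻¹ ∈ coreQ (g * x * g⁻¹) := by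
  have hN : (coreQ x).map (MulAut.conj g).toMonoidHom ≤ coreQ (g * x * g⁻¹) := by
    apply le_coreQ
    · rintro _ ⟨w, hw, rfl⟩
      rw [Subgroup.mem_centralizer_iff]
      rintro _ rfl
      have hc := coreQ_comm hw
      simp only [MulEquiv.coe_toMonoidHom, MulAut.conj_apply]
      calc g * x * g⁻¹ * (g * w * g⁻¹) = g * (x * w) * g⁻¹ := by group
        _ = g * (w * x) * g⁻¹ := by rw [hc]
        _ = g * w * g⁻¹ * (g * x * g⁻¹) := by group
    · intro h hh
      rw [Subgroup.mem_centralizer_iff] at hh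
      have hh' := hh _ rfl
      have hk : g⁻¹ * h * g ∈ Subgroup.centralizer ({x} : Set G) := by
        rw [Subgroup.mem_centralizer_iff]
        intro y hy
        rw [Set.mem_singleton_iff.mp hy]
        calc x * (g⁻¹ * h * g) = g⁻¹ * ((g * x * g⁻¹) * h) * g := by group
          _ = g⁻¹ * (h * (g * x * g⁻¹)) * g := by rw [hh']
          _ = g⁻¹ * h * g * x := by group
      have hk' := le_normalizer_coreQ x hk
      rw [Subgroup.mem_normalizer_iff] at hk' ⊢
      intro n
      rw [Subgroup.mem_map_equiv, Subgroup.mem_map_equiv, MulAut.conj_symm_apply,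
        MulAut.conj_symm_apply, hk' (g⁻¹ * n * g)]
      have e : g⁻¹ * h * g * (g⁻¹ * n * g) * (g⁻¹ * h * g)⁻¹ = g⁻¹ * (h * n * h⁻¹) * g := by group
      rw [e]
    · exact (coreQ_isPGroup x).map _
  exact hN ⟨v, hv, by simp [MulAut.conj_apply]⟩

theorem mem_coreQ_conj_iff (g x v : G) : v ∈ coreQ (g * x * g⁻¹) ↔ g⁻¹ * v * g ∈ coreQ x := by
  constructor
  · intro hv
    have h := conj_mem_coreQ g⁻¹ (g * x * g⁻¹) v hv
    have e : g⁻¹ * (g * x * g⁻¹) * g⁻¹⁻¹ = x := by group
    rw [e, inv_inv] at h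
    exact h
  · intro hv
    have h := conj_mem_coreQ g x _ hv
    have e : g * (g⁻¹ * v * g) * g⁻¹ = v := by group
    rw [e] at h
    exact h

/-- Elements commuting with `x` normalize `coreQ x`. -/
theorem coreQ_norm {x h v : G} (hh : h * x = x * h) (hv : v ∈ coreQ x) : h * v * h⁻¹ ∈ coreQ x := by
  have h1 := conj_mem_coreQ h x v hv
  have e : h * x * h⁻¹ = x := by rw [hh]; group
  rw [e] at h1
  exact h1

theorem coreQ_norm' {x h v : G} (hh : h * x = x * h) (hv : v ∈ coreQ x) : h⁻¹ * v * h ∈ coreQ x := by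
  have hh' : h⁻¹ * x = x * h⁻¹ := by
    calc h⁻¹ * x = h⁻¹ * (x * h) * h⁻¹ := by group
      _ = h⁻¹ * (h * x) * h⁻¹ := by rw [hh]
      _ = x * h⁻¹ := by group
  have := coreQ_norm hh' hv
  rwa [inv_inv] at this

/-- An involution lies in the 2-core of its centralizer. -/
theorem self_mem_coreQ {x : G} (hx : x * x = 1) : x ∈ coreQ x := by
  have hle : Subgroup.zpowers x ≤ coreQ x := by
    apply le_coreQ
    · rw [Subgroup.zpowers_le, Subgroup.mem_centralizer_iff]
      rintro _ rfl; rfl
    · intro h hh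
      rw [Subgroup.mem_centralizer_iff] at hh
      have hh' : x * h = h * x := hh _ rfl
      rw [Subgroup.mem_normalizer_iff]
      intro n
      have key : ∀ n ∈ Subgroup.zpowers x, h * n * h⁻¹ = n ∧ h⁻¹ * n * h = n := by
        rintro _ ⟨k, rfl⟩
        have hc : Commute h (x ^ k) := (Commute.zpow_right (show Commute h x from hh'.symm) k)
        constructor
        · rw [hc.eq]; group
        · rw [mul_assoc, ← hc.eq]; group
      constructor
      · intro hn; rw [(key n hn).1]; exact hn
      · intro hn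
        have h2 := (key _ hn).2
        have e : h⁻¹ * (h * n * h⁻¹) * h = n := by group
        rw [e] at h2
        rw [h2]; exact hn
    · intro y
      refine ⟨1, ?_⟩
      obtain ⟨y, k, rfl⟩ := y
      apply Subtype.ext
      simp only [pow_one, Subgroup.coe_pow, Subgroup.coe_one]
      rw [← zpow_natCast, ← zpow_mul, mul_comm, zpow_mul, zpow_natCast, pow_two, hx, one_zpow]
  exact hle (Subgroup.mem_zpowers x)

/-- In a finite 2-group squares lie in the Frattini subgroup. -/
theorem sq_mem_frattini {P : Type*} [Group P] [Finite P] (hP : IsPGroup 2 P) (v : P) :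
    v * v ∈ frattini P := by
  have : Fact (Nat.Prime 2) := ⟨Nat.prime_two⟩
  unfold frattini Order.radical
  simp only [Subgroup.mem_iInf]
  intro M hM
  have hnil : Group.IsNilpotent P := hP.isNilpotent
  have hnorm : M.Normal :=
    Subgroup.NormalizerCondition.normal_of_coatom M Group.normalizerCondition_of_isNilpotent hM
  by_contra hv
  have hlt : M < M ⊔ Subgroup.zpowers (v * v) := by
    refine lt_of_le_of_ne le_sup_left ?_
    intro h
    apply hv
    rw [h]
    exact (le_sup_right : Subgroup.zpowers (v * v) ≤ M ⊔ Subgroup.zpowers (v * v))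
      (Subgroup.mem_zpowers _)
  have htop : M ⊔ Subgroup.zpowers (v * v) = ⊤ := hM.2 _ hlt
  have hvm : v ∈ M ⊔ Subgroup.zpowers (v * v) := htop ▸ Subgroup.mem_top v
  rw [Subgroup.mem_sup_of_normal_left] at hvm
  obtain ⟨m, hm, w, ⟨k, rfl⟩, hmw⟩ := hvm
  obtain ⟨j, hj⟩ := hP v
  have hm' : v ^ (1 - 2 * k) = m := by
    have h1 : m = v * ((v * v) ^ k)⁻¹ := by
      rw [eq_mul_inv_iff_mul_eq]; exact hmw
    rw [h1, zpow_sub, zpow_one, zpow_mul, zpow_two]
  have hcop : IsCoprime (1 - 2 * k) ((2 : ℤ) ^ j) := IsCoprime.pow_right ⟨1, k, by ring⟩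
  obtain ⟨s, t, hst⟩ := hcop
  have hj' : v ^ ((2 : ℤ) ^ j) = 1 := by
    have : ((2 : ℤ) ^ j) = ((2 ^ j : ℕ) : ℤ) := by push_cast; rfl
    rw [this, zpow_natCast, hj]
  have hv' : v = (v ^ (1 - 2 * k)) ^ s * (v ^ ((2 : ℤ) ^ j)) ^ t := by
    rw [← zpow_mul, ← zpow_mul, ← zpow_add, mul_comm (1 - 2 * k) s, mul_comm ((2 : ℤ) ^ j) t, hst,
      zpow_one]
  have hvM : v ∈ M := by
    rw [hv', hm', hj', one_zpow, mul_one]
    exact M.zpow_mem hm s
  exact hv (M.mul_mem hvM hvM)

/-- `Q` behaves like an extraspecial 2-group with centre generated by `a`, self-centralizing in `G`. -/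
structure ES (Q : Subgroup G) (a : G) : Prop where
  mem : a ∈ Q
  ne_one : a ≠ 1
  sq_one : a * a = 1
  central : ∀ v ∈ Q, v * a = a * v
  center : ∀ v ∈ Q, (∀ w ∈ Q, v * w = w * v) → v = 1 ∨ v = a
  comm : ∀ v ∈ Q, ∀ w ∈ Q, v * w = w * v ∨ v * w = a * (w * v)
  sq : ∀ v ∈ Q, v * v = 1 ∨ v * v = a
  selfCent : ∀ h : G, (∀ v ∈ Q, h * v = v * h) → h ∈ Q

theorem ES_of_extraspecial [Finite G] (z : G) (hz : orderOf z = 2)
    (hE : Cfsg.IsExtraspecial 2 ↥(coreQ z))
    (hC : Subgroup.centralizer ((coreQ z : Subgroup G) : Set G) ≤ coreQ z) : ES (coreQ z) z := by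
  have hzz : z * z = 1 := by rw [← pow_two, ← hz, pow_orderOf_eq_one]
  have hz1 : z ≠ 1 := by
    rintro rfl
    simp at hz
  have hzQ : z ∈ coreQ z := self_mem_coreQ hzz
  obtain ⟨⟨hP, hF, hD⟩, hcard⟩ := hE
  have hzc : (⟨z, hzQ⟩ : coreQ z) ∈ Subgroup.center (coreQ z) := by
    rw [Subgroup.mem_center_iff]
    rintro ⟨v, hv⟩
    apply Subtype.ext
    exact coreQ_comm hv
  have hcen : ∀ c : coreQ z, c ∈ Subgroup.center (coreQ z) → (c : G) = 1 ∨ (c : G) = z := by
    intro c hc
    rw [Nat.card_eq_two_iff' (1 : Subgroup.center (coreQ z))] at hcard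
    obtain ⟨y, hy, huniq⟩ := hcard
    by_cases h1 : (c : G) = 1
    · exact Or.inl h1
    · right
      have e1 : (⟨c, hc⟩ : Subgroup.center (coreQ z)) = y := by
        apply huniq
        intro h
        apply h1
        have := congrArg (fun t : Subgroup.center (coreQ z) => ((t : coreQ z) : G)) h
        simpa using this
      have e2 : (⟨⟨z, hzQ⟩, hzc⟩ : Subgroup.center (coreQ z)) = y := by
        apply huniq
        intro h
        apply hz1
        have := congrArg (fun t : Subgroup.center (coreQ z) => ((t : coreQ z) : G)) h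
        simpa using this
      have := congrArg (fun t : Subgroup.center (coreQ z) => ((t : coreQ z) : G)) (e1.trans e2.symm)
      simpa using this
  refine ⟨hzQ, hz1, hzz, fun v hv => coreQ_comm hv, ?_, ?_, ?_, ?_⟩
  · intro v hv hcv
    have : (⟨v, hv⟩ : coreQ z) ∈ Subgroup.center (coreQ z) := by
      rw [Subgroup.mem_center_iff]
      rintro ⟨w, hw⟩
      apply Subtype.ext
      exact (hcv w hw).symm
    exact hcen _ this
  · intro v hv w hw
    have hmem : ⁅(⟨v, hv⟩ : coreQ z), ⟨w, hw⟩⁆ ∈ Subgroup.center (coreQ z) := by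
      rw [← hD]
      exact Subgroup.commutator_mem_commutator (Subgroup.mem_top _) (Subgroup.mem_top _)
    have h := hcen _ hmem
    rw [commutatorElement_def] at h
    simp only [Subgroup.coe_mul, Subgroup.coe_inv] at h
    rcases h with h | h
    · left
      calc v * w = (v * w * v⁻¹ * w⁻¹) * (w * v) := by group
        _ = w * v := by rw [h, one_mul]
    · right
      calc v * w = (v * w * v⁻¹ * w⁻¹) * (w * v) := by group
        _ = z * (w * v) := by rw [h]
  · intro v hv
    have hmem : (⟨v, hv⟩ : coreQ z) * ⟨v, hv⟩ ∈ Subgroup.center (coreQ z) := by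
      rw [← hF]
      exact sq_mem_frattini hP _
    have h := hcen _ hmem
    simpa using h
  · intro h hh
    apply hC
    rw [Subgroup.mem_centralizer_iff]
    intro v hv
    exact (hh v hv).symm

theorem ES.conj {a : G} (h : ES (coreQ a) a) (g : G) :
    ES (coreQ (g * a * g⁻¹)) (g * a * g⁻¹) := by
  have key : ∀ v, v ∈ coreQ (g * a * g⁻¹) ↔ g⁻¹ * v * g ∈ coreQ a := mem_coreQ_conj_iff g a
  have key2 : ∀ w, w ∈ coreQ a → g * w * g⁻¹ ∈ coreQ (g * a * g⁻¹) :=
    fun w hw => conj_mem_coreQ g a w hw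
  refine ⟨?_, ?_, ?_, ?_, ?_, ?_, ?_, ?_⟩
  · exact key2 a h.mem
  · intro e
    apply h.ne_one
    calc a = g⁻¹ * (g * a * g⁻¹) * g := by group
      _ = 1 := by rw [e]; group
  · calc g * a * g⁻¹ * (g * a * g⁻¹) = g * (a * a) * g⁻¹ := by group
      _ = 1 := by rw [h.sq_one]; group
  · intro v hv
    have := h.central _ ((key v).mp hv)
    calc v * (g * a * g⁻¹) = g * (g⁻¹ * v * g * a) * g⁻¹ := by group
      _ = g * (a * (g⁻¹ * v * g)) * g⁻¹ := by rw [this]
      _ = g * a * g⁻¹ * v := by group
  · intro v hv hc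
    have h1 : ∀ w ∈ coreQ a, g⁻¹ * v * g * w = w * (g⁻¹ * v * g) := by
      intro w hw
      have := hc _ (key2 w hw)
      calc g⁻¹ * v * g * w = g⁻¹ * (v * (g * w * g⁻¹)) * g := by group
        _ = g⁻¹ * (g * w * g⁻¹ * v) * g := by rw [this]
        _ = w * (g⁻¹ * v * g) := by group
    rcases h.center _ ((key v).mp hv) h1 with e | e
    · left
      calc v = g * (g⁻¹ * v * g) * g⁻¹ := by group
        _ = 1 := by rw [e]; group
    · right
      calc v = g * (g⁻¹ * v * g) * g⁻¹ := by group
        _ = g * a * g⁻¹ := by rw [e]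
  · intro v hv w hw
    rcases h.comm _ ((key v).mp hv) _ ((key w).mp hw) with e | e
    · left
      calc v * w = g * ((g⁻¹ * v * g) * (g⁻¹ * w * g)) * g⁻¹ := by group
        _ = g * ((g⁻¹ * w * g) * (g⁻¹ * v * g)) * g⁻¹ := by rw [e]
        _ = w * v := by group
    · right
      calc v * w = g * ((g⁻¹ * v * g) * (g⁻¹ * w * g)) * g⁻¹ := by group
        _ = g * (a * ((g⁻¹ * w * g) * (g⁻¹ * v * g))) * g⁻¹ := by rw [e]
        _ = g * a * g⁻¹ * (w * v) := by group
  · intro v hv
    rcases h.sq _ ((key v).mp hv) with e | e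
    · left
      calc v * v = g * ((g⁻¹ * v * g) * (g⁻¹ * v * g)) * g⁻¹ := by group
        _ = 1 := by rw [e]; group
    · right
      calc v * v = g * ((g⁻¹ * v * g) * (g⁻¹ * v * g)) * g⁻¹ := by group
        _ = g * a * g⁻¹ := by rw [e]
  · intro k hk
    rw [key]
    apply h.selfCent
    intro w hw
    have := hk _ (key2 w hw)
    calc g⁻¹ * k * g * w = g⁻¹ * (k * (g * w * g⁻¹)) * g := by group
      _ = g⁻¹ * (g * w * g⁻¹ * k) * g := by rw [this]
      _ = w * (g⁻¹ * k * g) := by group

/-- twisted commutation is symmetric -/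
theorem tw_symm {a x y : G} (ha : a * a = 1) (h : x * y = a * (y * x)) : y * x = a * (x * y) := by
  rw [h, ← mul_assoc, ha, one_mul]

/-- inverse of an involution -/
theorem inv_of_sq {a : G} (ha : a * a = 1) : a⁻¹ = a := inv_eq_of_mul_eq_one_left ha

/-- products of two elements twisted-commuting with `b` commute with `b` -/
theorem tw_mul_tw {a b t w : G} (ha : a * a = 1) (hat : t * a = a * t)
    (h1 : t * b = a * (b * t)) (h2 : w * b = a * (b * w)) : (t * w) * b = b * (t * w) := by
  calc t * w * b = t * (w * b) := by group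
    _ = t * (a * (b * w)) := by rw [h2]
    _ = (t * a) * (b * w) := by group
    _ = (a * t) * (b * w) := by rw [hat]
    _ = a * ((t * b) * w) := by group
    _ = a * ((a * (b * t)) * w) := by rw [h1]
    _ = (a * a) * (b * (t * w)) := by group
    _ = b * (t * w) := by rw [ha, one_mul]

theorem tw_mul_inv {a b x y : G} (ha : a * a = 1) (hax : x * a = a * x) (hay : y * a = a * y)
    (hx : x * b = a * (b * x)) (hy : y * b = a * (b * y)) : (x * y⁻¹) * b = b * (x * y⁻¹) := by
  have hyinv : y⁻¹ * b = a * (b * y⁻¹) := by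
    calc y⁻¹ * b = y⁻¹ * (a * a) * b := by rw [ha, mul_one]
      _ = y⁻¹ * a * ((a * (b * y)) * y⁻¹) := by group
      _ = y⁻¹ * a * ((y * b) * y⁻¹) := by rw [hy]
      _ = y⁻¹ * (a * y) * b * y⁻¹ := by group
      _ = y⁻¹ * (y * a) * b * y⁻¹ := by rw [hay]
      _ = a * (b * y⁻¹) := by group
  calc x * y⁻¹ * b = x * (y⁻¹ * b) := by group
    _ = x * (a * (b * y⁻¹)) := by rw [hyinv]
    _ = (x * a) * (b * y⁻¹) := by group
    _ = (a * x) * (b * y⁻¹) := by rw [hax]
    _ = a * ((x * b) * y⁻¹) := by group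
    _ = a * ((a * (b * x)) * y⁻¹) := by rw [hx]
    _ = (a * a) * (b * (x * y⁻¹)) := by group
    _ = b * (x * y⁻¹) := by rw [ha, one_mul]

/-- The subgroup `{1, b}` for an involution `b`. -/
def pairSub (b : G) (hb : b * b = 1) : Subgroup G where
  carrier := {x | x = 1 ∨ x = b}
  mul_mem' := by
    rintro x y (rfl | rfl) (rfl | rfl)
    · left; simp
    · right; simp
    · right; simp
    · left; exact hb
  one_mem' := Or.inl rfl
  inv_mem' := by
    rintro x (rfl | rfl)
    · left; simp
    · right; exact inv_of_sq hb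

theorem mem_pairSub {b : G} {hb : b * b = 1} {x : G} : x ∈ pairSub b hb ↔ x = 1 ∨ x = b :=
  Iff.rfl

theorem rel_mul_left (B : Subgroup G) {x y : G} (z : G) (h : x⁻¹ * y ∈ B) :
    (z * x)⁻¹ * (z * y) ∈ B := by
  have e : (z * x)⁻¹ * (z * y) = x⁻¹ * y := by group
  rwa [e]

theorem rel_symm (B : Subgroup G) {x y : G} (h : x⁻¹ * y ∈ B) : y⁻¹ * x ∈ B := by
  have := B.inv_mem h
  have e : (x⁻¹ * y)⁻¹ = y⁻¹ * x := by group
  rwa [e] at this

theorem rel_trans (B : Subgroup G) {x y z : G} (h1 : x⁻¹ * y ∈ B) (h2 : y⁻¹ * z ∈ B) :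
    x⁻¹ * z ∈ B := by
  have := B.mul_mem h1 h2
  have e : x⁻¹ * y * (y⁻¹ * z) = x⁻¹ * z := by group
  rwa [e] at this

theorem rel_mul_right {b : G} (hb : b * b = 1) {x y z : G} (hz : z * b = b * z)
    (h : x⁻¹ * y ∈ pairSub b hb) : (x * z)⁻¹ * (y * z) ∈ pairSub b hb := by
  have e : (x * z)⁻¹ * (y * z) = z⁻¹ * (x⁻¹ * y) * z := by group
  rw [e]
  rcases h with h | h
  · left; rw [h]; group
  · right
    rw [h]
    calc z⁻¹ * b * z = z⁻¹ * (b * z) := by group
      _ = z⁻¹ * (z * b) := by rw [hz]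
      _ = b := by group

/-- Core of the symmetry of orthogonality: if `b ∈ Q_a` then `a ∈ Q_b`. -/
theorem symm_aux (a b : G) (ha : ES (coreQ a) a) (hb : ES (coreQ b) b) (hba : b ∈ coreQ a)
    (u0 : G) (hu0 : u0 ∈ coreQ b) (hu01 : u0 ≠ 1) (hu0b : u0 ≠ b) : a ∈ coreQ b := by
  by_contra hab
  have haa := ha.sq_one
  have hbb := hb.sq_one
  have hne : b ≠ a := fun e => hab (by rw [← e]; exact hb.mem)
  have hba_c : b * a = a * b := ha.central b hba
  have hab_c : a * b = b * a := hba_c.symm
  have hainv : a⁻¹ = a := inv_of_sq haa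
  have hbinv : b⁻¹ = b := inv_of_sq hbb
  -- an element of `Q_a` not commuting with `b`
  obtain ⟨q, hq, hbq⟩ : ∃ q ∈ coreQ a, b * q = a * (q * b) := by
    by_contra hcon
    push Not at hcon
    have hall : ∀ w ∈ coreQ a, b * w = w * b := by
      intro w hw
      rcases ha.comm b hba w hw with e | e
      · exact e
      · exact absurd e (hcon w hw)
    rcases ha.center b hba hall with e | e
    · exact hb.ne_one e
    · exact hne e
  have hqa : q * a = a * q := ha.central q hq
  have hqb : q * b = a * (b * q) := tw_symm haa hbq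
  have hqbq : q * b * q⁻¹ = a * b := by rw [hqb]; group
  -- Step 3: no element of `Q_b` conjugates `a` to `a b`
  have no_u : ∀ u ∈ coreQ b, u * a * u⁻¹ ≠ a * b := by
    intro u hu h
    have hub : u * b = b * u := hb.central u hu
    have h1 : b ∈ coreQ (a * b) := by
      have := conj_mem_coreQ u a b hba
      rw [h] at this
      have e : u * b * u⁻¹ = b := by rw [hub]; group
      rwa [e] at this
    have h2 : a * b ∈ coreQ (a * b) := by
      have := conj_mem_coreQ q b b hb.mem
      rwa [hqbq] at this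
    have h3 : a ∈ coreQ (a * b) := by
      have := (coreQ (a * b)).mul_mem h2 h1
      have e : a * b * b = a := by rw [mul_assoc, hbb, mul_one]
      rwa [e] at this
    have h4 := conj_mem_coreQ q (a * b) a h3
    have e1 : q * a * q⁻¹ = a := by rw [hqa]; group
    have e2 : q * (a * b) * q⁻¹ = b := by
      calc q * (a * b) * q⁻¹ = (q * a) * b * q⁻¹ := by group
        _ = a * (q * b * q⁻¹) := by rw [hqa]; group
        _ = a * (a * b) := by rw [hqbq]
        _ = b := by rw [← mul_assoc, haa, one_mul]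
    rw [e1, e2] at h4
    exact hab h4
  have lift : ∀ u ∈ coreQ b, u * a = b * (a * u) → False := by
    intro u hu h
    apply no_u u hu
    calc u * a * u⁻¹ = b * (a * u) * u⁻¹ := by rw [h]
      _ = b * a := by group
      _ = a * b := hba_c
  -- Step 1a: elements of `Q_a` centralizing `C_{Q_a}(b)`
  have cR : ∀ v ∈ coreQ a, (∀ r ∈ coreQ a, r * b = b * r → v * r = r * v) →
      v = 1 ∨ v = a ∨ v = b ∨ v = a * b := by
    intro v hv hvR
    by_cases hc : ∀ w ∈ coreQ a, v * w = w * v
    · rcases ha.center v hv hc with e | e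
      · exact Or.inl e
      · exact Or.inr (Or.inl e)
    · push Not at hc
      obtain ⟨w, hw, hvw⟩ := hc
      have hvw' : v * w = a * (w * v) := by
        rcases ha.comm v hv w hw with e | e
        · exact absurd e hvw
        · exact e
      have hva : v * a = a * v := ha.central v hv
      have hwa : w * a = a * w := ha.central w hw
      have hwb : w * b = a * (b * w) := by
        rcases ha.comm w hw b hba with e | e
        · exact absurd (hvR w hw e) hvw
        · exact e
      have hcen : ∀ t ∈ coreQ a, (v * b) * t = t * (v * b) := by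
        intro t ht
        have hta : t * a = a * t := ha.central t ht
        rcases ha.comm t ht b hba with e | e
        · have := hvR t ht e
          calc v * b * t = v * (b * t) := by group
            _ = v * (t * b) := by rw [e]
            _ = (v * t) * b := by group
            _ = (t * v) * b := by rw [this]
            _ = t * (v * b) := by group
        · have hvt : v * t = a * (t * v) := by
            rcases ha.comm v hv t ht with e' | e'
            · exfalso
              have htwb : (t * w) * b = b * (t * w) := tw_mul_tw haa hta e hwb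
              have h1 := hvR (t * w) ((coreQ a).mul_mem ht hw) htwb
              have h2 : v * (t * w) = a * ((t * w) * v) := by
                calc v * (t * w) = (v * t) * w := by group
                  _ = (t * v) * w := by rw [e']
                  _ = t * (v * w) := by group
                  _ = t * (a * (w * v)) := by rw [hvw']
                  _ = (t * a) * (w * v) := by group
                  _ = (a * t) * (w * v) := by rw [hta]
                  _ = a * ((t * w) * v) := by group
              rw [h1] at h2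
              apply ha.ne_one
              have h3 : 1 * (t * w * v) = a * (t * w * v) := by rw [one_mul]; exact h2
              exact (mul_right_cancel h3).symm
            · exact e'
          have hbt : b * t = a * (t * b) := tw_symm haa e
          calc v * b * t = v * (b * t) := by group
            _ = v * (a * (t * b)) := by rw [hbt]
            _ = (v * a) * (t * b) := by group
            _ = (a * v) * (t * b) := by rw [hva]
            _ = a * ((v * t) * b) := by group
            _ = a * ((a * (t * v)) * b) := by rw [hvt]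
            _ = (a * a) * (t * (v * b)) := by group
            _ = t * (v * b) := by rw [haa, one_mul]
      rcases ha.center (v * b) ((coreQ a).mul_mem hv hba) hcen with e | e
      · right; right; left
        calc v = v * b * b⁻¹ := by group
          _ = b := by rw [e, one_mul, hbinv]
      · right; right; right
        calc v = v * b * b⁻¹ := by group
          _ = a * b := by rw [e, hbinv]
  -- Step 1: `Q_a ∩ Q_b = {1, b}`
  have inter : ∀ v ∈ coreQ a, v ∈ coreQ b → v = 1 ∨ v = b := by
    intro v hv hvb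
    have hvR : ∀ r ∈ coreQ a, r * b = b * r → v * r = r * v := by
      intro r hr hrb
      rcases ha.comm v hv r hr with e | e
      · exact e
      · exfalso
        apply hab
        have h1 : r * v⁻¹ * r⁻¹ ∈ coreQ b := coreQ_norm hrb ((coreQ b).inv_mem hvb)
        have h2 : v * (r * v⁻¹ * r⁻¹) ∈ coreQ b := (coreQ b).mul_mem hvb h1
        have e2 : v * (r * v⁻¹ * r⁻¹) = a := by
          calc v * (r * v⁻¹ * r⁻¹) = (v * r) * v⁻¹ * r⁻¹ := by group
            _ = a * (r * v) * v⁻¹ * r⁻¹ := by rw [e]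
            _ = a := by group
        rwa [e2] at h2
    rcases cR v hv hvR with e | e | e | e
    · exact Or.inl e
    · exact absurd (e ▸ hvb) hab
    · exact Or.inr e
    · exfalso
      apply hab
      have := (coreQ b).mul_mem hvb hb.mem
      rw [e, mul_assoc, hbb, mul_one] at this
      exact this
  -- Step 2
  have PR : ∀ p ∈ coreQ b, p * a = a * p → ∀ r ∈ coreQ a, r * b = b * r →
      p * r = r * p ∨ p * r = b * (r * p) := by
    intro p hp hpa r hr hrb
    have h1 : p * r * p⁻¹ * r⁻¹ ∈ coreQ a :=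
      (coreQ a).mul_mem (coreQ_norm hpa hr) ((coreQ a).inv_mem hr)
    have h2 : p * r * p⁻¹ * r⁻¹ ∈ coreQ b := by
      have := (coreQ b).mul_mem hp (coreQ_norm hrb ((coreQ b).inv_mem hp))
      have e : p * (r * p⁻¹ * r⁻¹) = p * r * p⁻¹ * r⁻¹ := by group
      rwa [e] at this
    rcases inter _ h1 h2 with e | e
    · left
      calc p * r = (p * r * p⁻¹ * r⁻¹) * (r * p) := by group
        _ = r * p := by rw [e, one_mul]
    · right
      calc p * r = (p * r * p⁻¹ * r⁻¹) * (r * p) := by group
        _ = b * (r * p) := by rw [e]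
  have hyQ : ∀ u ∈ coreQ b, a * u * a * u⁻¹ ∈ coreQ b := by
    intro u hu
    have h1 : a * u * a⁻¹ ∈ coreQ b := coreQ_norm hab_c hu
    rw [hainv] at h1
    exact (coreQ b).mul_mem h1 ((coreQ b).inv_mem hu)
  -- Step 4
  have S4 : ∀ u ∈ coreQ b, a * (a * u * a * u⁻¹) = (a * u * a * u⁻¹) * a := by
    intro u hu
    have hy := hyQ u hu
    have h1 : a * (a * u * a * u⁻¹) = (a * u * a * u⁻¹)⁻¹ * a := by
      calc a * (a * u * a * u⁻¹) = (a * a) * u * a * u⁻¹ := by group
        _ = u * a * u⁻¹ := by rw [haa, one_mul]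
        _ = u * a⁻¹ * u⁻¹ := by rw [hainv]
        _ = (a * u * a * u⁻¹)⁻¹ * a := by group
    rcases hb.sq _ hy with e | e
    · have : (a * u * a * u⁻¹)⁻¹ = a * u * a * u⁻¹ := inv_of_sq e
      rw [this] at h1
      exact h1
    · exfalso
      apply lift _ hy
      calc (a * u * a * u⁻¹) * a
          = ((a * u * a * u⁻¹) * (a * u * a * u⁻¹)) * ((a * u * a * u⁻¹)⁻¹ * a) := by group
        _ = b * (a * (a * u * a * u⁻¹)) := by rw [e, h1]
  -- Step 5
  have S5 : ∀ u ∈ coreQ b, ∀ r ∈ coreQ a, r * b = b * r →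
      a * (u⁻¹ * (r * u * r⁻¹)) = (u⁻¹ * (r * u * r⁻¹)) * a := by
    intro u hu r hr hrb
    have hra : r * a = a * r := ha.central r hr
    have hu' : r * u * r⁻¹ ∈ coreQ b := coreQ_norm hrb hu
    have hm : u⁻¹ * (r * u * r⁻¹) ∈ coreQ b := (coreQ b).mul_mem ((coreQ b).inv_mem hu) hu'
    have hy := hyQ u hu
    have hya := S4 u hu
    have hconj : r * (a * u * a * u⁻¹) * r⁻¹ = a * (r * u * r⁻¹) * a * (r * u * r⁻¹)⁻¹ := by
      calc r * (a * u * a * u⁻¹) * r⁻¹ = (r * a) * u * a * u⁻¹ * r⁻¹ := by group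
        _ = a * r * u * a * u⁻¹ * r⁻¹ := by rw [hra]
        _ = a * r * u * (r⁻¹ * (r * a)) * u⁻¹ * r⁻¹ := by group
        _ = a * r * u * (r⁻¹ * (a * r)) * u⁻¹ * r⁻¹ := by rw [hra]
        _ = a * (r * u * r⁻¹) * a * (r * u * r⁻¹)⁻¹ := by group
    rcases PR _ hy hya.symm r hr hrb with e | e
    · have e1 : r * (a * u * a * u⁻¹) * r⁻¹ = a * u * a * u⁻¹ := by rw [← e]; group
      rw [hconj] at e1
      have e2 : (r * u * r⁻¹) * a * (r * u * r⁻¹)⁻¹ = u * a * u⁻¹ := by
        calc (r * u * r⁻¹) * a * (r * u * r⁻¹)⁻¹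
            = a⁻¹ * (a * (r * u * r⁻¹) * a * (r * u * r⁻¹)⁻¹) := by group
          _ = a⁻¹ * (a * u * a * u⁻¹) := by rw [e1]
          _ = u * a * u⁻¹ := by group
      calc a * (u⁻¹ * (r * u * r⁻¹)) = u⁻¹ * (u * a * u⁻¹) * (r * u * r⁻¹) := by group
        _ = u⁻¹ * ((r * u * r⁻¹) * a * (r * u * r⁻¹)⁻¹) * (r * u * r⁻¹) := by rw [e2]
        _ = (u⁻¹ * (r * u * r⁻¹)) * a := by group
    · exfalso
      have e1 : r * (a * u * a * u⁻¹) * r⁻¹ = b * (a * u * a * u⁻¹) := by
        calc r * (a * u * a * u⁻¹) * r⁻¹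
            = b⁻¹ * (b * (r * (a * u * a * u⁻¹))) * r⁻¹ := by group
          _ = b⁻¹ * ((a * u * a * u⁻¹) * r) * r⁻¹ := by rw [← e]
          _ = b * (a * u * a * u⁻¹) := by rw [hbinv]; group
      rw [hconj] at e1
      apply lift _ hm
      have hub : u * b = b * u := hb.central u hu
      have e2 : (r * u * r⁻¹) * a * (r * u * r⁻¹)⁻¹ = b * (u * a * u⁻¹) := by
        calc (r * u * r⁻¹) * a * (r * u * r⁻¹)⁻¹
            = a⁻¹ * (a * (r * u * r⁻¹) * a * (r * u * r⁻¹)⁻¹) := by group
          _ = a⁻¹ * (b * (a * u * a * u⁻¹)) := by rw [e1]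
          _ = a⁻¹ * (b * a) * (u * a * u⁻¹) := by group
          _ = a⁻¹ * (a * b) * (u * a * u⁻¹) := by rw [hba_c]
          _ = b * (u * a * u⁻¹) := by group
      calc (u⁻¹ * (r * u * r⁻¹)) * a
          = u⁻¹ * ((r * u * r⁻¹) * a * (r * u * r⁻¹)⁻¹) * (r * u * r⁻¹) := by group
        _ = u⁻¹ * (b * (u * a * u⁻¹)) * (r * u * r⁻¹) := by rw [e2]
        _ = u⁻¹ * (b * u) * a * u⁻¹ * (r * u * r⁻¹) := by group
        _ = u⁻¹ * (u * b) * a * u⁻¹ * (r * u * r⁻¹) := by rw [hub]
        _ = b * (a * (u⁻¹ * (r * u * r⁻¹))) := by group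
  by_cases hR : ∀ r1 ∈ coreQ a, ∀ r2 ∈ coreQ a, r1 * b = b * r1 → r2 * b = b * r2 →
      r1 * r2 = r2 * r1
  · -- `C_{Q_a}(b)` abelian
    have hRsmall : ∀ r ∈ coreQ a, r * b = b * r → r = 1 ∨ r = a ∨ r = b ∨ r = a * b :=
      fun r hr hrb => cR r hr (fun r' hr' hr'b => hR r hr r' hr' hrb hr'b)
    obtain ⟨u, hu, hua, hu1, hub'⟩ : ∃ u ∈ coreQ b, a * u = u * a ∧ u ≠ 1 ∧ u ≠ b := by
      have hy := hyQ u0 hu0
      have hya := S4 u0 hu0
      by_cases h1 : a * u0 * a * u0⁻¹ = 1
      · refine ⟨u0, hu0, ?_, hu01, hu0b⟩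
        calc a * u0 = (a * u0 * a * u0⁻¹) * u0 * a⁻¹ := by group
          _ = u0 * a := by rw [h1, one_mul, hainv]
      · by_cases h2 : a * u0 * a * u0⁻¹ = b
        · exfalso
          apply lift u0 hu0
          calc u0 * a = a⁻¹ * (a * u0 * a * u0⁻¹) * u0 := by group
            _ = a * b * u0 := by rw [h2, hainv]
            _ = b * (a * u0) := by rw [hab_c]; group
        · exact ⟨_, hy, hya, h1, h2⟩
    have hub : u * b = b * u := hb.central u hu
    have huQa : u ∉ coreQ a := fun h => by
      rcases inter u h hu with e | e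
      · exact hu1 e
      · exact hub' e
    have cent : ∀ w : G, w * a = a * w → w * b = b * w → w * q = q * w → w ∈ coreQ a := by
      intro w hwa hwb hwq
      apply ha.selfCent
      intro t ht
      have small : ∀ r : G, (r = 1 ∨ r = a ∨ r = b ∨ r = a * b) → w * r = r * w := by
        rintro r (rfl | rfl | rfl | rfl)
        · simp
        · exact hwa
        · exact hwb
        · calc w * (a * b) = (w * a) * b := by group
            _ = (a * w) * b := by rw [hwa]
            _ = a * (w * b) := by group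
            _ = a * (b * w) := by rw [hwb]
            _ = a * b * w := by group
      rcases ha.comm t ht b hba with e | e
      · exact small t (hRsmall t ht e)
      · have hta : t * a = a * t := ha.central t ht
        have htq : (t * q) * b = b * (t * q) := tw_mul_tw haa hta e hqb
        have h1 := small _ (hRsmall _ ((coreQ a).mul_mem ht hq) htq)
        calc w * t = (w * (t * q)) * q⁻¹ := by group
          _ = ((t * q) * w) * q⁻¹ := by rw [h1]
          _ = t * (q * w) * q⁻¹ := by group
          _ = t * (w * q) * q⁻¹ := by rw [hwq]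
          _ = t * w := by group
    have hq' : u * q * u⁻¹ ∈ coreQ a := coreQ_norm hua.symm hq
    have hq'a : (u * q * u⁻¹) * a = a * (u * q * u⁻¹) := ha.central _ hq'
    have hq'b : (u * q * u⁻¹) * b = a * (b * (u * q * u⁻¹)) := by
      calc u * q * u⁻¹ * b = u * q * (u⁻¹ * (b * u)) * u⁻¹ := by group
        _ = u * q * (u⁻¹ * (u * b)) * u⁻¹ := by rw [hub]
        _ = u * (q * b) * u⁻¹ := by group
        _ = u * (a * (b * q)) * u⁻¹ := by rw [hqb]
        _ = (u * a) * b * q * u⁻¹ := by group
        _ = (a * u) * b * q * u⁻¹ := by rw [hua]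
        _ = a * (u * b) * q * u⁻¹ := by group
        _ = a * (b * u) * q * u⁻¹ := by rw [hub]
        _ = a * (b * (u * q * u⁻¹)) := by group
    have hρ : u * q * u⁻¹ * q⁻¹ ∈ coreQ a := (coreQ a).mul_mem hq' ((coreQ a).inv_mem hq)
    have hρb : (u * q * u⁻¹ * q⁻¹) * b = b * (u * q * u⁻¹ * q⁻¹) :=
      tw_mul_inv haa hq'a hqa hq'b hqb
    have hsq : (b * q) * (b * q) = a * (q * q) := by
      calc b * q * (b * q) = b * (q * b) * q := by group
        _ = b * (a * (b * q)) * q := by rw [hqb]
        _ = (b * a) * b * (q * q) := by group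
        _ = (a * b) * b * (q * q) := by rw [hba_c]
        _ = a * (b * b) * (q * q) := by group
        _ = a * (q * q) := by rw [hbb, mul_one]
    have hqq : u * (q * q) * u⁻¹ = q * q := by
      rcases ha.sq q hq with e' | e'
      · rw [e']; group
      · rw [e', ← hua]; group
    have fin : ∀ c : G, u * q * u⁻¹ = c * q → (c * q) * (c * q) = a * (q * q) → False := by
      intro c hc hcc
      have h1 : u * (q * q) * u⁻¹ = a * (q * q) := by
        calc u * (q * q) * u⁻¹ = (u * q * u⁻¹) * (u * q * u⁻¹) := by group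
          _ = (c * q) * (c * q) := by rw [hc]
          _ = a * (q * q) := hcc
      rw [hqq] at h1
      apply ha.ne_one
      have h3 : 1 * (q * q) = a * (q * q) := by rw [one_mul]; exact h1
      exact (mul_right_cancel h3).symm
    have huq : ∀ c : G, u * q * u⁻¹ * q⁻¹ = c → u * q * u⁻¹ = c * q := by
      intro c hc
      calc u * q * u⁻¹ = (u * q * u⁻¹ * q⁻¹) * q := by group
        _ = c * q := by rw [hc]
    rcases hRsmall _ hρ hρb with e | e | e | e
    · apply huQa
      apply cent u hua.symm hub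
      have := huq 1 e
      rw [one_mul] at this
      calc u * q = (u * q * u⁻¹) * u := by group
        _ = q * u := by rw [this]
    · apply huQa
      have h1 := huq a e
      have hw : b * u ∈ coreQ a := by
        apply cent
        · calc b * u * a = b * (u * a) := by group
            _ = b * (a * u) := by rw [hua]
            _ = (b * a) * u := by group
            _ = (a * b) * u := by rw [hba_c]
            _ = a * (b * u) := by group
        · calc b * u * b = b * (u * b) := by group
            _ = b * (b * u) := by rw [hub]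
        · calc b * u * q = b * ((u * q * u⁻¹) * u) := by group
            _ = b * ((a * q) * u) := by rw [h1]
            _ = (b * a) * q * u := by group
            _ = (a * b) * q * u := by rw [hba_c]
            _ = a * (b * q) * u := by group
            _ = a * (a * (q * b)) * u := by rw [hbq]
            _ = (a * a) * (q * (b * u)) := by group
            _ = q * (b * u) := by rw [haa, one_mul]
      have := (coreQ a).mul_mem ((coreQ a).inv_mem hba) hw
      have e' : b⁻¹ * (b * u) = u := by group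
      rwa [e'] at this
    · exact fin b (huq b e) hsq
    · refine fin (a * b) (huq _ e) ?_
      calc a * b * q * (a * b * q) = a * (b * (q * a)) * (b * q) := by group
        _ = a * (b * (a * q)) * (b * q) := by rw [hqa]
        _ = a * ((b * a) * q) * (b * q) := by group
        _ = a * ((a * b) * q) * (b * q) := by rw [hba_c]
        _ = (a * a) * ((b * q) * (b * q)) := by group
        _ = a * (q * q) := by rw [haa, one_mul, hsq]
  · -- `C_{Q_a}(b)` nonabelian
    push Not at hR
    obtain ⟨r1, hr1, r2, hr2, hr1b, hr2b, hne12⟩ := hR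
    have h12 : r1 * r2 = a * (r2 * r1) := by
      rcases ha.comm r1 hr1 r2 hr2 with e | e
      · exact absurd e hne12
      · exact e
    have hr1a : r1 * a = a * r1 := ha.central r1 hr1
    have hr2a : r2 * a = a * r2 := ha.central r2 hr2
    apply hab
    apply hb.selfCent
    intro u hu
    have PRrel : ∀ p ∈ coreQ b, p * a = a * p → ∀ r ∈ coreQ a, r * b = b * r →
        (r * p * r⁻¹)⁻¹ * p ∈ pairSub b hbb := by
      intro p hp hpa r hr hrb
      have hpb : p * b = b * p := hb.central p hp
      rcases PR p hp hpa r hr hrb with e | e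
      · left
        have e1 : r * p * r⁻¹ = p := by
          calc r * p * r⁻¹ = (r * p) * r⁻¹ := by group
            _ = (p * r) * r⁻¹ := by rw [e]
            _ = p := by group
        rw [e1]; group
      · right
        have e1 : r * p * r⁻¹ = b⁻¹ * p := by
          calc r * p * r⁻¹ = b⁻¹ * (b * (r * p)) * r⁻¹ := by group
            _ = b⁻¹ * (p * r) * r⁻¹ := by rw [← e]
            _ = b⁻¹ * p := by group
        rw [e1]
        calc (b⁻¹ * p)⁻¹ * p = p⁻¹ * (b * p) := by group
          _ = p⁻¹ * (p * b) := by rw [hpb]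
          _ = b := by group
    obtain ⟨m1, hm1def⟩ : ∃ m, m = u⁻¹ * (r1 * u * r1⁻¹) := ⟨_, rfl⟩
    obtain ⟨m2, hm2def⟩ : ∃ m, m = u⁻¹ * (r2 * u * r2⁻¹) := ⟨_, rfl⟩
    have hm1 : m1 ∈ coreQ b := by
      rw [hm1def]
      exact (coreQ b).mul_mem ((coreQ b).inv_mem hu) (coreQ_norm hr1b hu)
    have hm2 : m2 ∈ coreQ b := by
      rw [hm2def]
      exact (coreQ b).mul_mem ((coreQ b).inv_mem hu) (coreQ_norm hr2b hu)
    have hm1a : m1 * a = a * m1 := by rw [hm1def]; exact (S5 u hu r1 hr1 hr1b).symm
    have hm2a : m2 * a = a * m2 := by rw [hm2def]; exact (S5 u hu r2 hr2 hr2b).symm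
    have R1 := PRrel m2 hm2 hm2a r1 hr1 hr1b
    have R2 := PRrel m1 hm1 hm1a r2 hr2 hr2b
    have R3 : (m1 * m2)⁻¹ * (m2 * m1) ∈ pairSub b hbb := by
      have hc : (m2 * m1) * b = b * (m2 * m1) := hb.central _ ((coreQ b).mul_mem hm2 hm1)
      rcases hb.comm m1 hm1 m2 hm2 with e | e
      · left; rw [e]; group
      · right
        rw [e]
        calc (b * (m2 * m1))⁻¹ * (m2 * m1) = (m2 * m1)⁻¹ * (b⁻¹ * (m2 * m1)) := by group
          _ = (m2 * m1)⁻¹ * (b * (m2 * m1)) := by rw [hbinv]
          _ = (m2 * m1)⁻¹ * ((m2 * m1) * b) := by rw [hc]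
          _ = b := by group
    obtain ⟨X, hXdef⟩ : ∃ X, X = r2 * r1 * u * r1⁻¹ * r2⁻¹ := ⟨_, rfl⟩
    obtain ⟨Y, hYdef⟩ : ∃ Y, Y = r1 * r2 * u * r2⁻¹ * r1⁻¹ := ⟨_, rfl⟩
    have eX : X = u * m2 * (r2 * m1 * r2⁻¹) := by rw [hXdef, hm1def, hm2def]; group
    have eY : Y = u * m1 * (r1 * m2 * r1⁻¹) := by rw [hYdef, hm1def, hm2def]; group
    have RX : X⁻¹ * (u * m2 * m1) ∈ pairSub b hbb := by
      rw [eX]; exact rel_mul_left _ (u * m2) R2
    have RY : Y⁻¹ * (u * m1 * m2) ∈ pairSub b hbb := by
      rw [eY]; exact rel_mul_left _ (u * m1) R1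
    have R3' : (u * m1 * m2)⁻¹ * (u * m2 * m1) ∈ pairSub b hbb := by
      have := rel_mul_left (pairSub b hbb) u R3
      have e1 : u * (m1 * m2) = u * m1 * m2 := by group
      have e2 : u * (m2 * m1) = u * m2 * m1 := by group
      rwa [e1, e2] at this
    have RYX : Y⁻¹ * X ∈ pairSub b hbb := rel_trans _ (rel_trans _ RY R3') (rel_symm _ RX)
    have eYX : Y = a * X * a⁻¹ := by
      rw [hYdef, hXdef]
      calc r1 * r2 * u * r2⁻¹ * r1⁻¹ = (r1 * r2) * u * (r1 * r2)⁻¹ := by group
        _ = (a * (r2 * r1)) * u * (a * (r2 * r1))⁻¹ := by rw [h12]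
        _ = a * (r2 * r1 * u * r1⁻¹ * r2⁻¹) * a⁻¹ := by group
    rw [eYX] at RYX
    have hXQ : X ∈ coreQ b := by
      have := coreQ_norm hr2b (coreQ_norm hr1b hu)
      have e : r2 * (r1 * u * r1⁻¹) * r2⁻¹ = r2 * r1 * u * r1⁻¹ * r2⁻¹ := by group
      rw [hXdef]
      rwa [e] at this
    have RYX' := rel_mul_right hbb hab_c RYX
    have e3 : a * X * a⁻¹ * a = a * X := by group
    rw [e3] at RYX'
    have hXa : a * X = X * a := by
      rcases RYX' with e | e
      · exact inv_mul_eq_one.mp e
      · exfalso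
        apply lift _ hXQ
        have hXb := hb.central _ hXQ
        calc X * a = (a * X) * ((a * X)⁻¹ * (X * a)) := by group
          _ = a * (X * b) := by rw [e]; group
          _ = a * (b * X) := by rw [hXb]
          _ = (a * b) * X := by group
          _ = (b * a) * X := by rw [hab_c]
          _ = b * (a * X) := by group
    have hsa : (r2 * r1) * a = a * (r2 * r1) := by
      calc r2 * r1 * a = r2 * (r1 * a) := by group
        _ = r2 * (a * r1) := by rw [hr1a]
        _ = (r2 * a) * r1 := by group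
        _ = (a * r2) * r1 := by rw [hr2a]
        _ = a * (r2 * r1) := by group
    rw [hXdef] at hXa
    calc a * u = (r2 * r1)⁻¹ * (((r2 * r1) * a) * u * r1⁻¹ * r2⁻¹) * (r2 * r1) := by group
      _ = (r2 * r1)⁻¹ * ((a * (r2 * r1)) * u * r1⁻¹ * r2⁻¹) * (r2 * r1) := by rw [hsa]
      _ = (r2 * r1)⁻¹ * (a * (r2 * r1 * u * r1⁻¹ * r2⁻¹)) * (r2 * r1) := by group
      _ = (r2 * r1)⁻¹ * ((r2 * r1 * u * r1⁻¹ * r2⁻¹) * a) * (r2 * r1) := by rw [hXa]
      _ = u * ((r2 * r1)⁻¹ * (a * (r2 * r1))) := by group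
      _ = u * ((r2 * r1)⁻¹ * ((r2 * r1) * a)) := by rw [hsa]
      _ = u * a := by group

/-- Symmetry of orthogonality for conjugates. -/
theorem symm_core (a g : G) (ha : ES (coreQ a) a) (hba : g * a * g⁻¹ ∈ coreQ a) :
    a ∈ coreQ (g * a * g⁻¹) := by
  have hb : ES (coreQ (g * a * g⁻¹)) (g * a * g⁻¹) := ha.conj g
  by_cases hne : g * a * g⁻¹ = a
  · rw [hne]; exact ha.mem
  · have hu0 : g * (g * a * g⁻¹) * g⁻¹ ∈ coreQ (g * a * g⁻¹) := conj_mem_coreQ g a _ hba
    refine symm_aux a (g * a * g⁻¹) ha hb hba _ hu0 ?_ ?_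
    · intro e
      apply hb.ne_one
      calc g * a * g⁻¹ = g⁻¹ * (g * (g * a * g⁻¹) * g⁻¹) * g := by group
        _ = 1 := by rw [e]; group
    · intro e
      apply hne
      calc g * a * g⁻¹ = g⁻¹ * (g * (g * a * g⁻¹) * g⁻¹) * g := by group
        _ = g⁻¹ * (g * a * g⁻¹) * g := by rw [e]
        _ = a := by group

end Cfsg.Agent.Lib.Helper93
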