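import Mathlib
import Cfsg.Prelude.Def_Sporadic_a

set_option autoImplicit false

namespace Cfsg.Agent.Lib.Helper93

open Finset
open scoped symmDiff

/-- Indicator word of a subset of the 24 coordinates. -/
def ind24 (s : Finset (Fin 24)) : Fin 24 → ZMod 2 := fun i => if i ∈ s then 1 else 0

theorem zmod2_cases (a : ZMod 2) : a = 0 ∨ a = 1 := by revert a; decide

theorem supp_ind24 (s : Finset (Fin 24)) : Cfsg.support₂ (ind24 s) = s := by
  ext i; simp [Cfsg.support₂, ind24]

theorem ind24_supp (w : Fin 24 → ZMod 2) : ind24 (Cfsg.support₂ w) = w := by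
  funext i
  rcases zmod2_cases (w i) with h | h <;> simp [Cfsg.support₂, ind24, h]

theorem ind24_injective : Function.Injective ind24 := fun s t h => by
  rw [← supp_ind24 s, ← supp_ind24 t, h]

theorem ind24_empty : ind24 ∅ = 0 := by funext i; simp [ind24]

theorem ind24_symmDiff (s t : Finset (Fin 24)) : ind24 (s ∆ t) = ind24 s + ind24 t := by
  funext i
  have h2 : (1 : ZMod 2) + 1 = 0 := by decide
  by_cases h1 : i ∈ s <;> by_cases h3 : i ∈ t <;> simp [ind24, Finset.mem_symmDiff, h1, h3, h2]

theorem hammingNorm_eq_supp (w : Fin 24 → ZMod 2) : hammingNorm w = (Cfsg.support₂ w).card := rfl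

theorem hammingNorm_ind24 (s : Finset (Fin 24)) : hammingNorm (ind24 s) = s.card := by
  rw [hammingNorm_eq_supp, supp_ind24]

theorem dot_ind24 (s t : Finset (Fin 24)) :
    ∑ i, ind24 s i * ind24 t i = ((s ∩ t).card : ZMod 2) := by
  have : ∀ i, ind24 s i * ind24 t i = if i ∈ s ∩ t then 1 else 0 := by
    intro i
    by_cases h1 : i ∈ s <;> by_cases h3 : i ∈ t <;> simp [ind24, h1, h3]
  simp only [this]
  rw [Finset.sum_ite_mem, Finset.univ_inter, Finset.sum_const, nsmul_eq_mul, mul_one]

theorem card_symmDiff_add {α : Type*} [DecidableEq α] (s t : Finset α) :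
    (s ∆ t).card + 2 * (s ∩ t).card = s.card + t.card := by
  have h1 : (s ∆ t).card = (s \ t).card + (t \ s).card := by
    rw [Finset.symmDiff_def, Finset.card_union_of_disjoint]
    rw [Finset.disjoint_left]
    intro a ha hb
    simp only [Finset.mem_sdiff] at ha hb
    exact ha.2 hb.1
  have h2 := Finset.card_sdiff_add_card_inter s t
  have h3 := Finset.card_sdiff_add_card_inter t s
  rw [Finset.inter_comm t s] at h3
  omega

/-- The abstract properties of the set-system of a self-dual [24,12,≥8] binary code. -/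
structure GolayLike (S : Set (Finset (Fin 24))) : Prop where
  empty : ∅ ∈ S
  symm : ∀ s ∈ S, ∀ t ∈ S, s ∆ t ∈ S
  even : ∀ s ∈ S, ∀ t ∈ S, Even (s ∩ t).card
  minw : ∀ s ∈ S, s ≠ ∅ → 8 ≤ s.card
  cover : ∀ (p : Fin 24) (t : Finset (Fin 24)), ∃ s ∈ S, ∃ d : Finset (Fin 24),
      (d.card ≤ 3 ∨ (d.card = 4 ∧ p ∈ d)) ∧ t = s ∆ d

theorem card_le4 : (univ.filter (fun d : Finset (Fin 24) => d.card ≤ 4)).card = 12951 := by
  rw [Finset.card_eq_sum_card_fiberwise (f := Finset.card) (t := range 5)]
  · have : ∀ k ∈ range 5, ((univ.filter (fun d : Finset (Fin 24) => d.card ≤ 4)).filter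
        (fun d => d.card = k)) = powersetCard k univ := by
      intro k hk; ext d
      simp only [mem_range] at hk
      simp only [mem_filter, mem_univ, true_and, mem_powersetCard, subset_univ]
      omega
    rw [Finset.sum_congr rfl (fun k hk => by rw [this k hk, card_powersetCard])]
    simp [Finset.sum_range_succ, Nat.choose]
  · intro d hd
    simp only [coe_filter, mem_univ, true_and, Set.mem_ofPred_eq] at hd
    simp only [coe_range, Set.mem_Iio]
    omega

theorem card_D24 (p : Fin 24) :
    (univ.filter (fun d : Finset (Fin 24) => d.card ≤ 3 ∨ (d.card = 4 ∧ p ∈ d))).card = 4096 := by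
  have h1 : univ.filter (fun d : Finset (Fin 24) => d.card ≤ 3 ∨ (d.card = 4 ∧ p ∈ d))
      = (univ.filter (fun d : Finset (Fin 24) => d.card ≤ 4)) \ powersetCard 4 (univ.erase p) := by
    ext d
    simp only [mem_filter, mem_univ, true_and, mem_sdiff, mem_powersetCard]
    constructor
    · rintro (h | ⟨h, hp⟩)
      · exact ⟨by omega, fun h' => by omega⟩
      · refine ⟨by omega, fun h' => ?_⟩
        have := h'.1 hp
        simp at this
    · rintro ⟨h, h'⟩
      by_cases h3 : d.card ≤ 3
      · exact Or.inl h3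
      · refine Or.inr ⟨by omega, ?_⟩
        by_contra hp
        apply h'
        refine ⟨?_, by omega⟩
        intro x hx
        simp only [mem_erase, mem_univ, and_true]
        rintro rfl
        exact hp hx
  have h2 : powersetCard 4 (univ.erase p) ⊆ univ.filter (fun d : Finset (Fin 24) => d.card ≤ 4) := by
    intro d hd
    simp only [mem_powersetCard] at hd
    simp only [mem_filter, mem_univ, true_and]
    omega
  rw [h1, Finset.card_sdiff_of_subset h2, card_le4, card_powersetCard, Finset.card_erase_of_mem (mem_univ p)]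
  simp [Nat.choose]

theorem golayLike_of_code (C : Submodule (ZMod 2) (Fin 24 → ZMod 2))
    (hdim : Module.finrank (ZMod 2) C = 12)
    (horth : ∀ v ∈ C, ∀ w ∈ C, ∑ i, v i * w i = 0)
    (hmin : ∀ w ∈ C, w ≠ 0 → 8 ≤ hammingNorm w) :
    GolayLike {s | ind24 s ∈ C} := by
  have hsymm : ∀ s ∈ {s | ind24 s ∈ C}, ∀ t ∈ {s | ind24 s ∈ C}, s ∆ t ∈ {s | ind24 s ∈ C} := by
    intro s hs t ht
    show ind24 (s ∆ t) ∈ C
    rw [ind24_symmDiff]
    exact C.add_mem hs ht
  have hminw : ∀ s ∈ {s | ind24 s ∈ C}, s ≠ ∅ → 8 ≤ s.card := by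
    intro s hs hne
    have := hmin (ind24 s) hs (fun h => hne (ind24_injective (h.trans ind24_empty.symm)))
    rwa [hammingNorm_ind24] at this
  refine ⟨?_, hsymm, ?_, hminw, ?_⟩
  · show ind24 ∅ ∈ C
    rw [ind24_empty]; exact C.zero_mem
  · intro s hs t ht
    have := horth _ hs _ ht
    rw [dot_ind24, ZMod.natCast_eq_zero_iff] at this
    exact even_iff_two_dvd.mpr this
  · intro p t
    classical
    set D : Finset (Finset (Fin 24)) :=
      univ.filter (fun d : Finset (Fin 24) => d.card ≤ 3 ∨ (d.card = 4 ∧ p ∈ d)) with hD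
    let f : C × D → (Fin 24 → ZMod 2) := fun x => x.1.1 + ind24 x.2.1
    have hinj : Function.Injective f := by
      rintro ⟨⟨c, hc⟩, ⟨d, hd⟩⟩ ⟨⟨c', hc'⟩, ⟨d', hd'⟩⟩ h
      simp only [f] at h
      have h1 : ind24 (d ∆ d') = c - c' := by
        rw [ind24_symmDiff]
        have h2 : ∀ x : Fin 24 → ZMod 2, x + x = 0 := by
          intro x; funext i
          have : ∀ a : ZMod 2, a + a = 0 := by decide
          exact this _
        have : c = c' + ind24 d' - ind24 d := by rw [← h]; abel
        rw [this]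
        have h3 := h2 (ind24 d)
        have h4 : ind24 d = - ind24 d := eq_neg_of_add_eq_zero_left h3
        calc ind24 d + ind24 d' = - ind24 d + ind24 d' := by rw [← h4]
          _ = c' + ind24 d' - ind24 d - c' := by abel
      have h5 : (d ∆ d') ∈ {s | ind24 s ∈ C} := by
        show ind24 (d ∆ d') ∈ C
        rw [h1]; exact C.sub_mem hc hc'
      have h6 : d ∆ d' = ∅ := by
        by_contra hne
        have h7 := hminw _ h5 hne
        have h8 := card_symmDiff_add d d'
        rw [hD] at hd hd'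
        simp only [mem_filter, mem_univ, true_and] at hd hd'
        rcases hd with hd | ⟨hd, hpd⟩
        · rcases hd' with hd' | ⟨hd', hpd'⟩ <;> omega
        · rcases hd' with hd' | ⟨hd', hpd'⟩
          · omega
          · have : 1 ≤ (d ∩ d').card := Finset.card_pos.mpr ⟨p, mem_inter.mpr ⟨hpd, hpd'⟩⟩
            omega
      have h9 : d = d' := Finset.symmDiff_eq_empty.mp h6
      subst h9
      have h10 : c = c' := add_right_cancel h
      subst h10
      rfl
    have hcard : Fintype.card (C × D) = Fintype.card (Fin 24 → ZMod 2) := by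
      rw [Fintype.card_prod, Module.card_eq_pow_finrank (K := ZMod 2) (V := C), hdim,
        Fintype.card_coe, hD, card_D24, Fintype.card_fun, ZMod.card, Fintype.card_fin]
      norm_num
    have hsurj := ((Fintype.bijective_iff_injective_and_card f).2 ⟨hinj, hcard⟩).2
    obtain ⟨⟨⟨c, hc⟩, ⟨d, hd⟩⟩, h⟩ := hsurj (ind24 t)
    simp only [f] at h
    refine ⟨Cfsg.support₂ c, ?_, d, ?_, ?_⟩
    · show ind24 (Cfsg.support₂ c) ∈ C
      rw [ind24_supp]; exact hc
    · rw [hD] at hd
      simpa only [mem_filter, mem_univ, true_and] using hd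
    · apply ind24_injective
      rw [ind24_symmDiff, ind24_supp, h]

namespace GolayLike

variable {S : Set (Finset (Fin 24))}

theorem octad_exists (h : GolayLike S) (T : Finset (Fin 24)) (hT : T.card = 5) :
    ∃ o ∈ S, o.card = 8 ∧ T ⊆ o := by
  have hne : T.Nonempty := Finset.card_pos.mp (by omega)
  obtain ⟨p, hp⟩ := hne
  obtain ⟨s, hs, d, hd, hT'⟩ := h.cover p T
  have hsd : s = T ∆ d := by
    rw [hT', symmDiff_assoc, symmDiff_self, symmDiff_bot]
  have hcard := card_symmDiff_add T d
  rw [← hsd] at hcard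
  have hsne : s ≠ ∅ := by
    rintro rfl
    rw [Finset.card_empty] at hcard
    have : (T ∩ d).card ≤ d.card := Finset.card_le_card Finset.inter_subset_right
    rcases hd with hd | ⟨hd, _⟩ <;> omega
  have h8 := h.minw s hs hsne
  have hTd : (T ∩ d).card = 0 ∧ s.card = 8 := by
    rcases hd with hd | ⟨hd, hpd⟩
    · omega
    · have : 1 ≤ (T ∩ d).card := Finset.card_pos.mpr ⟨p, mem_inter.mpr ⟨hp, hpd⟩⟩
      omega
  refine ⟨s, hs, hTd.2, ?_⟩
  have hdisj : T ∩ d = ∅ := Finset.card_eq_zero.mp hTd.1
  intro x hx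
  rw [hsd, Finset.mem_symmDiff]
  left
  refine ⟨hx, fun hxd => ?_⟩
  have : x ∈ T ∩ d := mem_inter.mpr ⟨hx, hxd⟩
  rw [hdisj] at this
  simp at this

theorem octad_unique (h : GolayLike S) (T : Finset (Fin 24)) (hT : T.card = 5)
    (o o' : Finset (Fin 24)) (ho : o ∈ S) (ho8 : o.card = 8) (hTo : T ⊆ o)
    (ho' : o' ∈ S) (ho8' : o'.card = 8) (hTo' : T ⊆ o') : o = o' := by
  by_contra hne
  have h1 := h.symm o ho o' ho'
  have h2 : o ∆ o' ≠ ∅ := fun h3 => hne (Finset.symmDiff_eq_empty.mp h3)
  have h3 := h.minw _ h1 h2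
  have h4 := card_symmDiff_add o o'
  have h5 : T.card ≤ (o ∩ o').card := Finset.card_le_card (Finset.subset_inter hTo hTo')
  omega

/-- Induction principle: every member of `S` is obtained from `∅` by successively adding octads. -/
theorem induction (h : GolayLike S) (P : Finset (Fin 24) → Prop) (h0 : P ∅)
    (hstep : ∀ s o, s ∈ S → P s → o ∈ S → o.card = 8 → P (s ∆ o)) :
    ∀ s ∈ S, P s := by
  have key : ∀ n : ℕ, ∀ s ∈ S, s.card = n → P s := by
    intro n
    induction n using Nat.strong_induction_on with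
    | _ n ih =>
      intro s hs hn
      by_cases hse : s = ∅
      · rw [hse]; exact h0
      · have h8 := h.minw s hs hse
        obtain ⟨T, hTs, hT⟩ := Finset.exists_subset_card_eq (s := s) (n := 5) (by omega)
        obtain ⟨o, ho, ho8, hTo⟩ := h.octad_exists T hT
        have h1 := h.symm s hs o ho
        have h4 := card_symmDiff_add s o
        have h5 : T.card ≤ (s ∩ o).card := Finset.card_le_card (Finset.subset_inter hTs hTo)
        have h6 : (s ∆ o).card < n := by omega
        have h7 := ih _ h6 _ h1 rfl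
        have h9 := hstep _ o h1 h7 ho ho8
        rwa [symmDiff_assoc, symmDiff_self, symmDiff_bot] at h9
  intro s hs
  exact key _ s hs rfl

theorem doubly_even (h : GolayLike S) : ∀ s ∈ S, 4 ∣ s.card := by
  apply h.induction (fun s => 4 ∣ s.card)
  · simp
  · intro s o hs hP ho ho8
    have h4 := card_symmDiff_add s o
    obtain ⟨k, hk⟩ := h.even s hs o ho
    obtain ⟨m, hm⟩ := hP
    show 4 ∣ (s ∆ o).card
    omega

/-- Coset leaders: for every set `t`, the set of `u` of size at most 4 with `u ∆ t ∈ S` is either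
a single set of size at most 3 or a partition of the 24 points into six 4-sets. -/
theorem coset_leaders (h : GolayLike S) (t : Finset (Fin 24)) :
    (∃ u : Finset (Fin 24), (∀ u', (u' ∆ t ∈ S ∧ u'.card ≤ 4) ↔ u' = u) ∧ u.card ≤ 3) ∨
    (∃ L : Finset (Finset (Fin 24)), L.card = 6 ∧ (∀ u', (u' ∆ t ∈ S ∧ u'.card ≤ 4) ↔ u' ∈ L) ∧
      (∀ u ∈ L, u.card = 4 ∧ ∀ u' ∈ L, u ≠ u' → Disjoint u u')) := by
  classical
  -- membership is decidable classically
  set L : Finset (Finset (Fin 24)) := univ.filter (fun u => u ∆ t ∈ S ∧ u.card ≤ 4) with hL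
  have hmem : ∀ u', (u' ∆ t ∈ S ∧ u'.card ≤ 4) ↔ u' ∈ L := by
    intro u'; rw [hL]; simp
  have hdiff : ∀ u ∈ L, ∀ u' ∈ L, u ∆ u' ∈ S := by
    intro u hu u' hu'
    have h1 := ((hmem u).2 hu).1
    have h2 := ((hmem u').2 hu').1
    have h3 := h.symm _ h1 _ h2
    have h4 : (u ∆ t) ∆ (u' ∆ t) = u ∆ u' := by
      rw [symmDiff_comm u' t, symmDiff_assoc, ← symmDiff_assoc t t u', symmDiff_self, bot_symmDiff]
    rwa [h4] at h3
  by_cases hex : ∃ u ∈ L, u.card ≤ 3
  · left
    obtain ⟨u, hu, hu3⟩ := hex
    refine ⟨u, ?_, hu3⟩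
    intro u'
    rw [hmem]
    constructor
    · intro hu'
      by_contra hne
      have h1 := hdiff u' hu' u hu
      have h2 : u' ∆ u ≠ ∅ := fun h3 => hne (Finset.symmDiff_eq_empty.mp h3)
      have h3 := h.minw _ h1 h2
      have h4 := card_symmDiff_add u' u
      have h5 := ((hmem u').2 hu').2
      omega
    · rintro rfl; exact hu
  · right
    push Not at hex
    have h4all : ∀ u ∈ L, u.card = 4 := by
      intro u hu
      have := hex u hu
      have h5 := ((hmem u).2 hu).2
      omega
    have hdisj : ∀ u ∈ L, ∀ u' ∈ L, u ≠ u' → Disjoint u u' := by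
      intro u hu u' hu' hne
      have h1 := hdiff u hu u' hu'
      have h2 : u ∆ u' ≠ ∅ := fun h3 => hne (Finset.symmDiff_eq_empty.mp h3)
      have h3 := h.minw _ h1 h2
      have h4 := card_symmDiff_add u u'
      have h5 := h4all u hu
      have h6 := h4all u' hu'
      have h7 : (u ∩ u').card = 0 := by omega
      rw [Finset.disjoint_iff_inter_eq_empty]
      exact Finset.card_eq_zero.mp h7
    have hcov : L.biUnion id = univ := by
      ext p
      simp only [mem_biUnion, id, mem_univ, iff_true]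
      obtain ⟨s, hs, d, hd, ht⟩ := h.cover p t
      have hdL : d ∈ L := by
        rw [← hmem]
        refine ⟨?_, by rcases hd with hd | ⟨hd, _⟩ <;> omega⟩
        rw [ht, symmDiff_comm s d, ← symmDiff_assoc, symmDiff_self, bot_symmDiff]
        exact hs
      refine ⟨d, hdL, ?_⟩
      rcases hd with hd | ⟨_, hpd⟩
      · have := hex d hdL; omega
      · exact hpd
    have hcard : (L.biUnion id).card = ∑ u ∈ L, u.card := by
      rw [Finset.card_biUnion]
      · rfl
      · intro u hu u' hu' hne
        exact hdisj u hu u' hu' hne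
    rw [hcov, Finset.card_univ, Fintype.card_fin, Finset.sum_congr rfl h4all, Finset.sum_const,
      smul_eq_mul] at hcard
    refine ⟨L, by omega, hmem, fun u hu => ⟨h4all u hu, fun u' hu' hne => hdisj u hu u' hu' hne⟩⟩

end GolayLike

end Cfsg.Agent.Lib.Helper93
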