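import Cfsg.Agent.Lib.Helper93.SRGc

set_option autoImplicit false

namespace Cfsg.Agent.Lib.Helper93.HSG

open Cfsg.Agent.Lib.Helper93.P4

/-- Any two strongly regular graphs with parameters `(100, 22, 0, 6)` are isomorphic. -/
theorem srg100_iso {V W : Type*} [Fintype V] [Fintype W] {G : SimpleGraph V}
    {H : SimpleGraph W} [DecidableRel G.Adj] [DecidableRel H.Adj]
    (hG : G.IsSRGWith 100 22 0 6) (hH : H.IsSRGWith 100 22 0 6) : Nonempty (G ≃g H) := by
  classical
  have S := Srg.of_isSRGWith hG
  have S' := Srg.of_isSRGWith hH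
  obtain ⟨v0⟩ : Nonempty V := by
    rw [← Fintype.card_pos_iff, S.card]
    norm_num
  obtain ⟨w0⟩ : Nonempty W := by
    rw [← Fintype.card_pos_iff, S'.card]
    norm_num
  obtain ⟨e, he⟩ := Cfsg.Agent.Lib.Helper93.Der.steiner22_iso (S.card_pts v0) (S'.card_pts w0)
    (S.local_steiner v0) (S'.local_steiner w0)
  obtain ⟨φ, -, -⟩ := S.extend S' v0 w0 e he
  exact ⟨φ⟩

/-- The automorphism group of a strongly regular graph with parameters `(100, 22, 0, 6)` has
order `88704000`. -/
theorem srg100_aut_card {V : Type*} [Fintype V] {G : SimpleGraph V} [DecidableRel G.Adj]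
    (hG : G.IsSRGWith 100 22 0 6) : Nat.card (G ≃g G) = 88704000 := by
  classical
  have S := Srg.of_isSRGWith hG
  obtain ⟨v0⟩ : Nonempty V := by
    rw [← Fintype.card_pos_iff, S.card]
    norm_num
  have : MulAction.IsPretransitive (G ≃g G) V := by
    refine ⟨fun x y => ?_⟩
    obtain ⟨e, he⟩ := Cfsg.Agent.Lib.Helper93.Der.steiner22_iso (S.card_pts x) (S.card_pts y)
      (S.local_steiner x) (S.local_steiner y)
    obtain ⟨φ, hφ, -⟩ := S.extend S x y e he
    exact ⟨φ, hφ⟩
  have hidx := MulAction.index_stabilizer_of_transitive (G ≃g G) v0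
  have hmul := Subgroup.index_mul_card (MulAction.stabilizer (G ≃g G) v0)
  have hstab : Nat.card (MulAction.stabilizer (G ≃g G) v0) = 887040 := by
    have hA := (Cfsg.Agent.Lib.Helper93.Der.aut22 (S.card_pts v0) (S.local_steiner v0)).1
    rw [← hA]
    have hfix : ∀ φ : MulAction.stabilizer (G ≃g G) v0, φ.1 v0 = v0 := fun φ => φ.2
    have hfix' : ∀ φ : MulAction.stabilizer (G ≃g G) v0, φ.1.symm v0 = v0 := fun φ => by
      have := hfix φ
      rw [RelIso.symm_apply_eq]
      exact this.symm
    let r : MulAction.stabilizer (G ≃g G) v0 → Equiv.Perm (Pts G v0) := fun φ =>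
      { toFun := fun p => ⟨φ.1 p.1, by
          have := φ.1.map_rel_iff.mpr p.2
          rwa [hfix φ] at this⟩
        invFun := fun p => ⟨φ.1.symm p.1, by
          have := φ.1.symm.map_rel_iff.mpr p.2
          rwa [hfix' φ] at this⟩
        left_inv := fun p => Subtype.ext (φ.1.symm_apply_apply p.1)
        right_inv := fun p => Subtype.ext (φ.1.apply_symm_apply p.1) }
    have hr_mem : ∀ φ, r φ ∈ Cfsg.setSystemAut (design G v0) := by
      intro φ
      apply Cfsg.Agent.Lib.Helper93.Der.aut_of_maps
      rintro _ ⟨b, hb0, hb, rfl⟩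
      refine ⟨φ.1 b, ?_, ?_, ?_⟩
      · intro h
        apply hb0
        exact φ.1.injective (h.trans (hfix φ).symm)
      · intro h
        apply hb
        have h2 : G.Adj (φ.1 v0) (φ.1 b) := by
          rw [hfix φ]
          exact h
        exact φ.1.map_rel_iff.mp h2
      · ext q
        rw [Finset.mem_image, mem_blk]
        constructor
        · rintro ⟨p, hp, rfl⟩
          rw [mem_blk] at hp
          exact φ.1.map_rel_iff.mpr hp
        · intro hq
          refine ⟨(r φ).symm q, ?_, Equiv.apply_symm_apply _ _⟩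
          rw [mem_blk]
          have : G.Adj (φ.1 b) (φ.1 (φ.1.symm q.1)) := by
            rw [RelIso.apply_symm_apply]
            exact hq
          exact φ.1.map_rel_iff.mp this
    apply Nat.card_eq_of_bijective
      (fun φ => (⟨r φ, hr_mem φ⟩ : Cfsg.setSystemAut (design G v0)))
    constructor
    · intro φ φ' h
      have h' : r φ = r φ' := congrArg Subtype.val h
      apply Subtype.ext
      apply S.ext_unique (v0 := v0)
      · rw [hfix φ, hfix φ']
      · intro p hp
        have := congrArg (fun σ : Equiv.Perm (Pts G v0) => (σ ⟨p, hp⟩).1) h'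
        exact this
    · intro g
      have he : (fun s : Finset (Pts G v0) => s.image g.1) '' design G v0 = design G v0 :=
        (aut_iff g.1).mp g.2
      obtain ⟨φ, hφ0, hφp⟩ := S.extend S v0 v0 g.1 he
      refine ⟨⟨φ, hφ0⟩, ?_⟩
      apply Subtype.ext
      apply Equiv.ext
      intro p
      apply Subtype.ext
      exact hφp p
  rw [hidx, hstab, Nat.card_eq_fintype_card, S.card] at hmul
  omega

end Cfsg.Agent.Lib.Helper93.HSG
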