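import Mathlib
import Cfsg.Prelude.Def_Sporadic_a

set_option autoImplicit false

namespace Cfsg.Agent.Lib.Helper93

open Finset

variable {α : Type*} [DecidableEq α]

/-- Number of `t`-subsets of `b` containing `W`. -/
theorem card_powersetCard_filter_superset (b W : Finset α) (hWb : W ⊆ b) (t : ℕ)
    (hW : W.card ≤ t) :
    ((powersetCard t b).filter (fun T => W ⊆ T)).card = (b.card - W.card).choose (t - W.card) := by
  rw [← card_sdiff_of_subset hWb, ← card_powersetCard]
  apply Finset.card_nbij' (fun T => T \ W) (fun S => S ∪ W)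
  · intro T hT
    simp only [coe_filter, mem_powersetCard, Set.mem_ofPred_eq] at hT
    simp only [mem_coe, mem_powersetCard]
    refine ⟨sdiff_subset_sdiff hT.1.1 (subset_refl _), ?_⟩
    rw [card_sdiff_of_subset hT.2, hT.1.2]
  · intro S hS
    simp only [mem_coe, mem_powersetCard] at hS
    simp only [coe_filter, mem_powersetCard, Set.mem_ofPred_eq]
    have hdisj : Disjoint S W := by
      rw [Finset.disjoint_left]
      intro x hx hxW
      exact (mem_sdiff.mp (hS.1 hx)).2 hxW
    refine ⟨⟨union_subset (hS.1.trans sdiff_subset) hWb, ?_⟩, subset_union_right⟩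
    rw [card_union_of_disjoint hdisj, hS.2]
    omega
  · intro T hT
    simp only [coe_filter, mem_powersetCard, Set.mem_ofPred_eq] at hT
    exact Finset.sdiff_union_of_subset hT.2
  · intro S hS
    simp only [mem_coe, mem_powersetCard] at hS
    have hdisj : Disjoint S W := by
      rw [Finset.disjoint_left]
      intro x hx hxW
      exact (mem_sdiff.mp (hS.1 hx)).2 hxW
    exact Finset.union_sdiff_cancel_right hdisj

/-- Double counting of incidences `T ⊆ b`. -/
theorem sum_card_filter_subset_comm (s Bf : Finset (Finset α)) :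
    ∑ T ∈ s, (Bf.filter (fun b => T ⊆ b)).card = ∑ b ∈ Bf, (s.filter (fun T => T ⊆ b)).card := by
  simp only [Finset.card_filter]
  exact Finset.sum_comm

/-- In a Steiner system `S(t,k,v)`, the number `λ` of blocks containing a given set `W` of size
`i ≤ t` satisfies `λ * C(k-i, t-i) = C(v-i, t-i)`. -/
theorem steiner_lambda [Fintype α] {t k : ℕ} {B : Set (Finset α)}
    (hB : Cfsg.IsSteinerSystem t k B) (Bf : Finset (Finset α)) (hBf : ∀ b, b ∈ Bf ↔ b ∈ B)
    (W : Finset α) (hW : W.card ≤ t) :
    (Bf.filter (fun b => W ⊆ b)).card * (k - W.card).choose (t - W.card)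
      = (Fintype.card α - W.card).choose (t - W.card) := by
  set s : Finset (Finset α) := (powersetCard t univ).filter (fun T => W ⊆ T) with hs
  have hs_card : s.card = (Fintype.card α - W.card).choose (t - W.card) := by
    rw [hs, card_powersetCard_filter_superset univ W (subset_univ _) t hW, Finset.card_univ]
  have h1 : ∑ T ∈ s, (Bf.filter (fun b => T ⊆ b)).card = s.card := by
    rw [Finset.card_eq_sum_ones]
    apply Finset.sum_congr rfl
    intro T hT
    rw [hs] at hT
    simp only [mem_filter, mem_powersetCard] at hT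
    obtain ⟨b, ⟨hbB, hTb⟩, huniq⟩ := hB.2 T hT.1.2
    rw [Finset.card_eq_one]
    refine ⟨b, ?_⟩
    ext b'
    simp only [mem_filter, mem_singleton, hBf]
    constructor
    · intro h; exact huniq b' h
    · rintro rfl; exact ⟨hbB, hTb⟩
  have h2 : ∑ b ∈ Bf, (s.filter (fun T => T ⊆ b)).card =
      (Bf.filter (fun b => W ⊆ b)).card * (k - W.card).choose (t - W.card) := by
    rw [Finset.card_eq_sum_ones, Finset.sum_mul, Finset.sum_filter]
    apply Finset.sum_congr rfl
    intro b hb
    have hbk : b.card = k := hB.1 b ((hBf b).1 hb)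
    by_cases hWb : W ⊆ b
    · rw [if_pos hWb, one_mul, ← hbk, ← card_powersetCard_filter_superset b W hWb t hW]
      congr 1
      ext T
      simp only [hs, mem_filter, mem_powersetCard, subset_univ, true_and]
      tauto
    · rw [if_neg hWb]
      rw [Finset.card_eq_zero]
      ext T
      simp only [hs, mem_filter, mem_powersetCard, subset_univ, true_and]
      constructor
      · rintro ⟨⟨_, hWT⟩, hTb⟩; exact absurd (hWT.trans hTb) hWb
      · intro h; simp at h
  rw [← h2, ← sum_card_filter_subset_comm, h1, hs_card]

/-- Counting incidences between blocks and `j`-subsets of a fixed set `Y`. -/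
theorem sum_choose_inter (Bf : Finset (Finset α)) (Y : Finset α) (j : ℕ) :
    ∑ b ∈ Bf, (b ∩ Y).card.choose j
      = ∑ W ∈ powersetCard j Y, (Bf.filter (fun b => W ⊆ b)).card := by
  rw [sum_card_filter_subset_comm]
  apply Finset.sum_congr rfl
  intro b _
  rw [← card_powersetCard]
  congr 1
  ext W
  simp only [mem_filter, mem_powersetCard, subset_inter_iff]
  tauto

/-- Grouping a sum over blocks by the size of the intersection with `Y`. -/
theorem sum_by_inter_card (Bf : Finset (Finset α)) (Y : Finset α) (f : ℕ → ℕ) :
    ∑ b ∈ Bf, f (b ∩ Y).card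
      = ∑ i ∈ range (Y.card + 1), (Bf.filter (fun b => (b ∩ Y).card = i)).card * f i := by
  rw [← Finset.sum_fiberwise_of_maps_to (g := fun b => (b ∩ Y).card) (t := range (Y.card + 1))]
  · apply Finset.sum_congr rfl
    intro i _
    rw [Finset.card_eq_sum_ones, Finset.sum_mul]
    apply Finset.sum_congr rfl
    intro b hb
    rw [(mem_filter.mp hb).2, one_mul]
  · intro b _
    rw [mem_range]
    have := Finset.card_le_card (Finset.inter_subset_right (s₁ := b) (s₂ := Y))
    omega

end Cfsg.Agent.Lib.Helper93
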