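import Cfsg.Agent.Lib.Helper93.OctadGraph
import Cfsg.Agent.Lib.Helper93.Steiner
import Cfsg.Prelude.Def_SporadicCombinatorics

set_option autoImplicit false

namespace Cfsg.Agent.Lib.Helper93

open Finset

/-- The finset of octads. -/
noncomputable def octadFinset : Finset (Finset Cfsg.GolayPt) :=
  @Finset.filter _ (· ∈ Cfsg.octads) (Classical.decPred _) Finset.univ

theorem mem_octadFinset (o : Finset Cfsg.GolayPt) : o ∈ octadFinset ↔ o ∈ Cfsg.octads := by
  simp [octadFinset]

theorem card_octads_through_tetrad {t : Finset Cfsg.GolayPt} (ht : t.card = 4) :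
    (octadFinset.filter (fun o => t ⊆ o)).card = 5 := by
  have h := steiner_lambda octads_steiner octadFinset mem_octadFinset t (by omega)
  rw [ht, card_golayPt] at h
  norm_num at h
  omega

/-- The sextet of a tetrad. -/
noncomputable def sextetOf (t : Finset Cfsg.GolayPt) : Finset (Finset Cfsg.GolayPt) :=
  insert t ((octadFinset.filter (fun o => t ⊆ o)).image (fun o => o \ t))

theorem self_mem_sextetOf (t : Finset Cfsg.GolayPt) : t ∈ sextetOf t :=
  Finset.mem_insert_self _ _

theorem mem_sextetOf {t u : Finset Cfsg.GolayPt} :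
    u ∈ sextetOf t ↔ u = t ∨ ∃ o ∈ Cfsg.octads, t ⊆ o ∧ o \ t = u := by
  unfold sextetOf
  rw [Finset.mem_insert, Finset.mem_image]
  constructor
  · rintro (h | ⟨o, ho, h⟩)
    · exact Or.inl h
    · rw [Finset.mem_filter, mem_octadFinset] at ho
      exact Or.inr ⟨o, ho.1, ho.2, h⟩
  · rintro (h | ⟨o, ho, hto, h⟩)
    · exact Or.inl h
    · exact Or.inr ⟨o, by rw [Finset.mem_filter, mem_octadFinset]; exact ⟨ho, hto⟩, h⟩

theorem sextetOf_mem {t : Finset Cfsg.GolayPt} (ht : t.card = 4) :
    sextetOf t ∈ Cfsg.sextets := by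
  refine ⟨?_, ?_, ?_⟩
  · unfold sextetOf
    rw [Finset.card_insert_of_notMem, Finset.card_image_of_injOn, card_octads_through_tetrad ht]
    · intro o ho o' ho' h
      simp only [Finset.coe_filter, Set.mem_ofPred_eq] at ho ho'
      have h' : o \ t = o' \ t := h
      rw [← Finset.sdiff_union_of_subset ho.2, ← Finset.sdiff_union_of_subset ho'.2, h']
    · intro hmem
      rw [Finset.mem_image] at hmem
      obtain ⟨o, -, h⟩ := hmem
      have : t = ∅ := by
        apply Finset.eq_empty_of_forall_notMem
        intro x hx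
        have hx' : x ∈ o \ t := by rw [h]; exact hx
        exact (Finset.mem_sdiff.mp hx').2 hx
      rw [this] at ht
      simp at ht
  · intro u hu
    rw [mem_sextetOf] at hu
    rcases hu with rfl | ⟨o, ho, hto, rfl⟩
    · exact ht
    · rw [Finset.card_sdiff_of_subset hto, octad_card ho, ht]
  · intro u hu v hv hne
    rw [mem_sextetOf] at hu hv
    rcases hu with rfl | ⟨o, ho, hto, rfl⟩ <;> rcases hv with rfl | ⟨o', ho', hto', rfl⟩
    · exact absurd rfl hne
    · rw [Finset.union_sdiff_of_subset hto']; exact ho'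
    · rw [Finset.union_comm, Finset.union_sdiff_of_subset hto]; exact ho
    · have hoo : o' ≠ o := by rintro rfl; exact hne rfl
      have hi : o' ∩ o = t := octad_inter_eq_of_subset ho ho' hoo ht hto hto'
      have hsd : o \ t ∪ o' \ t = symmDiff o o' := by
        ext x
        rw [Finset.mem_union, Finset.mem_sdiff, Finset.mem_sdiff, Finset.mem_symmDiff, ← hi,
          Finset.mem_inter]
        tauto
      rw [hsd]
      exact octad_symmDiff ho ho' (by rw [Finset.inter_comm, hi, ht])

theorem sextet_eq_sextetOf {S : Finset (Finset Cfsg.GolayPt)} (hS : S ∈ Cfsg.sextets)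
    {t : Finset Cfsg.GolayPt} (ht : t ∈ S) : S = sextetOf t := by
  obtain ⟨hcard, h4, hoct⟩ := hS
  have ht4 := h4 t ht
  apply Finset.eq_of_subset_of_card_le
  · intro u hu
    rw [mem_sextetOf]
    by_cases hut : u = t
    · exact Or.inl hut
    · right
      have ho := hoct t ht u hu (Ne.symm hut)
      have hd : Disjoint t u := by
        rw [Finset.disjoint_iff_inter_eq_empty, ← Finset.card_eq_zero]
        have := Finset.card_union_add_card_inter t u
        rw [octad_card ho, ht4, h4 u hu] at this
        omega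
      exact ⟨t ∪ u, ho, Finset.subset_union_left, Finset.union_sdiff_cancel_left hd⟩
  · rw [hcard, (sextetOf_mem ht4).1]

theorem existsUnique_sextet {t : Finset Cfsg.GolayPt} (ht : t.card = 4) :
    ∃! S : Finset (Finset Cfsg.GolayPt), S ∈ Cfsg.sextets ∧ t ∈ S :=
  ⟨sextetOf t, ⟨sextetOf_mem ht, self_mem_sextetOf t⟩, fun _ h => sextet_eq_sextetOf h.1 h.2⟩

theorem ncard_sextets : Cfsg.sextets.ncard = 1771 := by
  classical
  set Sf : Finset (Finset (Finset Cfsg.GolayPt)) := Finset.univ.filter (· ∈ Cfsg.sextets) with hSf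
  have hSfmem : ∀ S, S ∈ Sf ↔ S ∈ Cfsg.sextets := by intro S; simp [hSf]
  set Q : Finset (Finset Cfsg.GolayPt) := Finset.powersetCard 4 Finset.univ with hQ
  have hQcard : Q.card = 10626 := by
    rw [hQ, Finset.card_powersetCard, Finset.card_univ, card_golayPt]
    rfl
  have hcomm : ∑ S ∈ Sf, (Q.filter (fun t => t ∈ S)).card
      = ∑ t ∈ Q, (Sf.filter (fun S => t ∈ S)).card := by
    simp only [Finset.card_filter]
    exact Finset.sum_comm
  have h6 : ∀ S ∈ Sf, (Q.filter (fun t => t ∈ S)).card = 6 := by
    intro S hS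
    have hS' := (hSfmem S).1 hS
    have : Q.filter (fun t => t ∈ S) = S := by
      ext t
      rw [Finset.mem_filter, hQ, Finset.mem_powersetCard]
      constructor
      · exact fun h => h.2
      · exact fun h => ⟨⟨Finset.subset_univ _, hS'.2.1 t h⟩, h⟩
    rw [this, hS'.1]
  have h1 : ∀ t ∈ Q, (Sf.filter (fun S => t ∈ S)).card = 1 := by
    intro t ht
    rw [hQ, Finset.mem_powersetCard] at ht
    have : Sf.filter (fun S => t ∈ S) = {sextetOf t} := by
      ext S
      rw [Finset.mem_filter, Finset.mem_singleton, hSfmem]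
      constructor
      · exact fun h => sextet_eq_sextetOf h.1 h.2
      · rintro rfl
        exact ⟨sextetOf_mem ht.2, self_mem_sextetOf t⟩
    rw [this, Finset.card_singleton]
  rw [Finset.sum_congr rfl h6, Finset.sum_congr rfl h1, Finset.sum_const, Finset.sum_const,
    smul_eq_mul, smul_eq_mul, hQcard] at hcomm
  have hSfcard : Sf.card = 1771 := by
    have h := hcomm
    clear_value Sf Q
    omega
  have hset : Cfsg.sextets = (↑Sf : Set (Finset (Finset Cfsg.GolayPt))) := by
    ext S
    rw [Finset.mem_coe]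
    exact (hSfmem S).symm
  rw [hset, Set.ncard_coe_finset]
  exact hSfcard

end Cfsg.Agent.Lib.Helper93
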