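import Cfsg.Agent.Lib.Helper93.W24b

set_option autoImplicit false

namespace Cfsg.Agent.Lib.Helper93.AutTr

open Cfsg.Agent.Lib.Helper93.P4 Cfsg.Agent.Lib.Helper93.W24

variable {α β : Type*} [DecidableEq α] [DecidableEq β] {B : Set (Finset α)}
  {B' : Set (Finset β)}

omit [DecidableEq α] in
theorem image_symm_eq (e : α ≃ β) (he : (fun b : Finset α => b.image e) '' B = B') [DecidableEq α] :
    (fun b : Finset β => b.image e.symm) '' B' = B := by
  obtain ⟨e', he'⟩ := iso_symm (⟨e, he⟩ : Cfsg.SetSystemIso B B')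
  subst he
  have hb : ∀ b : Finset α, (b.image e).image e.symm = b := by
    intro b
    ext x
    rw [Finset.mem_image]
    constructor
    · rintro ⟨y, hy, rfl⟩
      obtain ⟨z, hz, rfl⟩ := Finset.mem_image.mp hy
      rw [Equiv.symm_apply_apply]
      exact hz
    · intro hx
      exact ⟨e x, Finset.mem_image_of_mem _ hx, Equiv.symm_apply_apply _ _⟩
  ext b
  constructor
  · rintro ⟨_, ⟨c, hc, rfl⟩, rfl⟩
    show (c.image e).image e.symm ∈ B
    rw [hb]
    exact hc
  · intro hbB
    exact ⟨b.image e, ⟨b, hbB, rfl⟩, hb b⟩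

/-- Conjugating an automorphism by an isomorphism of set systems. -/
theorem conj_mem (e : α ≃ β) (he : (fun b : Finset α => b.image e) '' B = B')
    {g : Equiv.Perm α} (hg : g ∈ Cfsg.setSystemAut B) :
    e.permCongr g ∈ Cfsg.setSystemAut B' := by
  rw [aut_iff] at hg ⊢
  have key : ∀ b : Finset α, (b.image e).image (e.permCongr g) = (b.image g).image e := by
    intro b
    rw [Finset.image_image, Finset.image_image]
    apply Finset.image_congr
    intro x _
    simp [Equiv.permCongr_apply]
  subst he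
  ext c
  constructor
  · rintro ⟨_, ⟨b, hb, rfl⟩, rfl⟩
    show (b.image e).image (e.permCongr g) ∈ _
    rw [key]
    refine ⟨b.image g, ?_, rfl⟩
    rw [← hg]
    exact ⟨b, hb, rfl⟩
  · rintro ⟨b, hb, rfl⟩
    rw [← hg] at hb
    obtain ⟨b0, hb0, rfl⟩ := hb
    refine ⟨b0.image e, ⟨b0, hb0, rfl⟩, ?_⟩
    show (b0.image e).image (e.permCongr g) = (b0.image g).image e
    exact key b0

/-- The isomorphism of automorphism groups induced by an isomorphism of set systems. -/
noncomputable def autEquiv (e : α ≃ β) (he : (fun b : Finset α => b.image e) '' B = B') :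
    ↥(Cfsg.setSystemAut B) ≃* ↥(Cfsg.setSystemAut B') where
  toFun g := ⟨e.permCongr g.1, conj_mem e he g.2⟩
  invFun g := ⟨e.symm.permCongr g.1, conj_mem e.symm (image_symm_eq e he) g.2⟩
  left_inv g := by
    apply Subtype.ext
    ext x
    simp [Equiv.permCongr_apply]
  right_inv g := by
    apply Subtype.ext
    ext x
    simp [Equiv.permCongr_apply]
  map_mul' g h := by
    apply Subtype.ext
    ext x
    simp [Equiv.permCongr_apply]

theorem autEquiv_apply (e : α ≃ β) (he : (fun b : Finset α => b.image e) '' B = B')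
    (g : ↥(Cfsg.setSystemAut B)) (y : β) :
    ((autEquiv e he g : ↥(Cfsg.setSystemAut B')) : Equiv.Perm β) y = e (g.1 (e.symm y)) := by
  show e.permCongr g.1 y = _
  simp [Equiv.permCongr_apply]

theorem autEquiv_symm_apply (e : α ≃ β) (he : (fun b : Finset α => b.image e) '' B = B')
    (g : ↥(Cfsg.setSystemAut B')) (x : α) :
    (((autEquiv e he).symm g : ↥(Cfsg.setSystemAut B)) : Equiv.Perm α) x = e.symm (g.1 (e x)) := by
  show e.symm.permCongr g.1 x = _
  simp [Equiv.permCongr_apply]

/-- Transport of multiple transitivity along an isomorphism of set systems. -/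
theorem mpt_transport (e : α ≃ β) (he : (fun b : Finset α => b.image e) '' B = B') {n : ℕ}
    (h : MulAction.IsMultiplyPretransitive ↥(Cfsg.setSystemAut B') β n) :
    MulAction.IsMultiplyPretransitive ↥(Cfsg.setSystemAut B) α n := by
  rw [MulAction.isMultiplyPretransitive_iff] at h ⊢
  intro x y
  obtain ⟨g', hg'⟩ := h (x.trans e.toEmbedding) (y.trans e.toEmbedding)
  refine ⟨(autEquiv e he).symm g', ?_⟩
  ext i
  have h1 := congrArg (fun f : Fin n ↪ β => f i) hg'
  have h2 : g'.1 (e (x i)) = e (y i) := h1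
  show (((autEquiv e he).symm g' : ↥(Cfsg.setSystemAut B)) : Equiv.Perm α) (x i) = y i
  rw [autEquiv_symm_apply, h2, Equiv.symm_apply_apply]

end Cfsg.Agent.Lib.Helper93.AutTr
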