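import Cfsg.Agent.Lib.Helper93.W23b

set_option autoImplicit false

namespace Cfsg.Agent.Lib.Helper93.Der

open Cfsg.Agent.Lib.Helper93.P4 Cfsg.Agent.Lib.Helper93.W24

variable {α : Type*} [Fintype α] [DecidableEq α]

/-- A permutation mapping blocks to blocks is an automorphism. -/
theorem aut_of_maps {B : Set (Finset α)} {g : Equiv.Perm α} (h : ∀ O ∈ B, O.image g ∈ B) :
    g ∈ Cfsg.setSystemAut B := by
  rw [aut_iff]
  apply Set.eq_of_subset_of_ncard_le
  · rintro _ ⟨O, hO, rfl⟩
    exact h O hO
  · rw [Set.ncard_image_of_injective _ (Finset.image_injective g.injective)]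
  · exact Set.toFinite _

/-- The derived system at a set of points. -/
def derP (B : Set (Finset α)) (P : Finset α) : Set (Finset {a // a ∉ P}) :=
  {b | P ∪ b.map (Function.Embedding.subtype _) ∈ B}

omit [Fintype α] in
theorem up_card (P : Finset α) (b : Finset {a // a ∉ P}) :
    (P ∪ b.map (Function.Embedding.subtype _)).card = P.card + b.card := by
  rw [Finset.card_union_of_disjoint, Finset.card_map]
  rw [Finset.disjoint_left]
  intro x hx hx'
  obtain ⟨y, -, rfl⟩ := Finset.mem_map.mp hx'
  exact y.2 hx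

omit [Fintype α] in
theorem up_subtype {P O : Finset α} (hPO : P ⊆ O) :
    P ∪ (O.subtype (· ∉ P)).map (Function.Embedding.subtype _) = O := by
  rw [Finset.subtype_map]
  ext x
  rw [Finset.mem_union, Finset.mem_filter]
  constructor
  · rintro (h | ⟨h, -⟩)
    · exact hPO h
    · exact h
  · intro h
    by_cases hx : x ∈ P
    · exact Or.inl hx
    · exact Or.inr ⟨h, hx⟩

omit [Fintype α] in
theorem mem_derP_subtype {B : Set (Finset α)} {P O : Finset α} (hO : O ∈ B) (hPO : P ⊆ O) :
    O.subtype (· ∉ P) ∈ derP B P := by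
  show P ∪ _ ∈ B
  rw [up_subtype hPO]
  exact hO

omit [Fintype α] in
theorem derP_steiner {B : Set (Finset α)} {P : Finset α} {t k m : ℕ}
    (hB : Cfsg.IsSteinerSystem (t + m) (k + m) B) (hP : P.card = m) :
    Cfsg.IsSteinerSystem t k (derP B P) := by
  refine ⟨?_, ?_⟩
  · intro b hb
    have := hB.1 _ hb
    rw [up_card, hP] at this
    omega
  · intro s hs
    have hc : (P ∪ s.map (Function.Embedding.subtype _)).card = t + m := by
      rw [up_card, hP, hs, add_comm]
    obtain ⟨O, ⟨hO, hsub⟩, huniq⟩ := hB.2 _ hc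
    have hPO : P ⊆ O := Finset.union_subset_left hsub
    refine ⟨O.subtype (· ∉ P), ⟨mem_derP_subtype hO hPO, ?_⟩, ?_⟩
    · intro a ha
      rw [Finset.mem_subtype]
      exact hsub (Finset.mem_union_right _ (Finset.mem_map_of_mem _ ha))
    · rintro c ⟨hc1, hc2⟩
      have hc3 : P ∪ c.map (Function.Embedding.subtype _) = O :=
        huniq _ ⟨hc1, Finset.union_subset_union (subset_refl _) (Finset.map_subset_map.mpr hc2)⟩
      ext a
      rw [Finset.mem_subtype, ← hc3, Finset.mem_union]
      constructor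
      · intro ha
        exact Or.inr (Finset.mem_map_of_mem _ ha)
      · rintro (h | h)
        · exact absurd h a.2
        · obtain ⟨y, hy, hya⟩ := Finset.mem_map.mp h
          have : y = a := Subtype.ext hya
          rw [← this]
          exact hy

/-- Restriction of a permutation preserving `P` to the complement of `P`. -/
def resP (P : Finset α) (g : Equiv.Perm α) (hg : ∀ a, g a ∈ P ↔ a ∈ P) :
    Equiv.Perm {a // a ∉ P} :=
  g.subtypePerm (fun a => not_congr (hg a))

omit [Fintype α] [DecidableEq α] in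
theorem fix_iff {P : Finset α} {g : Equiv.Perm α} (hfix : ∀ a ∈ P, g a = a) :
    ∀ a, g a ∈ P ↔ a ∈ P := by
  intro a
  constructor
  · intro h
    have := g.injective (hfix _ h)
    rw [← this]
    exact h
  · intro h
    rw [hfix a h]
    exact h

omit [Fintype α] in
theorem image_P {P : Finset α} {g : Equiv.Perm α} (hg : ∀ a, g a ∈ P ↔ a ∈ P) :
    P.image g = P := by
  apply Finset.eq_of_subset_of_card_le
  · intro x hx
    obtain ⟨a, ha, rfl⟩ := Finset.mem_image.mp hx
    exact (hg a).mpr ha
  · rw [Finset.card_image_of_injective _ g.injective]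

omit [Fintype α] in
theorem up_image_res {P : Finset α} {g : Equiv.Perm α} (hg : ∀ a, g a ∈ P ↔ a ∈ P)
    (b : Finset {a // a ∉ P}) :
    P ∪ (b.image (resP P g hg)).map (Function.Embedding.subtype _) =
      (P ∪ b.map (Function.Embedding.subtype _)).image g := by
  rw [Finset.image_union, image_P hg]
  congr 1
  ext x
  simp only [Finset.mem_map, Finset.mem_image, Function.Embedding.coe_subtype]
  constructor
  · rintro ⟨y, ⟨a, ha, rfl⟩, rfl⟩
    exact ⟨a.1, ⟨a, ha, rfl⟩, rfl⟩
  · rintro ⟨y, ⟨a, ha, rfl⟩, rfl⟩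
    exact ⟨resP P g hg a, ⟨a, ha, rfl⟩, rfl⟩

theorem res_mem {B : Set (Finset α)} {P : Finset α} {g : Equiv.Perm α}
    (hg : ∀ a, g a ∈ P ↔ a ∈ P) (hgB : g ∈ Cfsg.setSystemAut B) :
    resP P g hg ∈ Cfsg.setSystemAut (derP B P) := by
  apply aut_of_maps
  intro b hb
  show P ∪ _ ∈ B
  rw [up_image_res hg]
  exact aut_image hgB hb

omit [Fintype α] in
theorem ofSub_iff {P : Finset α} (h : Equiv.Perm {a // a ∉ P}) (a : α) :
    Equiv.Perm.ofSubtype h a ∈ P ↔ a ∈ P :=
  not_iff_not.mp (Equiv.Perm.ofSubtype_apply_mem_iff_mem h a)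

omit [Fintype α] in
theorem res_ofSub {P : Finset α} (h : Equiv.Perm {a // a ∉ P}) :
    resP P (Equiv.Perm.ofSubtype h) (ofSub_iff h) = h :=
  Equiv.Perm.subtypePerm_ofSubtype h

omit [Fintype α] in
theorem ofSub_fix {P : Finset α} (h : Equiv.Perm {a // a ∉ P}) {a : α} (ha : a ∈ P) :
    Equiv.Perm.ofSubtype h a = a :=
  Equiv.Perm.ofSubtype_apply_of_not_mem h (not_not.mpr ha)

omit [Fintype α] in
theorem ofSub_res {P : Finset α} {g : Equiv.Perm α} (hg : ∀ a, g a ∈ P ↔ a ∈ P)
    (hfix : ∀ a ∈ P, g a = a) : Equiv.Perm.ofSubtype (resP P g hg) = g :=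
  Equiv.Perm.ofSubtype_subtypePerm _ (fun x hx hxP => hx (hfix x hxP))

omit [Fintype α] in
/-- The extension of an automorphism of the derived system maps blocks through `P` to
blocks. -/
theorem ext_typeP {B : Set (Finset α)} {P : Finset α} {h : Equiv.Perm {a // a ∉ P}}
    (hh : h ∈ Cfsg.setSystemAut (derP B P)) {O : Finset α} (hO : O ∈ B) (hPO : P ⊆ O) :
    O.image (Equiv.Perm.ofSubtype h) ∈ B := by
  have h1 : (O.subtype (· ∉ P)).image h ∈ derP B P := aut_image hh (mem_derP_subtype hO hPO)
  have h2 := up_image_res (ofSub_iff h) (O.subtype (· ∉ P))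
  rw [res_ofSub, up_subtype hPO] at h2
  rw [← h2]
  exact h1

theorem even_inter (hα : Fintype.card α = 24) {B : Set (Finset α)}
    (hB : Cfsg.IsSteinerSystem 5 8 B) {b c : Finset α} (hb : b ∈ B) (hc : c ∈ B) :
    Even (b ∩ c).card := by
  by_cases hbc : b = c
  · subst hbc
    rw [Finset.inter_self, hB.1 b hb]
    decide
  · rcases Cfsg.Agent.S0352.result hα hB hb hc hbc with h | h | h <;> rw [h] <;> decide

/-- If `O` meets `O1` in four points and the images of `O1` and of the symmetric difference are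
blocks, then so is the image of `O`. -/
theorem symm_closure {β : Type*} [Fintype β] [DecidableEq β] (hβ : Fintype.card β = 24)
    {B : Set (Finset β)} (hB : Cfsg.IsSteinerSystem 5 8 B) (f : α → β)
    (hf : Function.Injective f) {O O1 : Finset α} (h8 : O1.card = 8) (h4 : (O ∩ O1).card = 4)
    (h1 : O1.image f ∈ B) (h2 : (symmDiff O O1).image f ∈ B) : O.image f ∈ B := by
  have hO_eq : O = symmDiff O1 (symmDiff O O1) := by
    rw [symmDiff_comm O, symmDiff_symmDiff_cancel_left]
  rw [hO_eq, Finset.image_symmDiff _ _ hf]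
  apply Cfsg.Agent.S0353.result hβ hB h1 h2
  rw [← Finset.image_inter _ _ hf, Finset.card_image_of_injective _ hf]
  have hcap : O1 ∩ symmDiff O O1 = O1 \ O := by
    ext x
    simp only [Finset.mem_inter, Finset.mem_symmDiff, Finset.mem_sdiff]
    tauto
  rw [hcap]
  have hc := Finset.card_sdiff_add_card_inter O1 O
  rw [h8, Finset.inter_comm, h4] at hc
  omega

/-- Through one or two points off a block there is a block meeting it in four points. -/
theorem exists_meet4 (hα : Fintype.card α = 24) {B : Set (Finset α)}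
    (hB : Cfsg.IsSteinerSystem 5 8 B) {O : Finset α} (hO : O ∈ B) {E : Finset α}
    (hE : Disjoint E O) (h1 : 1 ≤ E.card) (h2 : E.card ≤ 2) :
    ∃ O1 ∈ B, E ⊆ O1 ∧ (O ∩ O1).card = 4 := by
  obtain ⟨T, hTO, hT⟩ := Finset.exists_subset_card_eq (s := O) (n := 5 - E.card)
    (by rw [hB.1 O hO]; omega)
  have hdisj : Disjoint E T := Finset.disjoint_of_subset_right hTO hE
  have hc : (E ∪ T).card = 5 := by
    rw [Finset.card_union_of_disjoint hdisj, hT]
    omega
  obtain ⟨O1, ⟨hO1, hsub⟩, -⟩ := hB.2 _ hc
  have hEO1 : E ⊆ O1 := Finset.union_subset_left hsub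
  have hne : O ≠ O1 := by
    rintro rfl
    obtain ⟨x, hx⟩ : E.Nonempty := Finset.card_pos.mp h1
    exact Finset.disjoint_left.mp hE hx (hEO1 hx)
  have hge : T ⊆ O ∩ O1 := fun x hx =>
    Finset.mem_inter.mpr ⟨hTO hx, hsub (Finset.mem_union_right _ hx)⟩
  have := Finset.card_le_card hge
  rcases Cfsg.Agent.S0352.result hα hB hO hO1 hne with h | h | h
  · omega
  · omega
  · exact ⟨O1, hO1, hEO1, h⟩

/-- Every automorphism of the derived system at a point extends to an automorphism. -/
theorem ext_one (hα : Fintype.card α = 24) {B : Set (Finset α)}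
    (hB : Cfsg.IsSteinerSystem 5 8 B) (p : α) {h : Equiv.Perm {a // a ∉ ({p} : Finset α)}}
    (hh : h ∈ Cfsg.setSystemAut (derP B {p})) :
    Equiv.Perm.ofSubtype h ∈ Cfsg.setSystemAut B := by
  apply aut_of_maps
  intro O hO
  by_cases hp : p ∈ O
  · exact ext_typeP hh hO (Finset.singleton_subset_iff.mpr hp)
  · obtain ⟨O1, hO1, hE, h4⟩ := exists_meet4 hα hB hO (E := {p})
      (Finset.disjoint_singleton_left.mpr hp) (by simp) (by simp)
    have hp1 : p ∈ O1 := Finset.singleton_subset_iff.mp hE
    have hO2 : symmDiff O O1 ∈ B := Cfsg.Agent.S0353.result hα hB hO hO1 h4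
    have hp2 : p ∈ symmDiff O O1 := by
      rw [Finset.mem_symmDiff]
      exact Or.inr ⟨hp1, hp⟩
    exact symm_closure hα hB _ (Equiv.injective _) (hB.1 O1 hO1) h4 (ext_typeP hh hO1 hE)
      (ext_typeP hh hO2 (Finset.singleton_subset_iff.mpr hp2))

omit [Fintype α] in
theorem mem_image_swap (p q : α) (s : Finset α) (a : α) :
    a ∈ s.image (Equiv.swap p q) ↔ Equiv.swap p q a ∈ s := by
  rw [Finset.mem_image]
  constructor
  · rintro ⟨b, hb, rfl⟩
    rw [Equiv.swap_apply_self]
    exact hb
  · intro h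
    exact ⟨_, h, Equiv.swap_apply_self p q a⟩

omit [Fintype α] in
theorem image_swap_self {p q : α} {O : Finset α} (h : p ∈ O ↔ q ∈ O) :
    O.image (Equiv.swap p q) = O := by
  ext a
  rw [mem_image_swap]
  by_cases hap : a = p
  · subst hap
    rw [Equiv.swap_apply_left]
    exact h.symm
  · by_cases haq : a = q
    · subst haq
      rw [Equiv.swap_apply_right]
      exact h
    · rw [Equiv.swap_apply_of_ne_of_ne hap haq]

omit [Fintype α] in
theorem image_swap_mem {x y : α} (hxy : x ≠ y) {O : Finset α} (hx : x ∈ O) (hy : y ∉ O) :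
    O.image (Equiv.swap x y) = insert y (O.erase x) := by
  ext a
  rw [mem_image_swap, Finset.mem_insert, Finset.mem_erase]
  by_cases hax : a = x
  · subst hax
    rw [Equiv.swap_apply_left]
    constructor
    · intro h
      exact absurd h hy
    · rintro (h | ⟨h, -⟩)
      · exact absurd h hxy
      · exact absurd rfl h
  · by_cases hay : a = y
    · subst hay
      rw [Equiv.swap_apply_right]
      exact ⟨fun _ => Or.inl rfl, fun _ => hx⟩
    · rw [Equiv.swap_apply_of_ne_of_ne hax hay]
      constructor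
      · intro h
        exact Or.inr ⟨hax, h⟩
      · rintro (h | ⟨-, h⟩)
        · exact absurd h hay
        · exact h

omit [Fintype α] in
theorem image_swap_symmDiff {p q : α} (hpq : p ≠ q) {O : Finset α} (h : ¬ (p ∈ O ↔ q ∈ O)) :
    O.image (Equiv.swap p q) = symmDiff O {p, q} := by
  ext a
  rw [mem_image_swap, Finset.mem_symmDiff, Finset.mem_insert, Finset.mem_singleton]
  by_cases hap : a = p
  · subst hap
    rw [Equiv.swap_apply_left]
    simp only [true_or, not_true_eq_false, and_false, true_and, false_or]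
    tauto
  · by_cases haq : a = q
    · subst haq
      rw [Equiv.swap_apply_right]
      simp only [or_true, not_true_eq_false, and_false, true_and, false_or]
      tauto
    · rw [Equiv.swap_apply_of_ne_of_ne hap haq]
      simp only [hap, haq, or_self, not_false_eq_true, and_true, false_and, or_false]

omit [Fintype α] in
theorem card_symmDiff_add (X Y : Finset α) :
    (symmDiff X Y).card + 2 * (X ∩ Y).card = X.card + Y.card := by
  have h1 : symmDiff X Y = (X \ Y) ∪ (Y \ X) := rfl
  have hd : Disjoint (X \ Y) (Y \ X) := disjoint_sdiff_sdiff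
  rw [h1, Finset.card_union_of_disjoint hd]
  have a := Finset.card_sdiff_add_card_inter X Y
  have b := Finset.card_sdiff_add_card_inter Y X
  rw [Finset.inter_comm Y X] at b
  omega

omit [Fintype α] in
theorem par (A C E : Finset α) :
    (A ∩ symmDiff C E).card + 2 * (A ∩ C ∩ E).card = (A ∩ C).card + (A ∩ E).card := by
  have h1 : A ∩ symmDiff C E = symmDiff (A ∩ C) (A ∩ E) := by
    ext x
    simp only [Finset.mem_inter, Finset.mem_symmDiff]
    tauto
  have h2 : (A ∩ C) ∩ (A ∩ E) = A ∩ C ∩ E := by
    ext x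
    simp only [Finset.mem_inter]
    tauto
  rw [h1, ← h2]
  exact card_symmDiff_add _ _

omit [Fintype α] in
theorem card_inter_pair {p q : α} {A : Finset α} (h : ¬ (p ∈ A ↔ q ∈ A)) :
    (A ∩ {p, q}).card = 1 := by
  by_cases hp : p ∈ A
  · have hq : q ∉ A := fun hq => h ⟨fun _ => hq, fun _ => hp⟩
    have : A ∩ {p, q} = {p} := by
      ext x
      simp only [Finset.mem_inter, Finset.mem_insert, Finset.mem_singleton]
      constructor
      · rintro ⟨hx, rfl | rfl⟩
        · rfl
        · exact absurd hx hq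
      · rintro rfl
        exact ⟨hp, Or.inl rfl⟩
    rw [this, Finset.card_singleton]
  · have hq : q ∈ A := by
      by_contra hq
      exact h ⟨fun hp' => absurd hp' hp, fun hq' => absurd hq' hq⟩
    have : A ∩ {p, q} = {q} := by
      ext x
      simp only [Finset.mem_inter, Finset.mem_insert, Finset.mem_singleton]
      constructor
      · rintro ⟨hx, rfl | rfl⟩
        · exact absurd hx hp
        · rfl
      · rintro rfl
        exact ⟨hq, Or.inr rfl⟩
    rw [this, Finset.card_singleton]

end Cfsg.Agent.Lib.Helper93.Der
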