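import Cfsg.Agent.Lib.Helper93.Der

set_option autoImplicit false

namespace Cfsg.Agent.Lib.Helper93.Der

open Cfsg.Agent.Lib.Helper93.P4 Cfsg.Agent.Lib.Helper93.W24

variable {α : Type*} [Fintype α] [DecidableEq α]

/-- A block of `B'` through `x` and not `y`, where `B'` agrees with `B` on the sets through both,
is a block of `B` or becomes one on replacing `x` by `y`. -/
theorem type1_step (hα : Fintype.card α = 24) {B B' : Set (Finset α)}
    (hB : Cfsg.IsSteinerSystem 5 8 B) (hB' : Cfsg.IsSteinerSystem 5 8 B') {x y : α}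
    (hxy : x ≠ y) (hagree : ∀ O : Finset α, x ∈ O → y ∈ O → (O ∈ B ↔ O ∈ B'))
    {O' : Finset α} (hO' : O' ∈ B') (hx : x ∈ O') (hy : y ∉ O') :
    O' ∈ B ∨ insert y (O'.erase x) ∈ B := by
  have hS : (O'.erase x).card = 7 := by
    rw [Finset.card_erase_of_mem hx, hB'.1 O' hO']
  have hxS : x ∉ O'.erase x := Finset.notMem_erase x O'
  have hyS : y ∉ O'.erase x := fun h => hy (Finset.mem_of_mem_erase h)
  have key := heptad_extend hα hB hxy hS hxS hyS (by
    intro O hO hxO hyO
    have hOB' : O ∈ B' := (hagree O hxO hyO).mp hO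
    have hne : O' ≠ O := by
      rintro rfl
      exact hy hyO
    have hi := Cfsg.Agent.S0352.result hα hB' hO' hOB' hne
    have he : (O'.erase x ∩ O) = (O' ∩ O).erase x := by
      ext a
      simp only [Finset.mem_inter, Finset.mem_erase]
      tauto
    have hxm : x ∈ O' ∩ O := Finset.mem_inter.mpr ⟨hx, hxO⟩
    rw [he, Finset.card_erase_of_mem hxm]
    have hpos : 0 < (O' ∩ O).card := Finset.card_pos.mpr ⟨x, hxm⟩
    rcases hi with h | h | h <;> omega)
  rcases key with k | k
  · left
    rw [Finset.insert_erase hx] at k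
    exact k
  · right
    exact k

/-- Two Steiner systems `S(5,8,24)` with the same blocks through `p` and `q` are equal or
exchanged by the transposition of `p` and `q`. -/
theorem two_point (hα : Fintype.card α = 24) {B B' : Set (Finset α)}
    (hB : Cfsg.IsSteinerSystem 5 8 B) (hB' : Cfsg.IsSteinerSystem 5 8 B') {p q : α}
    (hpq : p ≠ q) (hagree : ∀ O : Finset α, p ∈ O → q ∈ O → (O ∈ B ↔ O ∈ B')) :
    B' = B ∨ (fun O : Finset α => O.image (Equiv.swap p q)) '' B' = B := by
  classical
  have huniqB : ∀ b ∈ B, ∀ c ∈ B, ∀ s : Finset α, s.card = 5 → s ⊆ b → s ⊆ c → b = c := by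
    intro b hb c hc s hs hsb hsc
    obtain ⟨O, -, hu⟩ := hB.2 s hs
    rw [hu b ⟨hb, hsb⟩, hu c ⟨hc, hsc⟩]
  have hcardB : ∀ c ∈ B, 5 ≤ c.card := fun c hc => by
    rw [hB.1 c hc]
    norm_num
  have hT2 : ∀ O' ∈ B', p ∈ O' → q ∈ O' → O' ∈ B :=
    fun O' hO' hp hq => (hagree O' hp hq).mpr hO'
  have hT0 : ∀ O' ∈ B', p ∉ O' → q ∉ O' → O' ∈ B := by
    intro O' hO' hp hq
    obtain ⟨O1, hO1, hE, h4⟩ := exists_meet4 hα hB' hO' (E := {p, q}) (by
      rw [Finset.disjoint_left]
      intro x hx
      rw [Finset.mem_insert, Finset.mem_singleton] at hx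
      rcases hx with rfl | rfl
      · exact hp
      · exact hq) (by rw [Finset.card_pair hpq]; norm_num) (by rw [Finset.card_pair hpq])
    have hp1 : p ∈ O1 := hE (Finset.mem_insert_self _ _)
    have hq1 : q ∈ O1 := hE (Finset.mem_insert_of_mem (Finset.mem_singleton_self _))
    have hO2 : symmDiff O' O1 ∈ B' := Cfsg.Agent.S0353.result hα hB' hO' hO1 h4
    have hp2 : p ∈ symmDiff O' O1 := by
      rw [Finset.mem_symmDiff]
      exact Or.inr ⟨hp1, hp⟩
    have hq2 : q ∈ symmDiff O' O1 := by
      rw [Finset.mem_symmDiff]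
      exact Or.inr ⟨hq1, hq⟩
    have := symm_closure hα hB (id : α → α) Function.injective_id (hB'.1 O1 hO1) h4
      (by rw [Finset.image_id]; exact hT2 O1 hO1 hp1 hq1)
      (by rw [Finset.image_id]; exact hT2 _ hO2 hp2 hq2)
    rw [Finset.image_id] at this
    exact this
  have hT1 : ∀ O' ∈ B', ¬ (p ∈ O' ↔ q ∈ O') →
      O' ∈ B ∨ O'.image (Equiv.swap p q) ∈ B := by
    intro O' hO' hne
    by_cases hp : p ∈ O'
    · have hq : q ∉ O' := fun hq => hne ⟨fun _ => hq, fun _ => hp⟩
      rw [image_swap_mem hpq hp hq]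
      exact type1_step hα hB hB' hpq hagree hO' hp hq
    · have hq : q ∈ O' := by
        by_contra hq
        exact hne ⟨fun h => absurd h hp, fun h => absurd h hq⟩
      rw [Equiv.swap_comm, image_swap_mem hpq.symm hq hp]
      exact type1_step hα hB hB' hpq.symm (fun O hq' hp' => hagree O hp' hq') hO' hq hp
  have hpar : ∀ A ∈ B', A ∈ B → ¬ (p ∈ A ↔ q ∈ A) → ∀ C ∈ B', ¬ (p ∈ C ↔ q ∈ C) →
      C.image (Equiv.swap p q) ∈ B → False := by
    intro A hA' hA hAt C hC' hCt hCs
    have e1 := even_inter hα hB' hA' hC'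
    have e2 := even_inter hα hB hA hCs
    rw [image_swap_symmDiff hpq hCt] at e2
    have := par A C {p, q}
    rw [card_inter_pair hAt] at this
    rw [Nat.even_iff] at e1 e2
    omega
  by_cases hex : ∃ A ∈ B', A ∈ B ∧ ¬ (p ∈ A ↔ q ∈ A)
  · left
    obtain ⟨A, hA', hA, hAt⟩ := hex
    apply steiner_sub_eq hB' _ hcardB huniqB
    intro O' hO'
    by_cases ht : (p ∈ O' ↔ q ∈ O')
    · by_cases hp : p ∈ O'
      · exact hT2 O' hO' hp (ht.mp hp)
      · exact hT0 O' hO' hp (fun hq => hp (ht.mpr hq))
    · rcases hT1 O' hO' ht with h | h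
      · exact h
      · exact (hpar A hA' hA hAt O' hO' ht h).elim
  · right
    have hex' : ∀ A ∈ B', A ∈ B → (p ∈ A ↔ q ∈ A) := by
      intro A hA' hA
      by_contra hc
      exact hex ⟨A, hA', hA, hc⟩
    apply steiner_sub_eq (steiner_image hB' (Equiv.swap p q)) _ hcardB huniqB
    rintro _ ⟨O', hO', rfl⟩
    show O'.image (Equiv.swap p q) ∈ B
    by_cases ht : (p ∈ O' ↔ q ∈ O')
    · rw [image_swap_self ht]
      by_cases hp : p ∈ O'
      · exact hT2 O' hO' hp (ht.mp hp)
      · exact hT0 O' hO' hp (fun hq => hp (ht.mpr hq))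
    · rcases hT1 O' hO' ht with h | h
      · exact absurd (hex' O' hO' h) ht
      · exact h

/-- Every automorphism of the derived system at two points extends to an automorphism, after
possibly composing with the transposition of the two points. -/
theorem ext_two (hα : Fintype.card α = 24) {B : Set (Finset α)}
    (hB : Cfsg.IsSteinerSystem 5 8 B) {p q : α} (hpq : p ≠ q)
    {h : Equiv.Perm {a // a ∉ ({p, q} : Finset α)}}
    (hh : h ∈ Cfsg.setSystemAut (derP B {p, q})) :
    Equiv.Perm.ofSubtype h ∈ Cfsg.setSystemAut B ∨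
      Equiv.swap p q * Equiv.Perm.ofSubtype h ∈ Cfsg.setSystemAut B := by
  have hgp : Equiv.Perm.ofSubtype h p = p := ofSub_fix h (Finset.mem_insert_self _ _)
  have hgq : Equiv.Perm.ofSubtype h q = q :=
    ofSub_fix h (Finset.mem_insert_of_mem (Finset.mem_singleton_self _))
  have hmemg : ∀ (a : α) (u : Finset α),
      Equiv.Perm.ofSubtype h a ∈ u.image (Equiv.Perm.ofSubtype h) ↔ a ∈ u :=
    fun a u => (Equiv.Perm.ofSubtype h).injective.mem_finset_image
  have hsub : ∀ O : Finset α, ({p, q} : Finset α) ⊆ O ↔ p ∈ O ∧ q ∈ O := by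
    intro O
    rw [Finset.insert_subset_iff, Finset.singleton_subset_iff]
  have hinv : h⁻¹ ∈ Cfsg.setSystemAut (derP B {p, q}) := inv_mem hh
  have hginv : Equiv.Perm.ofSubtype h⁻¹ = (Equiv.Perm.ofSubtype h)⁻¹ := map_inv _ h
  have hagree : ∀ O : Finset α, p ∈ O → q ∈ O →
      (O ∈ B ↔ O ∈ (fun b : Finset α => b.image (Equiv.Perm.ofSubtype h)) '' B) := by
    intro O hp hq
    constructor
    · intro hO
      refine ⟨O.image ((Equiv.Perm.ofSubtype h)⁻¹ : Equiv.Perm α), ?_, ?_⟩
      · rw [← hginv]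
        exact ext_typeP hinv hO ((hsub O).mpr ⟨hp, hq⟩)
      · show (O.image ((Equiv.Perm.ofSubtype h)⁻¹ : Equiv.Perm α)).image
          (Equiv.Perm.ofSubtype h) = O
        rw [Finset.image_image]
        have : (⇑(Equiv.Perm.ofSubtype h) ∘ ⇑(Equiv.Perm.ofSubtype h)⁻¹) = id := by
          funext x
          simp
        rw [this, Finset.image_id]
    · rintro ⟨O0, hO0, rfl⟩
      have hp0 : p ∈ O0 := by
        rw [← hmemg, hgp]
        exact hp
      have hq0 : q ∈ O0 := by
        rw [← hmemg, hgq]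
        exact hq
      exact ext_typeP hh hO0 ((hsub O0).mpr ⟨hp0, hq0⟩)
  rcases two_point hα hB (steiner_image hB (Equiv.Perm.ofSubtype h)) hpq hagree with h1 | h1
  · left
    rw [aut_iff]
    exact h1
  · right
    rw [aut_iff]
    rw [Set.image_image] at h1
    have hfun : (fun b : Finset α => b.image ⇑(Equiv.swap p q * Equiv.Perm.ofSubtype h)) =
        fun b => (b.image (Equiv.Perm.ofSubtype h)).image (Equiv.swap p q) := by
      funext b
      rw [Finset.image_image]
      rfl
    rw [hfun]
    exact h1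

/-- A transposition is not an automorphism of a Steiner system `S(5,8,24)`. -/
theorem swap_not_aut (hα : Fintype.card α = 24) {B : Set (Finset α)}
    (hB : Cfsg.IsSteinerSystem 5 8 B) {p q : α} (hpq : p ≠ q) :
    Equiv.swap p q ∉ Cfsg.setSystemAut B := by
  intro hmem
  -- a block through `p`
  have hcard : 4 ≤ ((Finset.univ : Finset α).erase p).card := by
    rw [Finset.card_erase_of_mem (Finset.mem_univ p), Finset.card_univ, hα]
    norm_num
  obtain ⟨T, hTs, hT⟩ := Finset.exists_subset_card_eq hcard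
  have hpT : p ∉ T := fun h => Finset.notMem_erase p _ (hTs h)
  have hc5 : (insert p T).card = 5 := by
    rw [Finset.card_insert_of_notMem hpT, hT]
  obtain ⟨O1, ⟨hO1, hsub1⟩, -⟩ := hB.2 _ hc5
  have hp1 : p ∈ O1 := hsub1 (Finset.mem_insert_self _ _)
  -- a block through `p` missing `q`
  have hex : ∃ O ∈ B, p ∈ O ∧ q ∉ O := by
    by_cases hq1 : q ∈ O1
    · obtain ⟨x, hx⟩ : ∃ x, x ∉ O1 := by
        by_contra hcon
        push Not at hcon
        have : O1 = Finset.univ := Finset.eq_univ_iff_forall.mpr hcon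
        have h8 := hB.1 O1 hO1
        rw [this, Finset.card_univ, hα] at h8
        omega
      have hc3 : 3 ≤ ((O1.erase p).erase q).card := by
        rw [Finset.card_erase_of_mem (Finset.mem_erase.mpr ⟨hpq.symm, hq1⟩),
          Finset.card_erase_of_mem hp1, hB.1 O1 hO1]
        norm_num
      obtain ⟨T', hT's, hT'⟩ := Finset.exists_subset_card_eq hc3
      have hT'O : T' ⊆ O1 := fun a ha =>
        Finset.mem_of_mem_erase (Finset.mem_of_mem_erase (hT's ha))
      have hpT' : p ∉ T' := fun h =>
        Finset.notMem_erase p _ (Finset.mem_of_mem_erase (hT's h))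
      have hqT' : q ∉ T' := fun h => Finset.notMem_erase q _ (hT's h)
      have hxT' : x ∉ T' := fun h => hx (hT'O h)
      have hpx : p ≠ x := fun h => hx (h ▸ hp1)
      have hqx : q ≠ x := fun h => hx (h ▸ hq1)
      have hc5' : (insert p (insert x T')).card = 5 := by
        rw [Finset.card_insert_of_notMem, Finset.card_insert_of_notMem hxT', hT']
        rw [Finset.mem_insert]
        rintro (h | h)
        · exact hpx h
        · exact hpT' h
      obtain ⟨O2, ⟨hO2, hsub2⟩, -⟩ := hB.2 _ hc5'
      refine ⟨O2, hO2, hsub2 (Finset.mem_insert_self _ _), ?_⟩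
      intro hq2
      have hc5'' : (insert p (insert q T')).card = 5 := by
        rw [Finset.card_insert_of_notMem, Finset.card_insert_of_notMem hqT', hT']
        rw [Finset.mem_insert]
        rintro (h | h)
        · exact hpq h
        · exact hpT' h
      obtain ⟨O3, -, hu⟩ := hB.2 _ hc5''
      have e1 := hu O1 ⟨hO1, by
        intro a ha
        rw [Finset.mem_insert, Finset.mem_insert] at ha
        rcases ha with rfl | rfl | ha
        · exact hp1
        · exact hq1
        · exact hT'O ha⟩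
      have e2 := hu O2 ⟨hO2, by
        intro a ha
        rw [Finset.mem_insert, Finset.mem_insert] at ha
        rcases ha with rfl | rfl | ha
        · exact hsub2 (Finset.mem_insert_self _ _)
        · exact hq2
        · exact hsub2 (Finset.mem_insert_of_mem (Finset.mem_insert_of_mem ha))⟩
      have hx2 : x ∈ O2 := hsub2 (Finset.mem_insert_of_mem (Finset.mem_insert_self _ _))
      rw [e2, ← e1] at hx2
      exact hx hx2
    · exact ⟨O1, hO1, hp1, hq1⟩
  obtain ⟨O, hO, hp, hq⟩ := hex
  have himg := aut_image hmem hO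
  rw [image_swap_mem hpq hp hq] at himg
  have hne : O ≠ insert q (O.erase p) := by
    intro h
    exact hq (h ▸ Finset.mem_insert_self _ _)
  have hsub : O.erase p ⊆ O ∩ insert q (O.erase p) := fun a ha =>
    Finset.mem_inter.mpr ⟨Finset.mem_of_mem_erase ha, Finset.mem_insert_of_mem ha⟩
  have h7 := Finset.card_le_card hsub
  rw [Finset.card_erase_of_mem hp, hB.1 O hO] at h7
  rcases Cfsg.Agent.S0352.result hα hB hO himg hne with h | h | h <;> omega

end Cfsg.Agent.Lib.Helper93.Der
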