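import Cfsg.Agent.Lib.Helper93.Der2

set_option autoImplicit false

namespace Cfsg.Agent.Lib.Helper93.Der

open Cfsg.Agent.Lib.Helper93.P4 Cfsg.Agent.Lib.Helper93.W24

/-- Uniqueness of the Steiner system `S(3,6,22)` up to isomorphism. -/
theorem steiner22_iso {α β : Type*} [Fintype α] [DecidableEq α] [Fintype β] [DecidableEq β]
    (hα : Fintype.card α = 22) (hβ : Fintype.card β = 22) {B : Set (Finset α)}
    {B' : Set (Finset β)} (hB : Cfsg.IsSteinerSystem 3 6 B)
    (hB' : Cfsg.IsSteinerSystem 3 6 B') : Cfsg.SetSystemIso B B' := by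
  have c : Fintype.card (Fin 1 ⊕ Fin 21) = 22 := by
    rw [Fintype.card_sum, Fintype.card_fin, Fintype.card_fin]
  let φ : α ≃ Fin 1 ⊕ Fin 21 := Fintype.equivOfCardEq (hα.trans c.symm)
  let φ' : β ≃ Fin 1 ⊕ Fin 21 := Fintype.equivOfCardEq (hβ.trans c.symm)
  have h1 := baseSys_sys.iso22 (Fintype.card_fin 21) (steiner_image hB φ)
  have h2 := baseSys_sys.iso22 (Fintype.card_fin 21) (steiner_image hB' φ')
  exact iso_trans (iso_image B φ) (iso_trans h1 (iso_trans (iso_symm h2)
    (iso_symm (iso_image B' φ'))))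

/-- Uniqueness of the Steiner system `S(4,7,23)` up to isomorphism. -/
theorem steiner23_iso {α β : Type*} [Fintype α] [DecidableEq α] [Fintype β] [DecidableEq β]
    (hα : Fintype.card α = 23) (hβ : Fintype.card β = 23) {B : Set (Finset α)}
    {B' : Set (Finset β)} (hB : Cfsg.IsSteinerSystem 4 7 B)
    (hB' : Cfsg.IsSteinerSystem 4 7 B') : Cfsg.SetSystemIso B B' := by
  have c : Fintype.card (Fin 2 ⊕ Fin 21) = 23 := by
    rw [Fintype.card_sum, Fintype.card_fin, Fintype.card_fin]
  let φ : α ≃ Fin 2 ⊕ Fin 21 := Fintype.equivOfCardEq (hα.trans c.symm)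
  let φ' : β ≃ Fin 2 ⊕ Fin 21 := Fintype.equivOfCardEq (hβ.trans c.symm)
  have h1 := baseSys_sys.iso23 (Fintype.card_fin 21) (steiner_image hB φ)
  have h2 := baseSys_sys.iso23 (Fintype.card_fin 21) (steiner_image hB' φ')
  exact iso_trans (iso_image B φ) (iso_trans h1 (iso_trans (iso_symm h2)
    (iso_symm (iso_image B' φ'))))

variable {α : Type*} [Fintype α] [DecidableEq α]

omit [Fintype α] in
theorem card_compl_subtype (P : Finset α) [Fintype α] :
    Fintype.card {a // a ∉ P} = Fintype.card α - P.card := by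
  rw [Fintype.card_subtype]
  have : (Finset.univ.filter (fun a => a ∉ P)) = Pᶜ := by
    ext a
    simp
  rw [this, Finset.card_compl]

section Grp

variable (G : Subgroup (Equiv.Perm α)) (K : Subgroup ↥G) (P : Finset α)

/-- The restriction homomorphism from a subgroup fixing `P` pointwise. -/
def rho (hK : ∀ g ∈ K, ∀ a ∈ P, (g : Equiv.Perm α) a = a) :
    ↥K →* Equiv.Perm {a // a ∉ P} where
  toFun g := resP P g.1.1 (fix_iff (hK g.1 g.2))
  map_one' := by
    ext x
    rfl
  map_mul' g g' := by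
    ext x
    rfl

omit [Fintype α] in
theorem ofSub_rho (hK : ∀ g ∈ K, ∀ a ∈ P, (g : Equiv.Perm α) a = a) (g : ↥K) :
    Equiv.Perm.ofSubtype (rho G K P hK g) = g.1.1 :=
  ofSub_res (fix_iff (hK g.1 g.2)) (hK g.1 g.2)

omit [Fintype α] in
theorem rho_injective (hK : ∀ g ∈ K, ∀ a ∈ P, (g : Equiv.Perm α) a = a) :
    Function.Injective (rho G K P hK) := by
  intro g g' h
  have := congrArg Equiv.Perm.ofSubtype h
  rw [ofSub_rho, ofSub_rho] at this
  exact Subtype.ext (Subtype.ext this)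

omit [Fintype α] in
theorem mem_range_rho (hK : ∀ g ∈ K, ∀ a ∈ P, (g : Equiv.Perm α) a = a)
    (hK' : ∀ g : ↥G, (∀ a ∈ P, (g : Equiv.Perm α) a = a) → g ∈ K)
    (h : Equiv.Perm {a // a ∉ P}) :
    h ∈ (rho G K P hK).range ↔ Equiv.Perm.ofSubtype h ∈ G := by
  constructor
  · rintro ⟨g, rfl⟩
    rw [ofSub_rho]
    exact g.1.2
  · intro hG
    refine ⟨⟨⟨Equiv.Perm.ofSubtype h, hG⟩, hK' _ (fun a ha => ofSub_fix h ha)⟩, ?_⟩
    exact res_ofSub h

end Grp

omit [Fintype α] [DecidableEq α] in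
theorem exists_fix_map {G : Subgroup (Equiv.Perm α)} {m n : ℕ}
    (hG : MulAction.IsMultiplyPretransitive ↥G α (m + n)) (c : Fin m → α) (x y : Fin n → α)
    (hx : Function.Injective (Fin.append c x)) (hy : Function.Injective (Fin.append c y)) :
    ∃ g ∈ G, (∀ i, g (c i) = c i) ∧ ∀ j, g (x j) = y j := by
  rw [MulAction.isMultiplyPretransitive_iff] at hG
  obtain ⟨g, hg⟩ := hG ⟨Fin.append c x, hx⟩ ⟨Fin.append c y, hy⟩
  refine ⟨g.1, g.2, fun i => ?_, fun j => ?_⟩
  · have := congrArg (fun f : Fin (m + n) ↪ α => f (Fin.castAdd n i)) hg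
    have h2 : g.1 (Fin.append c x (Fin.castAdd n i)) = Fin.append c y (Fin.castAdd n i) := this
    rw [Fin.append_left, Fin.append_left] at h2
    exact h2
  · have := congrArg (fun f : Fin (m + n) ↪ α => f (Fin.natAdd m j)) hg
    have h2 : g.1 (Fin.append c x (Fin.natAdd m j)) = Fin.append c y (Fin.natAdd m j) := this
    rw [Fin.append_right, Fin.append_right] at h2
    exact h2

/-- Multiple transitivity of the automorphism group of a derived system. -/
theorem der_mpt {B : Set (Finset α)} {P : Finset α} {m n : ℕ}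
    (hG : MulAction.IsMultiplyPretransitive ↥(Cfsg.setSystemAut B) α (m + n)) (c : Fin m → α)
    (hc : Function.Injective c) (hP : ∀ a, a ∈ P ↔ ∃ i, c i = a) :
    MulAction.IsMultiplyPretransitive ↥(Cfsg.setSystemAut (derP B P)) {a // a ∉ P} n := by
  rw [MulAction.isMultiplyPretransitive_iff]
  intro x y
  have hinj : ∀ z : Fin n ↪ {a // a ∉ P},
      Function.Injective (Fin.append c (fun j => (z j).1)) := by
    intro z
    rw [Fin.append_injective_iff]
    refine ⟨hc, fun j j' h => z.injective (Subtype.ext h), fun i j h => ?_⟩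
    exact (z j).2 ((hP _).mpr ⟨i, h⟩)
  obtain ⟨g, hg, hgc, hgx⟩ := exists_fix_map hG c (fun j => (x j).1) (fun j => (y j).1)
    (hinj x) (hinj y)
  have hfix : ∀ a ∈ P, g a = a := by
    intro a ha
    obtain ⟨i, rfl⟩ := (hP a).mp ha
    exact hgc i
  refine ⟨⟨resP P g (fix_iff hfix), res_mem _ hg⟩, ?_⟩
  ext j
  exact hgx j

omit [Fintype α] in
/-- The extension of the restriction of a permutation exchanging `p` and `q`. -/
theorem ofSub_res_swap {p q : α} {s : Equiv.Perm α} (hsp : s p = q) (hsq : s q = p)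
    (hs : ∀ a, s a ∈ ({p, q} : Finset α) ↔ a ∈ ({p, q} : Finset α)) :
    Equiv.Perm.ofSubtype (resP {p, q} s hs) = Equiv.swap p q * s := by
  ext a
  by_cases ha : a ∈ ({p, q} : Finset α)
  · rw [ofSub_fix _ ha]
    rw [Finset.mem_insert, Finset.mem_singleton] at ha
    rcases ha with rfl | rfl
    · show a = Equiv.swap a q (s a)
      rw [hsp, Equiv.swap_apply_right]
    · show a = Equiv.swap p a (s a)
      rw [hsq, Equiv.swap_apply_left]
  · have h1 : Equiv.Perm.ofSubtype (resP {p, q} s hs) a = s a :=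
      Equiv.Perm.ofSubtype_subtypePerm_of_mem _ ha
    rw [h1]
    have h2 : s a ∉ ({p, q} : Finset α) := fun h => ha ((hs a).mp h)
    rw [Finset.mem_insert, Finset.mem_singleton, not_or] at h2
    show s a = Equiv.swap p q (s a)
    rw [Equiv.swap_apply_of_ne_of_ne h2.1 h2.2]

end Cfsg.Agent.Lib.Helper93.Der
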