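import Cfsg.Agent.Lib.Helper93.Der3
import Cfsg.Agent.Lib.Helper7.GolaySimple
import Cfsg.Agent.S0376
import Cfsg.Agent.S0377
import Cfsg.Agent.S0378
import Cfsg.Agent.S0379

set_option autoImplicit false

namespace Cfsg.Agent.Lib.Helper93.Der

open Cfsg.Agent.Lib.Helper93.P4 Cfsg.Agent.Lib.Helper93.W24

theorem M24_eq : Cfsg.M24 = Cfsg.setSystemAut Cfsg.octads := Cfsg.Agent.S0369.result

/-- The automorphism group of the derived design of the octads at a point. -/
theorem model23 (p : Cfsg.GolayPt) :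
    Cfsg.IsM23 ↥(Cfsg.setSystemAut (derP Cfsg.octads {p})) ∧
      MulAction.IsMultiplyPretransitive ↥(Cfsg.setSystemAut (derP Cfsg.octads {p}))
        {a // a ∉ ({p} : Finset Cfsg.GolayPt)} 4 := by
  classical
  have hK : ∀ g ∈ MulAction.stabilizer ↥Cfsg.M24 p, ∀ a ∈ ({p} : Finset Cfsg.GolayPt),
      (g : Equiv.Perm Cfsg.GolayPt) a = a := by
    intro g hg a ha
    rw [Finset.mem_singleton] at ha
    subst ha
    exact MulAction.mem_stabilizer_iff.mp hg
  have hK' : ∀ g : ↥Cfsg.M24, (∀ a ∈ ({p} : Finset Cfsg.GolayPt),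
      (g : Equiv.Perm Cfsg.GolayPt) a = a) → g ∈ MulAction.stabilizer ↥Cfsg.M24 p := by
    intro g hg
    exact MulAction.mem_stabilizer_iff.mpr (hg p (Finset.mem_singleton_self p))
  have hrange : (rho Cfsg.M24 (MulAction.stabilizer ↥Cfsg.M24 p) {p} hK).range =
      Cfsg.setSystemAut (derP Cfsg.octads {p}) := by
    ext h
    rw [mem_range_rho _ _ _ hK hK']
    constructor
    · intro hM
      rw [M24_eq] at hM
      have := res_mem (ofSub_iff h) hM
      rw [res_ofSub] at this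
      exact this
    · intro hh
      rw [M24_eq]
      exact ext_one card_golayPt octads_steiner p hh
  let e1 := MonoidHom.ofInjective
    (rho_injective Cfsg.M24 (MulAction.stabilizer ↥Cfsg.M24 p) {p} hK)
  let e2 := MulEquiv.subgroupCongr hrange
  let e := (e1.trans e2).symm
  refine ⟨⟨?_, ?_⟩, ?_⟩
  · have : IsSimpleGroup ↥(MulAction.stabilizer ↥Cfsg.M24 p) := Cfsg.Agent.S0377.result p
    exact e.isSimpleGroup
  · rw [Nat.card_congr e.toEquiv]
    exact Cfsg.Agent.S0376.result p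
  · refine der_mpt (m := 1) (n := 4) ?_ (fun _ : Fin 1 => p)
      (Function.injective_of_subsingleton _) ?_
    · rw [← M24_eq]
      exact Cfsg.Agent.S0366.result
    · intro a
      rw [Finset.mem_singleton]
      exact ⟨fun h => ⟨0, h.symm⟩, fun ⟨_, h⟩ => h.symm⟩

/-- The automorphism group of the derived design of the octads at two points. -/
theorem model22 {p q : Cfsg.GolayPt} (hpq : p ≠ q) :
    Nat.card ↥(Cfsg.setSystemAut (derP Cfsg.octads {p, q})) = 887040 ∧
      MulAction.IsMultiplyPretransitive ↥(Cfsg.setSystemAut (derP Cfsg.octads {p, q}))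
        {a // a ∉ ({p, q} : Finset Cfsg.GolayPt)} 3 ∧
      ∃ H : Subgroup ↥(Cfsg.setSystemAut (derP Cfsg.octads {p, q})),
        H.index = 2 ∧ Cfsg.IsM22 ↥H := by
  classical
  have hK : ∀ g ∈ MulAction.stabilizer ↥Cfsg.M24 p ⊓ MulAction.stabilizer ↥Cfsg.M24 q,
      ∀ a ∈ ({p, q} : Finset Cfsg.GolayPt), (g : Equiv.Perm Cfsg.GolayPt) a = a := by
    intro g hg a ha
    rw [Subgroup.mem_inf] at hg
    rw [Finset.mem_insert, Finset.mem_singleton] at ha
    rcases ha with rfl | rfl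
    · exact MulAction.mem_stabilizer_iff.mp hg.1
    · exact MulAction.mem_stabilizer_iff.mp hg.2
  have hK' : ∀ g : ↥Cfsg.M24, (∀ a ∈ ({p, q} : Finset Cfsg.GolayPt),
      (g : Equiv.Perm Cfsg.GolayPt) a = a) →
      g ∈ MulAction.stabilizer ↥Cfsg.M24 p ⊓ MulAction.stabilizer ↥Cfsg.M24 q := by
    intro g hg
    rw [Subgroup.mem_inf]
    exact ⟨MulAction.mem_stabilizer_iff.mpr (hg p (Finset.mem_insert_self _ _)),
      MulAction.mem_stabilizer_iff.mpr
        (hg q (Finset.mem_insert_of_mem (Finset.mem_singleton_self _)))⟩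
  have hmem : ∀ h : Equiv.Perm {a // a ∉ ({p, q} : Finset Cfsg.GolayPt)},
      h ∈ (rho Cfsg.M24 (MulAction.stabilizer ↥Cfsg.M24 p ⊓ MulAction.stabilizer ↥Cfsg.M24 q)
        {p, q} hK).range ↔ Equiv.Perm.ofSubtype h ∈ Cfsg.M24 :=
    mem_range_rho _ _ _ hK hK'
  have hle : (rho Cfsg.M24 (MulAction.stabilizer ↥Cfsg.M24 p ⊓ MulAction.stabilizer ↥Cfsg.M24 q)
      {p, q} hK).range ≤ Cfsg.setSystemAut (derP Cfsg.octads {p, q}) := by
    intro h hh
    rw [hmem, M24_eq] at hh
    have := res_mem (ofSub_iff h) hh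
    rw [res_ofSub] at this
    exact this
  obtain ⟨s, hsM, hsp, hsq⟩ := Cfsg.Agent.Lib.Helper7.M24_trans2 hpq hpq.symm
  have hs : ∀ a, s a ∈ ({p, q} : Finset Cfsg.GolayPt) ↔ a ∈ ({p, q} : Finset Cfsg.GolayPt) := by
    intro a
    rw [Finset.mem_insert, Finset.mem_singleton, Finset.mem_insert, Finset.mem_singleton]
    constructor
    · rintro (h | h)
      · right
        exact s.injective (h.trans hsq.symm)
      · left
        exact s.injective (h.trans hsp.symm)
    · rintro (rfl | rfl)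
      · right
        exact hsp
      · left
        exact hsq
  have ha0A : resP {p, q} s hs ∈ Cfsg.setSystemAut (derP Cfsg.octads {p, q}) :=
    res_mem hs (by rw [← M24_eq]; exact hsM)
  have hτ : Equiv.swap p q ∉ Cfsg.M24 := by
    rw [M24_eq]
    exact swap_not_aut card_golayPt octads_steiner hpq
  have hindex : ((rho Cfsg.M24
      (MulAction.stabilizer ↥Cfsg.M24 p ⊓ MulAction.stabilizer ↥Cfsg.M24 q)
      {p, q} hK).range.subgroupOf (Cfsg.setSystemAut (derP Cfsg.octads {p, q}))).index = 2 := by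
    rw [Subgroup.index_eq_two_iff]
    refine ⟨⟨resP {p, q} s hs, ha0A⟩, fun b => ?_⟩
    rw [Subgroup.mem_subgroupOf, Subgroup.mem_subgroupOf, hmem, hmem]
    have hb := ext_two card_golayPt octads_steiner hpq b.2
    rw [← M24_eq] at hb
    have hcomm : Equiv.Perm.ofSubtype b.1 * Equiv.swap p q =
        Equiv.swap p q * Equiv.Perm.ofSubtype b.1 := by
      rw [Equiv.mul_swap_eq_swap_mul, ofSub_fix b.1 (Finset.mem_insert_self _ _),
        ofSub_fix b.1 (Finset.mem_insert_of_mem (Finset.mem_singleton_self _))]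
    have hprod : Equiv.Perm.ofSubtype
        (b * ⟨resP {p, q} s hs, ha0A⟩ :
          ↥(Cfsg.setSystemAut (derP Cfsg.octads {p, q}))).1 =
        (Equiv.swap p q * Equiv.Perm.ofSubtype b.1) * s := by
      show Equiv.Perm.ofSubtype (b.1 * resP {p, q} s hs) = _
      rw [map_mul, ofSub_res_swap hsp hsq hs, ← mul_assoc, hcomm]
    rw [hprod, Subgroup.mul_mem_cancel_right _ hsM]
    have hnot : ¬ (Equiv.swap p q * Equiv.Perm.ofSubtype b.1 ∈ Cfsg.M24 ∧
        Equiv.Perm.ofSubtype b.1 ∈ Cfsg.M24) := by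
      rintro ⟨h1, h2⟩
      apply hτ
      have := Cfsg.M24.mul_mem h1 (Cfsg.M24.inv_mem h2)
      rwa [mul_inv_cancel_right] at this
    rcases hb with hb | hb
    · exact Or.inr ⟨hb, fun h => hnot ⟨h, hb⟩⟩
    · exact Or.inl ⟨hb, fun h => hnot ⟨hb, h⟩⟩
  have hM22 : Cfsg.IsM22 ↥((rho Cfsg.M24
      (MulAction.stabilizer ↥Cfsg.M24 p ⊓ MulAction.stabilizer ↥Cfsg.M24 q)
      {p, q} hK).range.subgroupOf (Cfsg.setSystemAut (derP Cfsg.octads {p, q}))) := by
    let e1 := MonoidHom.ofInjective (rho_injective Cfsg.M24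
      (MulAction.stabilizer ↥Cfsg.M24 p ⊓ MulAction.stabilizer ↥Cfsg.M24 q) {p, q} hK)
    let e2 := Subgroup.subgroupOfEquivOfLe hle
    let e := e2.trans e1.symm
    refine ⟨?_, ?_⟩
    · have : IsSimpleGroup
          ↥(MulAction.stabilizer ↥Cfsg.M24 p ⊓ MulAction.stabilizer ↥Cfsg.M24 q) :=
        Cfsg.Agent.S0379.result p q hpq
      exact e.isSimpleGroup
    · rw [Nat.card_congr e.toEquiv]
      exact Cfsg.Agent.S0378.result p q hpq
  refine ⟨?_, ?_, _, hindex, hM22⟩
  · have := Subgroup.index_mul_card ((rho Cfsg.M24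
      (MulAction.stabilizer ↥Cfsg.M24 p ⊓ MulAction.stabilizer ↥Cfsg.M24 q)
      {p, q} hK).range.subgroupOf (Cfsg.setSystemAut (derP Cfsg.octads {p, q})))
    rw [hindex, hM22.2] at this
    omega
  · refine der_mpt (m := 2) (n := 3) ?_ ![p, q] ?_ ?_
    · rw [← M24_eq]
      exact Cfsg.Agent.S0366.result
    · intro i j h
      fin_cases i <;> fin_cases j <;> simp_all
    · intro a
      rw [Finset.mem_insert, Finset.mem_singleton]
      constructor
      · rintro (rfl | rfl)
        · exact ⟨0, rfl⟩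
        · exact ⟨1, rfl⟩
      · rintro ⟨i, rfl⟩
        fin_cases i
        · left
          rfl
        · right
          rfl

/-- The automorphism group of any Steiner system `S(4,7,23)`. -/
theorem aut23 {α : Type*} [Fintype α] [DecidableEq α] (hα : Fintype.card α = 23)
    {B : Set (Finset α)} (hB : Cfsg.IsSteinerSystem 4 7 B) :
    Cfsg.IsM23 ↥(Cfsg.setSystemAut B) ∧
      MulAction.IsMultiplyPretransitive ↥(Cfsg.setSystemAut B) α 4 := by
  classical
  have hSt : Cfsg.IsSteinerSystem 4 7 (derP Cfsg.octads {(none : Cfsg.GolayPt)}) :=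
    derP_steiner (t := 4) (k := 7) (m := 1) octads_steiner (Finset.card_singleton _)
  have hX : Fintype.card {a : Cfsg.GolayPt // a ∉ ({none} : Finset Cfsg.GolayPt)} = 23 := by
    rw [card_compl_subtype, card_golayPt, Finset.card_singleton]
  obtain ⟨e, he⟩ := steiner23_iso hα hX hB hSt
  obtain ⟨⟨hs, hc⟩, ht⟩ := model23 none
  refine ⟨⟨?_, ?_⟩, ?_⟩
  · have := hs
    exact (Cfsg.Agent.Lib.Helper93.AutTr.autEquiv e he).isSimpleGroup
  · rw [Nat.card_congr (Cfsg.Agent.Lib.Helper93.AutTr.autEquiv e he).toEquiv]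
    exact hc
  · exact Cfsg.Agent.Lib.Helper93.AutTr.mpt_transport e he ht

/-- The automorphism group of any Steiner system `S(3,6,22)`. -/
theorem aut22 {α : Type*} [Fintype α] [DecidableEq α] (hα : Fintype.card α = 22)
    {B : Set (Finset α)} (hB : Cfsg.IsSteinerSystem 3 6 B) :
    Nat.card ↥(Cfsg.setSystemAut B) = 887040 ∧
      MulAction.IsMultiplyPretransitive ↥(Cfsg.setSystemAut B) α 3 ∧
      ∃ H : Subgroup ↥(Cfsg.setSystemAut B), H.index = 2 ∧ Cfsg.IsM22 ↥H := by
  classical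
  have hpq : (none : Cfsg.GolayPt) ≠ some 0 := by
    intro h
    cases h
  have hSt : Cfsg.IsSteinerSystem 3 6 (derP Cfsg.octads {(none : Cfsg.GolayPt), some 0}) :=
    derP_steiner (t := 3) (k := 6) (m := 2) octads_steiner (Finset.card_pair hpq)
  have hX : Fintype.card {a : Cfsg.GolayPt // a ∉ ({none, some 0} : Finset Cfsg.GolayPt)} =
      22 := by
    rw [card_compl_subtype, card_golayPt, Finset.card_pair hpq]
  obtain ⟨e, he⟩ := steiner22_iso hα hX hB hSt
  obtain ⟨hc, ht, H, hH2, hHs, hHc⟩ := model22 hpq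
  refine ⟨?_, Cfsg.Agent.Lib.Helper93.AutTr.mpt_transport e he ht,
    H.map ((Cfsg.Agent.Lib.Helper93.AutTr.autEquiv e he).symm :
      ↥(Cfsg.setSystemAut (derP Cfsg.octads {(none : Cfsg.GolayPt), some 0})) →*
        ↥(Cfsg.setSystemAut B)), ?_, ?_, ?_⟩
  · rw [Nat.card_congr (Cfsg.Agent.Lib.Helper93.AutTr.autEquiv e he).toEquiv]
    exact hc
  · rw [Subgroup.index_map_equiv]
    exact hH2
  · have := hHs
    exact ((Cfsg.Agent.Lib.Helper93.AutTr.autEquiv e he).symm.subgroupMap H).symm.isSimpleGroup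
  · rw [← Nat.card_congr
      ((Cfsg.Agent.Lib.Helper93.AutTr.autEquiv e he).symm.subgroupMap H).toEquiv]
    exact hHc

end Cfsg.Agent.Lib.Helper93.Der
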