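import Mathlib

set_option autoImplicit false

namespace Cfsg.Agent.Lib.Helper93.G320

variable {G : Type*} [Group G]

theorem card_mul_relIndex {A L : Subgroup G} (h : A ≤ L) :
    Nat.card A * A.relIndex L = Nat.card L := by
  have := Subgroup.relIndex_mul_relIndex ⊥ A L bot_le h
  simpa using this

theorem card_mul_card_le [Finite G] {A B L : Subgroup G} (hA : A ≤ L) (hB : B ≤ L) :
    Nat.card A * Nat.card B ≤ Nat.card L * Nat.card (A ⊓ B : Subgroup G) := by
  have h1 := card_mul_relIndex hA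
  have h2 := card_mul_relIndex hB
  have h3 := card_mul_relIndex (le_trans inf_le_left hA : A ⊓ B ≤ L)
  have h4 := Subgroup.relIndex_inf_le (H := A) (K := B) (L := L)
  have hL : 0 < Nat.card L := Nat.card_pos
  have hr : 0 < (A ⊓ B).relIndex L := by
    rcases Nat.eq_zero_or_pos ((A ⊓ B).relIndex L) with h0 | h0
    · rw [h0] at h3; omega
    · exact h0
  have : Nat.card A * Nat.card B * (A ⊓ B).relIndex L ≤
      Nat.card L * Nat.card (A ⊓ B : Subgroup G) * (A ⊓ B).relIndex L := by
    calc Nat.card A * Nat.card B * (A ⊓ B).relIndex L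
        ≤ Nat.card A * Nat.card B * (A.relIndex L * B.relIndex L) := Nat.mul_le_mul_left _ h4
      _ = (Nat.card A * A.relIndex L) * (Nat.card B * B.relIndex L) := by ring
      _ = Nat.card L * Nat.card L := by rw [h1, h2]
      _ = Nat.card L * (Nat.card (A ⊓ B : Subgroup G) * (A ⊓ B).relIndex L) := by rw [h3]
      _ = _ := by ring
  exact Nat.le_of_mul_le_mul_right this hr

/-- The abstract setting: `H` normal of order 32 in `G` of order 320, `Z` central of order 2
with `H/Z` elementary abelian, `H` the largest normal 2-subgroup and containing all normal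
abelian subgroups, no subgroup of exponent 2 and order > 4 in `H`, `T` an involution outside `H`. -/
structure Setup (G : Type*) [Group G] (H Z : Subgroup G) (T : G) : Prop where
  hG : Nat.card G = 320
  hHn : H.Normal
  h32 : Nat.card H = 32
  hZ2 : Nat.card Z = 2
  hZH : Z ≤ H
  hZc : ∀ z ∈ Z, ∀ g : G, g * z = z * g
  hsq : ∀ x ∈ H, x ^ 2 ∈ Z
  hcomm : ∀ x ∈ H, ∀ y ∈ H, x * y * x⁻¹ * y⁻¹ ∈ Z
  hO2 : ∀ N : Subgroup G, N.Normal → IsPGroup 2 N → N ≤ H
  hF : ∀ N : Subgroup G, N.Normal → (∀ a ∈ N, ∀ b ∈ N, a * b = b * a) → N ≤ H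
  hminus : ∀ A : Subgroup G, A ≤ H → (∀ a ∈ A, a ^ 2 = 1) → Nat.card A ≤ 4
  hT : T ^ 2 = 1
  hTH : T ∉ H

variable {H Z : Subgroup G} {T : G}

theorem Setup.finite (S : Setup G H Z T) : Finite G :=
  Nat.finite_of_card_ne_zero (by rw [S.hG]; norm_num)

theorem Setup.Tinv (S : Setup G H Z T) : T⁻¹ = T := by
  have := S.hT
  rw [pow_two] at this
  exact inv_eq_of_mul_eq_one_left this

theorem Setup.T_ne_one (S : Setup G H Z T) : T ≠ 1 := by
  intro h
  exact S.hTH (h ▸ H.one_mem)

theorem Setup.isPGroupH (S : Setup G H Z T) : IsPGroup 2 H :=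
  IsPGroup.of_card (n := 5) (by rw [S.h32]; norm_num)

theorem Setup.isPGroupT (S : Setup G H Z T) : IsPGroup 2 (Subgroup.zpowers T) := by
  have h2 : orderOf T = 2 := orderOf_eq_prime S.hT S.T_ne_one
  exact IsPGroup.of_card (n := 1) (by rw [Nat.card_zpowers, h2]; norm_num)

theorem Setup.isPGroupK (S : Setup G H Z T) : IsPGroup 2 (H ⊔ Subgroup.zpowers T : Subgroup G) := by
  have := S.hHn
  exact IsPGroup.to_sup_of_normal_left S.isPGroupH S.isPGroupT

/-- A 2-subgroup properly containing `H` has order 64. -/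
theorem Setup.card_two_group (S : Setup G H Z T) (L : Subgroup G) (hL : IsPGroup 2 L)
    (hHL : H ≤ L) (hT : T ∈ L) : Nat.card L = 64 := by
  have := S.finite
  obtain ⟨k, hk⟩ := IsPGroup.iff_card.mp hL
  have h1 : Nat.card L ∣ 320 := S.hG ▸ Subgroup.card_subgroup_dvd_card L
  have h2 : 32 ∣ Nat.card L := S.h32 ▸ Subgroup.card_dvd_of_le hHL
  have h3 : Nat.card L ≠ 32 := by
    intro h
    have : H = L := Subgroup.eq_of_le_of_card_ge hHL (by rw [h, S.h32])
    exact S.hTH (this ▸ hT)
  rw [hk] at h1 h2 h3 ⊢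
  have hk8 : k ≤ 8 := by
    by_contra hc
    push Not at hc
    have : 2 ^ 9 ≤ 2 ^ k := Nat.pow_le_pow_right (by norm_num) hc
    have := Nat.le_of_dvd (by norm_num) h1
    omega
  interval_cases k <;> omega

theorem Setup.cardK (S : Setup G H Z T) : Nat.card (H ⊔ Subgroup.zpowers T : Subgroup G) = 64 :=
  S.card_two_group _ S.isPGroupK le_sup_left
    (le_sup_right (a := H) (Subgroup.mem_zpowers T))

/-- A 2-subgroup containing `H` and `T` equals `H ⊔ ⟨T⟩`. -/
theorem Setup.eq_K (S : Setup G H Z T) (L : Subgroup G) (hL : IsPGroup 2 L)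
    (hHL : H ≤ L) (hT : T ∈ L) : H ⊔ Subgroup.zpowers T = L := by
  have := S.finite
  apply Subgroup.eq_of_le_of_card_ge (sup_le hHL ((Subgroup.zpowers_le).2 hT))
  rw [S.cardK, S.card_two_group L hL hHL hT]

/-- Some product `T * T^g` is not a 2-element. -/
theorem Setup.exists_c (S : Setup G H Z T) : ∃ g : G, (T * (g⁻¹ * T * g)) ^ 64 ≠ 1 := by
  have := S.finite
  have := S.hHn
  by_contra hall
  push Not at hall
  have key : ∀ g : G, g⁻¹ * T * g ∈ (H ⊔ Subgroup.zpowers T : Subgroup G) := by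
    intro g
    obtain ⟨c, hc⟩ : ∃ c, c = T * (g⁻¹ * T * g) := ⟨_, rfl⟩
    have hc64 : c ^ 64 = 1 := hc ▸ hall g
    have hcP : IsPGroup 2 (Subgroup.zpowers c) := by
      have hd : orderOf c ∣ 2 ^ 6 := orderOf_dvd_of_pow_eq_one (by norm_num; exact hc64)
      obtain ⟨j, -, hj⟩ := (Nat.dvd_prime_pow Nat.prime_two).1 hd
      exact IsPGroup.of_card (n := j) (by rw [Nat.card_zpowers, hj])
    have hconj : T * c * T⁻¹ = c⁻¹ := by
      rw [hc, S.Tinv]
      have h2 : T * T = 1 := by rw [← pow_two]; exact S.hT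
      have h2' : ∀ x : G, T * (T * x) = x := by intro x; rw [← mul_assoc, h2, one_mul]
      have : (T * (g⁻¹ * T * g)) * (T * (T * (g⁻¹ * T * g)) * T) = 1 := by
        simp only [mul_assoc, h2', mul_inv_cancel_left, inv_mul_cancel_left, h2]
      exact (inv_eq_of_mul_eq_one_right this).symm
    have hnorm : Subgroup.zpowers T ≤ Subgroup.normalizer (Subgroup.zpowers c : Set G) := by
      rw [Subgroup.zpowers_le]
      have fwd : ∀ h, h ∈ Subgroup.zpowers c → T * h * T⁻¹ ∈ Subgroup.zpowers c := by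
        intro h hh
        obtain ⟨k, rfl⟩ := Subgroup.mem_zpowers_iff.1 hh
        rw [← conj_zpow, hconj]
        exact Subgroup.zpow_mem _ (Subgroup.inv_mem _ (Subgroup.mem_zpowers c)) k
      rw [Subgroup.mem_normalizer_iff]
      intro h
      refine ⟨fwd h, fun hh => ?_⟩
      have := fwd _ hh
      have h2 : T * T = 1 := by rw [← pow_two]; exact S.hT
      have e : T * (T * h * T⁻¹) * T⁻¹ = h := by
        rw [S.Tinv]
        calc T * (T * h * T) * T = (T * T) * h * (T * T) := by group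
          _ = h := by rw [h2]; simp
      rwa [e] at this
    have hD : IsPGroup 2 (Subgroup.zpowers T ⊔ Subgroup.zpowers c : Subgroup G) :=
      IsPGroup.to_sup_of_normal_right' S.isPGroupT hcP hnorm
    have hL : IsPGroup 2 (H ⊔ (Subgroup.zpowers T ⊔ Subgroup.zpowers c) : Subgroup G) :=
      IsPGroup.to_sup_of_normal_left S.isPGroupH hD
    have hTD : T ∈ (Subgroup.zpowers T ⊔ Subgroup.zpowers c : Subgroup G) :=
      le_sup_left (a := Subgroup.zpowers T) (Subgroup.mem_zpowers T)
    have hcD : c ∈ (Subgroup.zpowers T ⊔ Subgroup.zpowers c : Subgroup G) :=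
      le_sup_right (a := Subgroup.zpowers T) (Subgroup.mem_zpowers c)
    have hK := S.eq_K _ hL le_sup_left (le_sup_right (a := H) hTD)
    rw [hK]
    apply le_sup_right (a := H)
    have : g⁻¹ * T * g = T⁻¹ * c := by rw [hc]; group
    rw [this]
    exact mul_mem (inv_mem hTD) hcD
  have hKeq : (H ⊔ Subgroup.zpowers T : Subgroup G) = H ⊔ Subgroup.normalClosure {T} := by
    apply le_antisymm
    · apply sup_le le_sup_left
      apply le_trans _ (le_sup_right (a := H))
      rw [Subgroup.zpowers_le]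
      exact Subgroup.subset_normalClosure rfl
    · apply sup_le le_sup_left
      rw [Subgroup.normalClosure, Subgroup.closure_le]
      intro x hx
      rw [Group.mem_conjugatesOfSet_iff] at hx
      obtain ⟨a, ha, hax⟩ := hx
      rw [Set.mem_singleton_iff] at ha
      subst ha
      obtain ⟨c, hc⟩ := isConj_iff.1 hax
      have := key c⁻¹
      rw [inv_inv, hc] at this
      exact this
  have hKn : (H ⊔ Subgroup.zpowers T : Subgroup G).Normal := by
    rw [hKeq]; infer_instance
  have := S.hO2 _ hKn S.isPGroupK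
  exact S.hTH (this (le_sup_right (a := H) (Subgroup.mem_zpowers T)))

end Cfsg.Agent.Lib.Helper93.G320
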