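import Mathlib
import Cfsg.Agent.Lib.Helper91.M11Inv

set_option autoImplicit false

/-!
# Character values at elements of order `3` (generic lemmas)

For a simple group of non-prime order, the value of a character at an element of order `3` is
`χ(1) - 3u + 3vω` with `u, v` integers and `ω` a primitive cube root of unity.
-/

namespace Cfsg.Agent.Lib.Helper93.M11

open Cfsg

/-- a primitive cube root of unity -/
noncomputable def om3 : ℂ := ⟨-1/2, Real.sqrt 3 / 2⟩

theorem om3_sq : om3 ^ 2 + om3 + 1 = 0 := by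
  have h3 := Real.mul_self_sqrt (show (0:ℝ) ≤ 3 by norm_num)
  apply Complex.ext
  · simp only [om3, pow_two, Complex.add_re, Complex.mul_re, Complex.one_re, Complex.zero_re]
    nlinarith
  · simp only [om3, pow_two, Complex.add_im, Complex.mul_im, Complex.one_im, Complex.zero_im]
    ring

theorem om3_cube : om3 ^ 3 = 1 := by
  linear_combination (om3 - 1) * om3_sq

theorem om3_conj : (starRingEnd ℂ) om3 = -1 - om3 := by
  apply Complex.ext
  · simp only [om3, Complex.conj_re, Complex.sub_re, Complex.neg_re, Complex.one_re]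
    ring
  · simp only [om3, Complex.conj_im, Complex.sub_im, Complex.neg_im, Complex.one_im]
    ring

theorem om3_indep (A B : ℤ) (h : (A : ℂ) + (B : ℂ) * om3 = 0) : A = 0 ∧ B = 0 := by
  have him := congrArg Complex.im h
  have hre := congrArg Complex.re h
  simp only [om3, Complex.add_im, Complex.mul_im, Complex.intCast_im, Complex.intCast_re,
    Complex.zero_im, Complex.add_re, Complex.mul_re, Complex.zero_re] at him hre
  have h3 : (0:ℝ) < Real.sqrt 3 := Real.sqrt_pos.mpr (by norm_num)
  have hB : (B : ℝ) = 0 := by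
    have : (B : ℝ) * (Real.sqrt 3 / 2) = 0 := by linarith
    rcases mul_eq_zero.mp this with h' | h'
    · exact h'
    · linarith
  have hA : (A : ℝ) = 0 := by
    rw [hB] at hre
    linarith
  exact ⟨by exact_mod_cast hA, by exact_mod_cast hB⟩

theorem om3_pow_eq_one {m : ℕ} (h : om3 ^ m = 1) : 3 ∣ m := by
  have hm : om3 ^ m = om3 ^ (m % 3) := by
    conv_lhs => rw [← Nat.div_add_mod m 3, pow_add, pow_mul, om3_cube, one_pow, one_mul]
  rw [hm] at h
  have hlt : m % 3 < 3 := Nat.mod_lt _ (by norm_num)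
  have h3 : (0:ℝ) < Real.sqrt 3 := Real.sqrt_pos.mpr (by norm_num)
  interval_cases hr : m % 3
  · exact Nat.dvd_of_mod_eq_zero hr
  · exfalso
    rw [pow_one] at h
    have him := congrArg Complex.im h
    simp only [om3, Complex.one_im] at him
    linarith
  · exfalso
    have h2 : om3 = -2 := by linear_combination om3_sq - h
    have him := congrArg Complex.im h2
    simp only [om3, Complex.neg_im] at him
    norm_num at him

/-- the norm form on `ℤ[ω]` -/
theorem om3_norm (A B : ℤ) :
    ((A : ℂ) + (B : ℂ) * om3) * (starRingEnd ℂ) ((A : ℂ) + (B : ℂ) * om3) =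
      ((A ^ 2 - A * B + B ^ 2 : ℤ) : ℂ) := by
  rw [map_add, map_mul, om3_conj, map_intCast, map_intCast]
  push_cast
  linear_combination (-(B : ℂ) ^ 2) * om3_sq

variable {G : Type*} [Group G]

/-- In a simple group of non-prime order, the value of a character at an element of order
dividing `3` is `χ(1) - 3u + 3vω`. -/
theorem value_three [Finite G] [IsSimpleGroup G] (hG : ¬ (Nat.card G).Prime) {χ : G → ℂ}
    (hχ : IsCharacter G χ) (x : G) (hx : x ^ 3 = 1) :
    ∃ u v : ℤ, χ x = χ 1 - 3 * (u : ℂ) + 3 * (v : ℂ) * om3 := by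
  classical
  obtain ⟨n, ρ, rfl⟩ := hχ
  obtain ⟨ι, hι, v, μ, hv, -, -⟩ := Cfsg.Agent.Lib.Helper80.exists_eigenbasis ρ x
  have hμ3 : ∀ i, μ i ^ 3 = 1 := by
    intro i
    have h1 : ρ x (ρ x (ρ x (v i))) = v i := by
      have : ρ x * (ρ x * ρ x) = 1 := by
        rw [← map_mul, ← map_mul, ← pow_two, ← pow_succ', hx, map_one]
      have h' := congrArg (fun f => f (v i)) this
      simpa using h'
    rw [hv i, map_smul, hv i, smul_smul, map_smul, hv i, smul_smul] at h1
    have h2 : (μ i * μ i * μ i - 1) • v i = 0 := by rw [sub_smul, h1, one_smul, sub_self]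
    have h3 := (smul_eq_zero.mp h2).resolve_right (v.ne_zero i)
    linear_combination h3
  have hμ : ∀ i, μ i = 1 ∨ μ i = om3 ∨ μ i = om3 ^ 2 := by
    intro i
    have h := hμ3 i
    have h4 : (μ i - 1) * ((μ i - om3) * (μ i - om3 ^ 2)) = 0 := by
      linear_combination h + (μ i - 1) * (om3 - 1 - μ i) * om3_sq
    rcases mul_eq_zero.mp h4 with h | h
    · left; linear_combination h
    · rcases mul_eq_zero.mp h with h | h
      · right; left; linear_combination h
      · right; right; linear_combination h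
  have hdata : ∀ i, ∃ e : ℕ, ∃ c : ℤ, μ i = om3 ^ e ∧
      μ i = 1 - (e : ℂ) + ((e : ℂ) - 3 * (c : ℂ)) * om3 := by
    intro i
    rcases hμ i with h | h | h
    · exact ⟨0, 0, by rw [h]; simp, by rw [h]; simp⟩
    · exact ⟨1, 0, by rw [h]; simp, by rw [h]; push_cast; ring⟩
    · refine ⟨2, 1, h, ?_⟩
      rw [h]; push_cast; linear_combination om3_sq
  choose e c he hc using hdata
  have htr : ρ.character x = ∑ i, μ i :=
    Cfsg.Agent.Lib.Helper80.trace_eq_sum_of_eigenbasis (ρ x) v μ hv
  have hdet : LinearMap.det (ρ x) = ∏ i, μ i := by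
    rw [← LinearMap.det_toMatrix v]
    have : LinearMap.toMatrix v v (ρ x) = Matrix.diagonal μ := by
      ext i j
      rw [LinearMap.toMatrix_apply, hv j, map_smul, Finsupp.smul_apply, Module.Basis.repr_self,
        Matrix.diagonal_apply]
      by_cases h : i = j
      · subst h; simp
      · simp [h]
    rw [this, Matrix.det_diagonal]
  have hone : ρ.character 1 = (Fintype.card ι : ℂ) := by
    rw [Representation.char_one, Module.finrank_eq_card_basis v]
  have hdet1 := Cfsg.Agent.Lib.Helper91.SS.det_rep_eq_one hG ρ x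
  have hprod : ∏ i, μ i = om3 ^ (∑ i, e i) := by
    rw [← Finset.prod_pow_eq_pow_sum]
    exact Finset.prod_congr rfl (fun i _ => he i)
  have h3 : 3 ∣ ∑ i, e i := om3_pow_eq_one (by rw [← hprod, ← hdet, hdet1])
  obtain ⟨u, hu⟩ := h3
  refine ⟨u, u - ∑ i, c i, ?_⟩
  have hsum : ∑ i, μ i = (Fintype.card ι : ℂ) - ((∑ i, e i : ℕ) : ℂ) +
      (((∑ i, e i : ℕ) : ℂ) - 3 * ((∑ i, c i : ℤ) : ℂ)) * om3 := by
    rw [Finset.sum_congr rfl (fun i _ => hc i)]
    push_cast
    rw [Finset.sum_add_distrib, Finset.sum_sub_distrib, ← Finset.sum_mul, Finset.sum_sub_distrib,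
      ← Finset.mul_sum]
    simp
  rw [htr, hsum, hone, hu]
  push_cast
  ring

/-- the value of an irreducible character at an element of order `3` -/
theorem irr_value_three [Finite G] [IsSimpleGroup G] (hGn : ¬ (Nat.card G).Prime)
    (ψ : IrrCharacter G) (x : G) (hx : orderOf x = 3) :
    ∃ u v : ℤ, (ψ : G → ℂ) x =
      (((Cfsg.charDegree (ψ : G → ℂ) : ℤ) - 3 * u : ℤ) : ℂ) + ((3 * v : ℤ) : ℂ) * om3 := by
  have hchar := Cfsg.Agent.Lib.Helper80.isCharacter_of_isIrrCharacter ψ.2
  obtain ⟨hxd, -, -⟩ := Cfsg.Agent.Lib.Helper79.irr_charDegree ψ.2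
  have hx3 : x ^ 3 = 1 := by rw [← hx]; exact pow_orderOf_eq_one x
  obtain ⟨u, v, h⟩ := value_three hGn hchar x hx3
  refine ⟨u, v, ?_⟩
  rw [h, hxd]
  push_cast
  ring

end Cfsg.Agent.Lib.Helper93.M11
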