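import Mathlib

set_option autoImplicit false

/-!
# Arithmetic of the character values at an element of order `3` in a simple group of
order `7920`
-/

namespace Cfsg.Agent.Lib.Helper93.M11

/-- the norm form of `ℤ[ω]` is nonnegative -/
theorem nrm_nonneg (A B : ℤ) : 0 ≤ A ^ 2 - A * B + B ^ 2 := by
  nlinarith [sq_nonneg (2 * A - B), sq_nonneg B]

/-- small norm means small coordinates -/
theorem nrm_bound (A B : ℤ) (h : A ^ 2 - A * B + B ^ 2 ≤ 10) :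
    -3 ≤ A ∧ A ≤ 3 ∧ -3 ≤ B ∧ B ≤ 3 := by
  refine ⟨?_, ?_, ?_, ?_⟩ <;> nlinarith [sq_nonneg (2 * A - B), sq_nonneg (2 * B - A)]

/-- the norm form is definite -/
theorem nrm_eq_zero (A B : ℤ) (h : A ^ 2 - A * B + B ^ 2 = 0) : A = 0 ∧ B = 0 := by
  have hB : B = 0 := by
    have : B ^ 2 ≤ 0 := by nlinarith [sq_nonneg (2 * A - B)]
    exact pow_eq_zero_iff (two_ne_zero) |>.mp (le_antisymm this (sq_nonneg B))
  subst hB
  have hA : A ^ 2 = 0 := by linarith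
  exact ⟨pow_eq_zero_iff (two_ne_zero) |>.mp hA, rfl⟩

/-- the finite check for the three characters of degree `10` -/
def chk3 (uA vA uB vB uC vC : ℤ) : Prop :=
  0 ≤ 1440 - 144 * (((10 - 3 * uA) ^ 2 - (10 - 3 * uA) * (3 * vA) + (3 * vA) ^ 2) +
      ((10 - 3 * uB) ^ 2 - (10 - 3 * uB) * (3 * vB) + (3 * vB) ^ 2) +
      ((10 - 3 * uC) ^ 2 - (10 - 3 * uC) * (3 * vC) + (3 * vC) ^ 2)) -
    90 * ((1 - (10 - 3 * uA) - (10 - 3 * uB) - (10 - 3 * uC)) ^ 2 -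
      (1 - (10 - 3 * uA) - (10 - 3 * uB) - (10 - 3 * uC)) * (-(3 * vA) - 3 * vB - 3 * vC) +
      (-(3 * vA) - 3 * vB - 3 * vC) ^ 2) →
  (uA = 3 ∧ vA = 0 ∧ uB = 3 ∧ vB = 0 ∧ uC = 3 ∧ vC = 0) ∨
  (1440 - 144 * (((10 - 3 * uA) ^ 2 - (10 - 3 * uA) * (3 * vA) + (3 * vA) ^ 2) +
      ((10 - 3 * uB) ^ 2 - (10 - 3 * uB) * (3 * vB) + (3 * vB) ^ 2) +
      ((10 - 3 * uC) ^ 2 - (10 - 3 * uC) * (3 * vC) + (3 * vC) ^ 2)) -
    90 * ((1 - (10 - 3 * uA) - (10 - 3 * uB) - (10 - 3 * uC)) ^ 2 -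
      (1 - (10 - 3 * uA) - (10 - 3 * uB) - (10 - 3 * uC)) * (-(3 * vA) - 3 * vB - 3 * vC) +
      (-(3 * vA) - 3 * vB - 3 * vC) ^ 2) = 486 ∧
   (((10 - 3 * uA) ^ 2 - (10 - 3 * uA) * (3 * vA) + (3 * vA) ^ 2) +
      ((10 - 3 * uB) ^ 2 - (10 - 3 * uB) * (3 * vB) + (3 * vB) ^ 2) +
      ((10 - 3 * uC) ^ 2 - (10 - 3 * uC) * (3 * vC) + (3 * vC) ^ 2)) +
    2 * ((1 - (10 - 3 * uA) - (10 - 3 * uB) - (10 - 3 * uC)) ^ 2 -
      (1 - (10 - 3 * uA) - (10 - 3 * uB) - (10 - 3 * uC)) * (-(3 * vA) - 3 * vB - 3 * vC) +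
      (-(3 * vA) - 3 * vB - 3 * vC) ^ 2) = 8)

instance (uA vA uB vB uC vC : ℤ) : Decidable (chk3 uA vA uB vB uC vC) := by
  unfold chk3
  infer_instance

theorem key3 : ∀ uA ∈ Finset.Icc (3 : ℤ) 4, ∀ vA ∈ Finset.Icc (-1 : ℤ) 1,
    ∀ uB ∈ Finset.Icc (3 : ℤ) 4, ∀ vB ∈ Finset.Icc (-1 : ℤ) 1,
    ∀ uC ∈ Finset.Icc (3 : ℤ) 4, ∀ vC ∈ Finset.Icc (-1 : ℤ) 1, chk3 uA vA uB vB uC vC := by
  decide +kernel

theorem sq_dvd_648 (c : ℕ) (h1 : 12 ≤ c) (h : c ^ 2 ∣ 648) : c = 18 := by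
  have hle : c ^ 2 ≤ 648 := Nat.le_of_dvd (by norm_num) h
  have hc : c ≤ 25 := by nlinarith
  interval_cases c <;> first | rfl | (exfalso; revert h; decide)

theorem sq_dvd_486 (c : ℕ) (h1 : 9 ≤ c) (h : c ^ 2 ∣ 486) : c = 9 := by
  have hle : c ^ 2 ≤ 486 := Nat.le_of_dvd (by norm_num) h
  have hc : c ≤ 22 := by nlinarith
  interval_cases c <;> first | rfl | (exfalso; revert h; decide)

set_option maxHeartbeats 1600000 in
/-- the arithmetic core: the relations force all the values -/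
theorem arith_three (AH BH AG BG AA BA AB BB AC BC AE BE AE' BE' AD BD AF BF : ℤ)
    (uA vA uB vB uC vC uD : ℤ) (M c : ℕ)
    (hAA : AA = 10 - 3 * uA) (hBA : BA = 3 * vA) (hAB : AB = 10 - 3 * uB) (hBB : BB = 3 * vB)
    (hAC : AC = 10 - 3 * uC) (hBC : BC = 3 * vC) (hAD : AD = 11 - 3 * uD)
    (hAG : AG = 0) (hBG : BG = 0)
    (i1 : 1 + AG - AA - AB - AC - AE = 0) (i1b : BG - BA - BB - BC - BE = 0)
    (i1' : 1 + AG - AA - AB - AC - AE' = 0) (i1b' : BG - BA - BB - BC - BE' = 0)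
    (i3 : 1 + AE + AE' + AD - AF = 0) (i3b : BE + BE' + BD - BF = 0)
    (i4 : 55 * AH + 1 + 45 * AG + 10 * AA + 10 * AB + 10 * AC + 16 * AE + 16 * AE' + 11 * AD +
      44 * AF = 0)
    (i4b : 55 * BH + 45 * BG + 10 * BA + 10 * BB + 10 * BC + 16 * BE + 16 * BE' + 11 * BD +
      44 * BF = 0)
    (i5 : (AH ^ 2 - AH * BH + BH ^ 2) + 1 + (AG ^ 2 - AG * BG + BG ^ 2) +
      (AA ^ 2 - AA * BA + BA ^ 2) + (AB ^ 2 - AB * BB + BB ^ 2) + (AC ^ 2 - AC * BC + BC ^ 2) +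
      (AE ^ 2 - AE * BE + BE ^ 2) + (AE' ^ 2 - AE' * BE' + BE' ^ 2) +
      (AD ^ 2 - AD * BD + BD ^ 2) + (AF ^ 2 - AF * BF + BF ^ 2) = (c : ℤ))
    (i6 : (M : ℤ) = 1440 + 32 * (AG ^ 2 - AG * BG + BG ^ 2) -
      144 * ((AA ^ 2 - AA * BA + BA ^ 2) + (AB ^ 2 - AB * BB + BB ^ 2) +
        (AC ^ 2 - AC * BC + BC ^ 2)) -
      45 * ((AE ^ 2 - AE * BE + BE ^ 2) + (AE' ^ 2 - AE' * BE' + BE' ^ 2)))
    (hdvd : c ^ 2 ∣ M) :
    c = 18 ∧ AH = 1 ∧ BH = 0 ∧ AA = 1 ∧ BA = 0 ∧ AB = 1 ∧ BB = 0 ∧ AC = 1 ∧ BC = 0 ∧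
      AE = -2 ∧ BE = 0 ∧ AE' = -2 ∧ BE' = 0 ∧ AD = 2 ∧ BD = 0 ∧ AF = -1 ∧ BF = 0 := by
  subst hAG hBG
  have hE' : AE = AE' := by linarith
  subst hE'
  have hE'' : BE = BE' := by linarith
  subst hE''
  have hM0 : (0 : ℤ) ≤ (M : ℤ) := Int.natCast_nonneg M
  have nA := nrm_nonneg AA BA
  have nB := nrm_nonneg AB BB
  have nC := nrm_nonneg AC BC
  have nE := nrm_nonneg AE BE
  have nD := nrm_nonneg AD BD
  have nF := nrm_nonneg AF BF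
  have nH := nrm_nonneg AH BH
  obtain ⟨a1, a2, a3, a4⟩ := nrm_bound AA BA (by linarith)
  obtain ⟨b1, b2, b3, b4⟩ := nrm_bound AB BB (by linarith)
  obtain ⟨c1, c2, c3, c4⟩ := nrm_bound AC BC (by linarith)
  obtain rfl : AE = 1 - AA - AB - AC := by linarith
  obtain rfl : BE = -BA - BB - BC := by linarith
  subst hAA hBA hAB hBB hAC hBC
  have hk := key3 uA (Finset.mem_Icc.mpr ⟨by omega, by omega⟩)
    vA (Finset.mem_Icc.mpr ⟨by omega, by omega⟩)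
    uB (Finset.mem_Icc.mpr ⟨by omega, by omega⟩)
    vB (Finset.mem_Icc.mpr ⟨by omega, by omega⟩)
    uC (Finset.mem_Icc.mpr ⟨by omega, by omega⟩)
    vC (Finset.mem_Icc.mpr ⟨by omega, by omega⟩)
  unfold chk3 at hk
  rcases hk (by linarith) with ⟨rfl, rfl, rfl, rfl, rfl, rfl⟩ | ⟨hM486, hs8⟩
  · -- the pattern (1, 1, 1; -2)
    norm_num at i3 i3b i4 i4b i5 i6 ⊢
    have hM : M = 648 := by omega
    rw [hM] at hdvd
    have hc12 : 12 ≤ c := by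
      have : (12 : ℤ) ≤ (c : ℤ) := by linarith
      exact_mod_cast this
    have hc := sq_dvd_648 c hc12 hdvd
    subst hc
    obtain rfl : AF = AD - 3 := by linarith
    obtain rfl : BD = BF := by linarith
    obtain rfl : AH = 3 - AD := by linarith
    obtain rfl : BH = -BD := by linarith
    have hz : (AD - 2) ^ 2 - (AD - 2) * BD + BD ^ 2 = 0 := by
      push_cast at i5
      nlinarith
    obtain ⟨h1, h2⟩ := nrm_eq_zero _ _ hz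
    obtain rfl : AD = 2 := by linarith
    subst h2
    norm_num
  · -- the pattern (-2, 1, 1; 1)
    exfalso
    have hM : (M : ℤ) = 486 := by linarith
    have hM' : M = 486 := by exact_mod_cast hM
    rw [hM'] at hdvd
    have hc9 : 9 ≤ c := by
      have : (9 : ℤ) ≤ (c : ℤ) := by linarith
      exact_mod_cast this
    have hc := sq_dvd_486 c hc9 hdvd
    subst hc
    have hD : AD ^ 2 - AD * BD + BD ^ 2 = 0 := by
      push_cast at i5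
      linarith
    obtain ⟨h1, -⟩ := nrm_eq_zero _ _ hD
    omega

end Cfsg.Agent.Lib.Helper93.M11
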