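import Mathlib
import Cfsg.Agent.Lib.Helper93.M11T1
import Cfsg.Agent.Lib.Helper93.M11T2
import Cfsg.Agent.Lib.Helper58.Steinberg

set_option autoImplicit false

/-!
# Character values at elements of order `3` in a simple group of order `7920`
-/

namespace Cfsg.Agent.Lib.Helper93.M11

open Cfsg Cfsg.Agent.Lib.Helper91.M11

variable {G : Type*} [Group G] [Finite G]

/-- The class-algebra count attached to the principal `11`-block: the number of `y` such that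
`x * (y * x⁻¹ * y⁻¹)` is `11`-singular. -/
theorem theta_count (hG : Nat.card G = 7920) (χ45 χa χb χc η₁ η₂ : IrrCharacter G)
    (h45 : (χ45 : G → ℂ) 1 = 45) (ha : (χa : G → ℂ) 1 = 10) (hb : (χb : G → ℂ) 1 = 10)
    (hc : (χc : G → ℂ) 1 = 10) (hη₁ : (η₁ : G → ℂ) 1 = 16) (hη₂ : (η₂ : G → ℂ) 1 = 16)
    (hR11a : ∀ g : G, ¬ 11 ∣ orderOf g → 1 + (χ45 : G → ℂ) g - (χa : G → ℂ) g -
      (χb : G → ℂ) g - (χc : G → ℂ) g - (η₁ : G → ℂ) g = 0)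
    (hR11b : ∀ g : G, ¬ 11 ∣ orderOf g → 1 + (χ45 : G → ℂ) g - (χa : G → ℂ) g -
      (χb : G → ℂ) g - (χc : G → ℂ) g - (η₂ : G → ℂ) g = 0)
    (hΘ : ∀ z : G, 11 ∣ orderOf z → 2 + 2 * (χ45 : G → ℂ) z - 2 * (χa : G → ℂ) z -
      2 * (χb : G → ℂ) z - 2 * (χc : G → ℂ) z - (η₁ : G → ℂ) z - (η₂ : G → ℂ) z = 11)
    (x : G) :
    11 * (Nat.card {y : G // 11 ∣ orderOf (x * (y * x⁻¹ * y⁻¹))} : ℂ) =
      7920 * (2 + 2 * ((χ45 : G → ℂ) x * (starRingEnd ℂ) ((χ45 : G → ℂ) x)) / 45 -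
        2 * ((χa : G → ℂ) x * (starRingEnd ℂ) ((χa : G → ℂ) x)) / 10 -
        2 * ((χb : G → ℂ) x * (starRingEnd ℂ) ((χb : G → ℂ) x)) / 10 -
        2 * ((χc : G → ℂ) x * (starRingEnd ℂ) ((χc : G → ℂ) x)) / 10 -
        ((η₁ : G → ℂ) x * (starRingEnd ℂ) ((η₁ : G → ℂ) x)) / 16 -
        ((η₂ : G → ℂ) x * (starRingEnd ℂ) ((η₂ : G → ℂ) x)) / 16) := by
  classical
  have : Fintype G := Fintype.ofFinite G
  obtain ⟨Θ, hΘdef⟩ : ∃ Θ : G → ℂ, Θ = fun g => 2 + 2 * (χ45 : G → ℂ) g - 2 * (χa : G → ℂ) g -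
      2 * (χb : G → ℂ) g - 2 * (χc : G → ℂ) g - (η₁ : G → ℂ) g - (η₂ : G → ℂ) g := ⟨_, rfl⟩
  have hval : ∀ g, Θ g = if 11 ∣ orderOf g then 11 else 0 := by
    intro g
    by_cases hg : 11 ∣ orderOf g
    · rw [if_pos hg, hΘdef]
      exact hΘ g hg
    · rw [if_neg hg, hΘdef]
      simp only
      linear_combination hR11a g hg + hR11b g hg
  have hsum1 : ∑ y : G, Θ (x * (y * x⁻¹ * y⁻¹)) =
      11 * (Nat.card {y : G // 11 ∣ orderOf (x * (y * x⁻¹ * y⁻¹))} : ℂ) := by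
    simp only [hval]
    rw [Finset.sum_ite, Finset.sum_const_zero, add_zero, Finset.sum_const, nsmul_eq_mul,
      Nat.card_eq_fintype_card, Fintype.card_subtype]
    ring
  have hS : ∀ χ : IrrCharacter G, ∑ y : G, (χ : G → ℂ) (x * (y * x⁻¹ * y⁻¹)) =
      7920 * ((χ : G → ℂ) x * (starRingEnd ℂ) ((χ : G → ℂ) x)) / (χ : G → ℂ) 1 := by
    intro χ
    rw [Cfsg.Agent.Lib.Helper81.irr_sum_conj χ x x⁻¹, Cfsg.Agent.Lib.Helper81.irr_inv, hG]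
    push_cast
    ring
  have hcard : (Fintype.card G : ℂ) = 7920 := by
    rw [← Nat.card_eq_fintype_card, hG]
    norm_num
  have hsum2 : ∑ y : G, Θ (x * (y * x⁻¹ * y⁻¹)) =
      2 * 7920 + 2 * (∑ y : G, (χ45 : G → ℂ) (x * (y * x⁻¹ * y⁻¹))) -
        2 * (∑ y : G, (χa : G → ℂ) (x * (y * x⁻¹ * y⁻¹))) -
        2 * (∑ y : G, (χb : G → ℂ) (x * (y * x⁻¹ * y⁻¹))) -
        2 * (∑ y : G, (χc : G → ℂ) (x * (y * x⁻¹ * y⁻¹))) -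
        (∑ y : G, (η₁ : G → ℂ) (x * (y * x⁻¹ * y⁻¹))) -
        (∑ y : G, (η₂ : G → ℂ) (x * (y * x⁻¹ * y⁻¹))) := by
    rw [hΘdef]
    simp only [Finset.sum_add_distrib, Finset.sum_sub_distrib, ← Finset.mul_sum,
      Finset.sum_const, Finset.card_univ, nsmul_eq_mul, hcard]
    ring
  rw [← hsum1, hsum2, hS χ45, hS χa, hS χb, hS χc, hS η₁, hS η₂, h45, ha, hb, hc, hη₁, hη₂]
  ring

set_option maxHeartbeats 3200000 in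
/-- The values of the ten irreducible characters at an element `x` of order `3`, and
`|C(x)| = 18`; the values on `11`-singular elements and the divisibility coming from the free
action of `C(x) × C(x)` are hypotheses here. -/
theorem three_values_aux [IsSimpleGroup G] (hG : Nat.card G = 7920)
    (ψ χ₁ χ45 χa χb χc η₁ η₂ θ₁ θ₂ : IrrCharacter G)
    (hbij : Function.Bijective
      (![ψ, χ₁, χ45, χa, χb, χc, η₁, η₂, θ₁, θ₂] : Fin 10 → IrrCharacter G))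
    (hdψ : Cfsg.charDegree (ψ : G → ℂ) = 55) (hχ₁ : ∀ g, (χ₁ : G → ℂ) g = 1)
    (hd45 : Cfsg.charDegree (χ45 : G → ℂ) = 45) (hda : Cfsg.charDegree (χa : G → ℂ) = 10)
    (hdb : Cfsg.charDegree (χb : G → ℂ) = 10) (hdc : Cfsg.charDegree (χc : G → ℂ) = 10)
    (hdη₁ : Cfsg.charDegree (η₁ : G → ℂ) = 16) (hdη₂ : Cfsg.charDegree (η₂ : G → ℂ) = 16)
    (hdθ₁ : Cfsg.charDegree (θ₁ : G → ℂ) = 11) (hdθ₂ : Cfsg.charDegree (θ₂ : G → ℂ) = 44)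
    (hR11a : ∀ g : G, ¬ 11 ∣ orderOf g → 1 + (χ45 : G → ℂ) g - (χa : G → ℂ) g -
      (χb : G → ℂ) g - (χc : G → ℂ) g - (η₁ : G → ℂ) g = 0)
    (hR11b : ∀ g : G, ¬ 11 ∣ orderOf g → 1 + (χ45 : G → ℂ) g - (χa : G → ℂ) g -
      (χb : G → ℂ) g - (χc : G → ℂ) g - (η₂ : G → ℂ) g = 0)
    (hR5 : ∀ g : G, ¬ 5 ∣ orderOf g → 1 + (η₁ : G → ℂ) g + (η₂ : G → ℂ) g + (θ₁ : G → ℂ) g -
      (θ₂ : G → ℂ) g = 0)
    (hΘ : ∀ z : G, 11 ∣ orderOf z → 2 + 2 * (χ45 : G → ℂ) z - 2 * (χa : G → ℂ) z -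
      2 * (χb : G → ℂ) z - 2 * (χc : G → ℂ) z - (η₁ : G → ℂ) z - (η₂ : G → ℂ) z = 11)
    (x : G) (hx : orderOf x = 3)
    (hdvd : Nat.card (Subgroup.centralizer ({x} : Set G)) ^ 2 ∣
      Nat.card {y : G // 11 ∣ orderOf (x * (y * x⁻¹ * y⁻¹))}) :
    Nat.card (Subgroup.centralizer ({x} : Set G)) = 18 ∧
    (ψ : G → ℂ) x = 1 ∧ (χ45 : G → ℂ) x = 0 ∧ (χa : G → ℂ) x = 1 ∧ (χb : G → ℂ) x = 1 ∧
    (χc : G → ℂ) x = 1 ∧ (η₁ : G → ℂ) x = -2 ∧ (η₂ : G → ℂ) x = -2 ∧ (θ₁ : G → ℂ) x = 2 ∧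
    (θ₂ : G → ℂ) x = -1 := by
  classical
  have hGn : ¬ (Nat.card G).Prime := by rw [hG]; norm_num
  have : Fact (Nat.Prime 3) := ⟨by norm_num⟩
  have : Fintype G := Fintype.ofFinite G
  have hx1 : x ≠ 1 := by
    intro h
    rw [h, orderOf_one] at hx
    omega
  have hreg11 : ¬ 11 ∣ orderOf x := by rw [hx]; norm_num
  have hreg5 : ¬ 5 ∣ orderOf x := by rw [hx]; norm_num
  have h1H := (Cfsg.Agent.Lib.Helper79.irr_charDegree ψ.2).1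
  have h1G := (Cfsg.Agent.Lib.Helper79.irr_charDegree χ45.2).1
  have h1A := (Cfsg.Agent.Lib.Helper79.irr_charDegree χa.2).1
  have h1B := (Cfsg.Agent.Lib.Helper79.irr_charDegree χb.2).1
  have h1C := (Cfsg.Agent.Lib.Helper79.irr_charDegree χc.2).1
  have h1E := (Cfsg.Agent.Lib.Helper79.irr_charDegree η₁.2).1
  have h1E' := (Cfsg.Agent.Lib.Helper79.irr_charDegree η₂.2).1
  have h1D := (Cfsg.Agent.Lib.Helper79.irr_charDegree θ₁.2).1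
  have h1F := (Cfsg.Agent.Lib.Helper79.irr_charDegree θ₂.2).1
  obtain ⟨uH, vH, hvH⟩ := irr_value_three hGn ψ x hx
  obtain ⟨uG, vG, hvG⟩ := irr_value_three hGn χ45 x hx
  obtain ⟨uA, vA, hvA⟩ := irr_value_three hGn χa x hx
  obtain ⟨uB, vB, hvB⟩ := irr_value_three hGn χb x hx
  obtain ⟨uC, vC, hvC⟩ := irr_value_three hGn χc x hx
  obtain ⟨uE, vE, hvE⟩ := irr_value_three hGn η₁ x hx
  obtain ⟨uE', vE', hvE'⟩ := irr_value_three hGn η₂ x hx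
  obtain ⟨uD, vD, hvD⟩ := irr_value_three hGn θ₁ x hx
  obtain ⟨uF, vF, hvF⟩ := irr_value_three hGn θ₂ x hx
  rw [hdψ] at hvH h1H
  rw [hd45] at hvG h1G
  rw [hda] at hvA h1A
  rw [hdb] at hvB h1B
  rw [hdc] at hvC h1C
  rw [hdη₁] at hvE h1E
  rw [hdη₂] at hvE' h1E'
  rw [hdθ₁] at hvD h1D
  rw [hdθ₂] at hvF h1F
  -- integer names for the coordinates of the values
  obtain ⟨AH, hAH⟩ : ∃ z : ℤ, z = 55 - 3 * uH := ⟨_, rfl⟩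
  obtain ⟨BH, hBH⟩ : ∃ z : ℤ, z = 3 * vH := ⟨_, rfl⟩
  obtain ⟨AG, hAG⟩ : ∃ z : ℤ, z = 45 - 3 * uG := ⟨_, rfl⟩
  obtain ⟨BG, hBG⟩ : ∃ z : ℤ, z = 3 * vG := ⟨_, rfl⟩
  obtain ⟨AA, hAA⟩ : ∃ z : ℤ, z = 10 - 3 * uA := ⟨_, rfl⟩
  obtain ⟨BA, hBA⟩ : ∃ z : ℤ, z = 3 * vA := ⟨_, rfl⟩
  obtain ⟨AB, hAB⟩ : ∃ z : ℤ, z = 10 - 3 * uB := ⟨_, rfl⟩
  obtain ⟨BB, hBB⟩ : ∃ z : ℤ, z = 3 * vB := ⟨_, rfl⟩
  obtain ⟨AC, hAC⟩ : ∃ z : ℤ, z = 10 - 3 * uC := ⟨_, rfl⟩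
  obtain ⟨BC, hBC⟩ : ∃ z : ℤ, z = 3 * vC := ⟨_, rfl⟩
  obtain ⟨AE, hAE⟩ : ∃ z : ℤ, z = 16 - 3 * uE := ⟨_, rfl⟩
  obtain ⟨BE, hBE⟩ : ∃ z : ℤ, z = 3 * vE := ⟨_, rfl⟩
  obtain ⟨AE', hAE'⟩ : ∃ z : ℤ, z = 16 - 3 * uE' := ⟨_, rfl⟩
  obtain ⟨BE', hBE'⟩ : ∃ z : ℤ, z = 3 * vE' := ⟨_, rfl⟩
  obtain ⟨AD, hAD⟩ : ∃ z : ℤ, z = 11 - 3 * uD := ⟨_, rfl⟩
  obtain ⟨BD, hBD⟩ : ∃ z : ℤ, z = 3 * vD := ⟨_, rfl⟩
  obtain ⟨AF, hAF⟩ : ∃ z : ℤ, z = 44 - 3 * uF := ⟨_, rfl⟩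
  obtain ⟨BF, hBF⟩ : ∃ z : ℤ, z = 3 * vF := ⟨_, rfl⟩
  have wH : (ψ : G → ℂ) x = (AH : ℂ) + (BH : ℂ) * om3 := by
    rw [hvH, hAH, hBH]; push_cast; ring
  have wG : (χ45 : G → ℂ) x = (AG : ℂ) + (BG : ℂ) * om3 := by
    rw [hvG, hAG, hBG]; push_cast; ring
  have wA : (χa : G → ℂ) x = (AA : ℂ) + (BA : ℂ) * om3 := by
    rw [hvA, hAA, hBA]; push_cast; ring
  have wB : (χb : G → ℂ) x = (AB : ℂ) + (BB : ℂ) * om3 := by
    rw [hvB, hAB, hBB]; push_cast; ring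
  have wC : (χc : G → ℂ) x = (AC : ℂ) + (BC : ℂ) * om3 := by
    rw [hvC, hAC, hBC]; push_cast; ring
  have wE : (η₁ : G → ℂ) x = (AE : ℂ) + (BE : ℂ) * om3 := by
    rw [hvE, hAE, hBE]; push_cast; ring
  have wE' : (η₂ : G → ℂ) x = (AE' : ℂ) + (BE' : ℂ) * om3 := by
    rw [hvE', hAE', hBE']; push_cast; ring
  have wD : (θ₁ : G → ℂ) x = (AD : ℂ) + (BD : ℂ) * om3 := by
    rw [hvD, hAD, hBD]; push_cast; ring
  have wF : (θ₂ : G → ℂ) x = (AF : ℂ) + (BF : ℂ) * om3 := by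
    rw [hvF, hAF, hBF]; push_cast; ring
  -- `χ45` has `3`-defect zero
  have hG0 : (χ45 : G → ℂ) x = 0 :=
    Cfsg.Agent.Lib.Helper58.Steinberg.irr_vanish_of_defect_zero (p := 3) χ45.2 45 1 176
      h1G (by rw [hG]) (by norm_num) (by rw [hx])
  obtain ⟨hAG0, hBG0⟩ := om3_indep AG BG (by rw [← wG]; exact hG0)
  -- the block relations at `x`
  have e1 := hR11a x hreg11
  have e1' := hR11b x hreg11
  have e3 := hR5 x hreg5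
  rw [wG, wA, wB, wC, wE] at e1
  rw [wG, wA, wB, wC, wE'] at e1'
  rw [wE, wE', wD, wF] at e3
  obtain ⟨i1, i1b⟩ := om3_indep (1 + AG - AA - AB - AC - AE) (BG - BA - BB - BC - BE)
    (by push_cast; linear_combination e1)
  obtain ⟨i1', i1b'⟩ := om3_indep (1 + AG - AA - AB - AC - AE') (BG - BA - BB - BC - BE')
    (by push_cast; linear_combination e1')
  obtain ⟨i3, i3b⟩ := om3_indep (1 + AE + AE' + AD - AF) (BE + BE' + BD - BF)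
    (by push_cast; linear_combination e3)
  -- column orthogonality
  have : Finite (IrrCharacter G) := Cfsg.Agent.Lib.Helper81.irr_finite G
  have : Fintype (IrrCharacter G) := Fintype.ofFinite _
  have hnc : ¬ IsConj x 1 := fun h => hx1 (isConj_one_left.mp h)
  have hcol0 := Cfsg.Agent.Lib.Helper80.second_orthogonality_of_not_isConj (G := G) hnc
  have hcol1 := Cfsg.Agent.Lib.Helper80.second_orthogonality_of_isConj (G := G) (IsConj.refl x)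
  rw [← hbij.sum_comp, sum_univ_ten'] at hcol0 hcol1
  have hcol0' : (ψ : G → ℂ) x * (starRingEnd ℂ) ((ψ : G → ℂ) 1) +
      (χ₁ : G → ℂ) x * (starRingEnd ℂ) ((χ₁ : G → ℂ) 1) +
      (χ45 : G → ℂ) x * (starRingEnd ℂ) ((χ45 : G → ℂ) 1) +
      (χa : G → ℂ) x * (starRingEnd ℂ) ((χa : G → ℂ) 1) +
      (χb : G → ℂ) x * (starRingEnd ℂ) ((χb : G → ℂ) 1) +
      (χc : G → ℂ) x * (starRingEnd ℂ) ((χc : G → ℂ) 1) +
      (η₁ : G → ℂ) x * (starRingEnd ℂ) ((η₁ : G → ℂ) 1) +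
      (η₂ : G → ℂ) x * (starRingEnd ℂ) ((η₂ : G → ℂ) 1) +
      (θ₁ : G → ℂ) x * (starRingEnd ℂ) ((θ₁ : G → ℂ) 1) +
      (θ₂ : G → ℂ) x * (starRingEnd ℂ) ((θ₂ : G → ℂ) 1) = 0 := hcol0
  have hcol1' : (ψ : G → ℂ) x * (starRingEnd ℂ) ((ψ : G → ℂ) x) +
      (χ₁ : G → ℂ) x * (starRingEnd ℂ) ((χ₁ : G → ℂ) x) +
      (χ45 : G → ℂ) x * (starRingEnd ℂ) ((χ45 : G → ℂ) x) +
      (χa : G → ℂ) x * (starRingEnd ℂ) ((χa : G → ℂ) x) +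
      (χb : G → ℂ) x * (starRingEnd ℂ) ((χb : G → ℂ) x) +
      (χc : G → ℂ) x * (starRingEnd ℂ) ((χc : G → ℂ) x) +
      (η₁ : G → ℂ) x * (starRingEnd ℂ) ((η₁ : G → ℂ) x) +
      (η₂ : G → ℂ) x * (starRingEnd ℂ) ((η₂ : G → ℂ) x) +
      (θ₁ : G → ℂ) x * (starRingEnd ℂ) ((θ₁ : G → ℂ) x) +
      (θ₂ : G → ℂ) x * (starRingEnd ℂ) ((θ₂ : G → ℂ) x) =
      (Nat.card (Subgroup.centralizer ({x} : Set G)) : ℂ) := hcol1
  rw [h1H, h1G, h1A, h1B, h1C, h1E, h1E', h1D, h1F, hχ₁ 1, hχ₁ x, wH, wG, wA, wB, wC, wE, wE',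
    wD, wF] at hcol0'
  rw [hχ₁ x, wH, wG, wA, wB, wC, wE, wE', wD, wF] at hcol1'
  simp only [map_natCast, map_one] at hcol0'
  simp only [om3_norm, map_one] at hcol1'
  obtain ⟨i4, i4b⟩ := om3_indep
    (55 * AH + 1 + 45 * AG + 10 * AA + 10 * AB + 10 * AC + 16 * AE + 16 * AE' + 11 * AD +
      44 * AF)
    (55 * BH + 45 * BG + 10 * BA + 10 * BB + 10 * BC + 16 * BE + 16 * BE' + 11 * BD + 44 * BF)
    (by push_cast; linear_combination hcol0')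
  have i5 : (AH ^ 2 - AH * BH + BH ^ 2) + 1 + (AG ^ 2 - AG * BG + BG ^ 2) +
      (AA ^ 2 - AA * BA + BA ^ 2) + (AB ^ 2 - AB * BB + BB ^ 2) + (AC ^ 2 - AC * BC + BC ^ 2) +
      (AE ^ 2 - AE * BE + BE ^ 2) + (AE' ^ 2 - AE' * BE' + BE' ^ 2) +
      (AD ^ 2 - AD * BD + BD ^ 2) + (AF ^ 2 - AF * BF + BF ^ 2) =
      (Nat.card (Subgroup.centralizer ({x} : Set G)) : ℤ) := by
    have h : (((AH ^ 2 - AH * BH + BH ^ 2) + 1 + (AG ^ 2 - AG * BG + BG ^ 2) +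
      (AA ^ 2 - AA * BA + BA ^ 2) + (AB ^ 2 - AB * BB + BB ^ 2) + (AC ^ 2 - AC * BC + BC ^ 2) +
      (AE ^ 2 - AE * BE + BE ^ 2) + (AE' ^ 2 - AE' * BE' + BE' ^ 2) +
      (AD ^ 2 - AD * BD + BD ^ 2) + (AF ^ 2 - AF * BF + BF ^ 2) : ℤ) : ℂ) =
      ((Nat.card (Subgroup.centralizer ({x} : Set G)) : ℤ) : ℂ) := by
      push_cast
      push_cast at hcol1'
      linear_combination hcol1'
    exact_mod_cast h
  -- the class-algebra count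
  have hcount := theta_count hG χ45 χa χb χc η₁ η₂ (by rw [h1G]; norm_num)
    (by rw [h1A]; norm_num) (by rw [h1B]; norm_num) (by rw [h1C]; norm_num)
    (by rw [h1E]; norm_num) (by rw [h1E']; norm_num) hR11a hR11b hΘ x
  rw [wG, wA, wB, wC, wE, wE'] at hcount
  simp only [om3_norm] at hcount
  have i6 : ((Nat.card {y : G // 11 ∣ orderOf (x * (y * x⁻¹ * y⁻¹))} : ℕ) : ℤ) =
      1440 + 32 * (AG ^ 2 - AG * BG + BG ^ 2) -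
      144 * ((AA ^ 2 - AA * BA + BA ^ 2) + (AB ^ 2 - AB * BB + BB ^ 2) +
        (AC ^ 2 - AC * BC + BC ^ 2)) -
      45 * ((AE ^ 2 - AE * BE + BE ^ 2) + (AE' ^ 2 - AE' * BE' + BE' ^ 2)) := by
    have h : (((Nat.card {y : G // 11 ∣ orderOf (x * (y * x⁻¹ * y⁻¹))} : ℕ) : ℤ) : ℂ) =
      ((1440 + 32 * (AG ^ 2 - AG * BG + BG ^ 2) -
      144 * ((AA ^ 2 - AA * BA + BA ^ 2) + (AB ^ 2 - AB * BB + BB ^ 2) +
        (AC ^ 2 - AC * BC + BC ^ 2)) -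
      45 * ((AE ^ 2 - AE * BE + BE ^ 2) + (AE' ^ 2 - AE' * BE' + BE' ^ 2)) : ℤ) : ℂ) := by
      push_cast
      push_cast at hcount
      linear_combination (1 / 11 : ℂ) * hcount
    exact_mod_cast h
  obtain ⟨hc18, hAH1, hBH0, hAA1, hBA0, hAB1, hBB0, hAC1, hBC0, hAE2, hBE0, hAE'2, hBE'0, hAD2,
    hBD0, hAF1, hBF0⟩ := arith_three AH BH AG BG AA BA AB BB AC BC AE BE AE' BE' AD BD AF BF
    uA vA uB vB uC vC uD _ _ hAA hBA hAB hBB hAC hBC hAD hAG0 hBG0 i1 i1b i1' i1b' i3 i3b i4 i4b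
    i5 i6 hdvd
  refine ⟨hc18, ?_, hG0, ?_, ?_, ?_, ?_, ?_, ?_, ?_⟩
  · rw [wH, hAH1, hBH0]; push_cast; ring
  · rw [wA, hAA1, hBA0]; push_cast; ring
  · rw [wB, hAB1, hBB0]; push_cast; ring
  · rw [wC, hAC1, hBC0]; push_cast; ring
  · rw [wE, hAE2, hBE0]; push_cast; ring
  · rw [wE', hAE'2, hBE'0]; push_cast; ring
  · rw [wD, hAD2, hBD0]; push_cast; ring
  · rw [wF, hAF1, hBF0]; push_cast; ring

end Cfsg.Agent.Lib.Helper93.M11
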