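import Mathlib
import Cfsg.Agent.Lib.Helper91.M11Inv

set_option autoImplicit false

/-!
# A free action of `C(x) × C(x)` for an element `x` of order `3` in a simple group of
order `7920`
-/

namespace Cfsg.Agent.Lib.Helper93.M11

open Cfsg

variable {G : Type*} [Group G] [Finite G]

omit [Finite G] in
/-- If `C × C` acts freely on `T` by `(c₁, c₂) • y = c₁ * y * c₂⁻¹`, then `|C|^2` divides `|T|`. -/
theorem card_sq_dvd_of_free (C : Subgroup G) (T : Set G)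
    (hT : ∀ y ∈ T, ∀ c₁ ∈ C, ∀ c₂ ∈ C, c₁ * y * c₂⁻¹ ∈ T)
    (hfree : ∀ y ∈ T, ∀ c₁ ∈ C, ∀ c₂ ∈ C, c₁ * y * c₂⁻¹ = y → c₁ = 1) :
    Nat.card C ^ 2 ∣ Nat.card T := by
  classical
  let act : MulAction (C × C) T :=
    { smul := fun c y => ⟨(c.1 : G) * y * (c.2 : G)⁻¹, hT y y.2 c.1 c.1.2 c.2 c.2.2⟩
      one_smul := fun y => by
        apply Subtype.ext
        show (((1 : C × C).1 : C) : G) * y * (((1 : C × C).2 : C) : G)⁻¹ = y
        simp
      mul_smul := fun c d y => by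
        apply Subtype.ext
        show (((c * d).1 : C) : G) * y * (((c * d).2 : C) : G)⁻¹ =
          (c.1 : G) * ((d.1 : G) * y * (d.2 : G)⁻¹) * (c.2 : G)⁻¹
        simp [mul_assoc] }
  have hstab : ∀ y : T, MulAction.stabilizer (C × C) y = ⊥ := by
    intro y
    rw [Subgroup.eq_bot_iff_forall]
    intro c hc
    rw [MulAction.mem_stabilizer_iff] at hc
    have h1 : (c.1 : G) * y * (c.2 : G)⁻¹ = y := congrArg Subtype.val hc
    have hc1 : (c.1 : G) = 1 := hfree y y.2 c.1 c.1.2 c.2 c.2.2 h1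
    have hc2 : (c.2 : G) = 1 := by
      rw [hc1, one_mul] at h1
      have : (c.2 : G)⁻¹ = 1 := mul_left_cancel (a := (y : G)) (by rw [h1, mul_one])
      exact inv_eq_one.mp this
    exact Prod.ext (Subtype.ext hc1) (Subtype.ext hc2)
  have e := MulAction.selfEquivOrbitsQuotientProd hstab
  rw [Nat.card_congr e, Nat.card_prod, Nat.card_prod, ← pow_two]
  exact Dvd.intro_left _ rfl

/-- For `x` of order `3` in a simple group of order `7920`, the square of `|C(x)|` divides the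
number of `y` such that `x * (y * x⁻¹ * y⁻¹)` is `11`-singular. -/
theorem card_centralizer_sq_dvd [IsSimpleGroup G] (hG : Nat.card G = 7920) (x : G)
    (hx : orderOf x = 3) :
    Nat.card (Subgroup.centralizer ({x} : Set G)) ^ 2 ∣
      Nat.card {y : G // 11 ∣ orderOf (x * (y * x⁻¹ * y⁻¹))} := by
  classical
  have hp : Nat.Prime 11 := by norm_num
  have : Fact (Nat.Prime 11) := ⟨hp⟩
  have hcomm : ∀ c ∈ Subgroup.centralizer ({x} : Set G), x * c = c * x := by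
    intro c hc
    rw [Subgroup.mem_centralizer_iff] at hc
    exact hc x rfl
  apply card_sq_dvd_of_free (Subgroup.centralizer ({x} : Set G))
    {y : G | 11 ∣ orderOf (x * (y * x⁻¹ * y⁻¹))}
  · intro y hy c₁ hc₁ c₂ hc₂
    have hx1 := hcomm c₁ hc₁
    have hx2 := hcomm c₂ hc₂
    have e1 : c₂⁻¹ * x⁻¹ = x⁻¹ * c₂⁻¹ := by rw [← mul_inv_rev, ← mul_inv_rev, hx2]
    have key : x * (c₁ * y * c₂⁻¹ * x⁻¹ * (c₁ * y * c₂⁻¹)⁻¹) =
        MulAut.conj c₁ (x * (y * x⁻¹ * y⁻¹)) := by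
      rw [MulAut.conj_apply]
      calc x * (c₁ * y * c₂⁻¹ * x⁻¹ * (c₁ * y * c₂⁻¹)⁻¹)
          = x * c₁ * y * (c₂⁻¹ * x⁻¹) * c₂ * y⁻¹ * c₁⁻¹ := by group
        _ = c₁ * x * y * (x⁻¹ * c₂⁻¹) * c₂ * y⁻¹ * c₁⁻¹ := by rw [hx1, e1]
        _ = c₁ * (x * (y * x⁻¹ * y⁻¹)) * c₁⁻¹ := by group
    show 11 ∣ orderOf (x * (c₁ * y * c₂⁻¹ * x⁻¹ * (c₁ * y * c₂⁻¹)⁻¹))
    rw [key, MulEquiv.orderOf_eq]
    exact hy
  · intro y hy c₁ hc₁ c₂ hc₂ h
    have hy' : 11 ∣ orderOf (x * (y * x⁻¹ * y⁻¹)) := hy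
    by_contra hne
    have hx1 := hcomm c₁ hc₁
    have hx2 := hcomm c₂ hc₂
    -- `c₁` commutes with `z`
    have hc1y : c₁ = y * c₂ * y⁻¹ := by
      calc c₁ = (c₁ * y * c₂⁻¹) * c₂ * y⁻¹ := by group
        _ = y * c₂ * y⁻¹ := by rw [h]
    have hz : Commute c₁ (x * (y * x⁻¹ * y⁻¹)) := by
      have h1 : Commute c₁ x := hx1.symm
      have h2 : Commute c₂ x⁻¹ := (Commute.inv_right (show Commute c₂ x from hx2.symm))
      have h3 : Commute (y * c₂ * y⁻¹) (y * x⁻¹ * y⁻¹) := (Commute.conj_iff y).mpr h2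
      rw [← hc1y] at h3
      exact h1.mul_right h3
    -- the `11`-part
    obtain ⟨m, hm⟩ := hy'
    have hpos : 0 < orderOf (x * (y * x⁻¹ * y⁻¹)) := orderOf_pos _
    have hm0 : m ≠ 0 := by
      rintro rfl
      rw [mul_zero] at hm
      omega
    have hw : orderOf ((x * (y * x⁻¹ * y⁻¹)) ^ m) = 11 := by
      rw [orderOf_pow_of_dvd hm0 ⟨11, by rw [hm, mul_comm]⟩, hm]
      exact Nat.mul_div_cancel _ (Nat.pos_of_ne_zero hm0)
    obtain ⟨w, hwdef⟩ : ∃ w : G, w = (x * (y * x⁻¹ * y⁻¹)) ^ m := ⟨_, rfl⟩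
    rw [← hwdef] at hw
    have hw1 : w ≠ 1 := by
      intro h1
      rw [h1, orderOf_one] at hw
      omega
    have hcw : Commute c₁ w := by
      rw [hwdef]
      exact hz.pow_right m
    have hpg : IsPGroup 11 (Subgroup.zpowers w) :=
      IsPGroup.of_card (n := 1) (by rw [Nat.card_zpowers, hw, pow_one])
    obtain ⟨Q, hQ⟩ := hpg.exists_le_sylow
    obtain ⟨hQcard, -, hCQ, -⟩ := Cfsg.Agent.Lib.Helper91.M11.sylow11 hG Q
    have hwQ : w ∈ (Q : Subgroup G) := hQ (Subgroup.mem_zpowers w)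
    have hc1Q : c₁ ∈ (Q : Subgroup G) := by
      rw [← hCQ]
      exact Cfsg.Agent.Lib.Helper91.SS.mem_centralizer_of_commute hp (Q : Subgroup G) hQcard w hwQ
        hw1 c₁ hcw
    have hxQ : x ∈ (Q : Subgroup G) := by
      rw [← hCQ]
      exact Cfsg.Agent.Lib.Helper91.SS.mem_centralizer_of_commute hp (Q : Subgroup G) hQcard c₁
        hc1Q hne x hx1
    have hdvd := Subgroup.orderOf_dvd_natCard (Q : Subgroup G) hxQ
    rw [hx, hQcard] at hdvd
    omega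

end Cfsg.Agent.Lib.Helper93.M11
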