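import Mathlib
import Cfsg.Agent.Lib.Helper93.M11T3
import Cfsg.Agent.Lib.Helper93.M11T4
import Cfsg.Agent.Lib.Helper91.M11Theta

set_option autoImplicit false

/-!
# Elements of order `3` in a simple group of order `7920`

Every element `x` of order `3` has `|C(x)| = 18`, the ten irreducible characters take the values
`1, 1, 0, 1, 1, 1, -2, -2, 2, -1` at `x`, and all elements of order `3` are conjugate.
-/

namespace Cfsg.Agent.Lib.Helper93.M11

open Cfsg Cfsg.Agent.Lib.Helper91.M11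

variable {G : Type*} [Group G] [Finite G]

omit [Group G] [Finite G] in
/-- a subfamily of seven of the ten characters -/
theorem seven_injective {α : Type*} (f : Fin 10 → α) (hf : Function.Injective f) :
    Function.Injective (![f 1, f 2, f 3, f 4, f 5, f 6, f 7] : Fin 7 → α) := by
  have h : (![f 1, f 2, f 3, f 4, f 5, f 6, f 7] : Fin 7 → α) =
      f ∘ (![1, 2, 3, 4, 5, 6, 7] : Fin 7 → Fin 10) := by
    funext i
    fin_cases i <;> rfl
  rw [h]
  exact hf.comp (by decide)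

set_option maxHeartbeats 1600000 in
/-- The values of the ten irreducible characters of a simple group of order `7920` at the
elements of order `3`. -/
theorem three_main [IsSimpleGroup G] (hG : Nat.card G = 7920) :
    ∃ ψ χ₁ χ45 χa χb χc η₁ η₂ θ₁ θ₂ : IrrCharacter G,
      Function.Bijective
        (![ψ, χ₁, χ45, χa, χb, χc, η₁, η₂, θ₁, θ₂] : Fin 10 → IrrCharacter G) ∧
      (∀ g, (χ₁ : G → ℂ) g = 1) ∧
      ∀ x : G, orderOf x = 3 →
        Nat.card (Subgroup.centralizer ({x} : Set G)) = 18 ∧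
        (ψ : G → ℂ) x = 1 ∧ (χ45 : G → ℂ) x = 0 ∧ (χa : G → ℂ) x = 1 ∧ (χb : G → ℂ) x = 1 ∧
        (χc : G → ℂ) x = 1 ∧ (η₁ : G → ℂ) x = -2 ∧ (η₂ : G → ℂ) x = -2 ∧
        (θ₁ : G → ℂ) x = 2 ∧ (θ₂ : G → ℂ) x = -1 := by
  obtain ⟨ψ, χ₁, χ45, χa, χb, χc, η₁, η₂, θ₁, θ₂, hbij, hdψ, hχ₁, hd45, hda, hdb, hdc, hdη₁,
    hdη₂, hdθ₁, hdθ₂, hR11a, hR11b, -, hR5⟩ := table7920 hG
  refine ⟨ψ, χ₁, χ45, χa, χb, χc, η₁, η₂, θ₁, θ₂, hbij, hχ₁, ?_⟩
  intro x hx
  have hinj7 := seven_injective _ hbij.injective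
  have hΘ := theta_eleven hG χ₁ χ45 χa χb χc η₁ η₂ hinj7 hχ₁ hR11a hR11b
  exact three_values_aux hG ψ χ₁ χ45 χa χb χc η₁ η₂ θ₁ θ₂ hbij hdψ hχ₁ hd45 hda hdb hdc hdη₁
    hdη₂ hdθ₁ hdθ₂ hR11a hR11b hR5 hΘ x hx (card_centralizer_sq_dvd hG x hx)

/-- **The centralizer of an element of order `3`** in a simple group of order `7920` has
order `18`. -/
theorem card_centralizer_three [IsSimpleGroup G] (hG : Nat.card G = 7920) (x : G)
    (hx : orderOf x = 3) : Nat.card (Subgroup.centralizer ({x} : Set G)) = 18 := by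
  obtain ⟨ψ, χ₁, χ45, χa, χb, χc, η₁, η₂, θ₁, θ₂, -, -, h⟩ := three_main hG
  exact (h x hx).1

/-- **All elements of order `3`** of a simple group of order `7920` are conjugate. -/
theorem isConj_of_orderOf_three [IsSimpleGroup G] (hG : Nat.card G = 7920) (x x' : G)
    (hx : orderOf x = 3) (hx' : orderOf x' = 3) : IsConj x x' := by
  classical
  obtain ⟨ψ, χ₁, χ45, χa, χb, χc, η₁, η₂, θ₁, θ₂, hbij, hχ₁, h⟩ := three_main hG
  obtain ⟨-, a1, a2, a3, a4, a5, a6, a7, a8, a9⟩ := h x hx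
  obtain ⟨-, b1, b2, b3, b4, b5, b6, b7, b8, b9⟩ := h x' hx'
  by_contra hnc
  have : Fintype G := Fintype.ofFinite G
  have : Finite (IrrCharacter G) := Cfsg.Agent.Lib.Helper81.irr_finite G
  have : Fintype (IrrCharacter G) := Fintype.ofFinite _
  have hcol := Cfsg.Agent.Lib.Helper80.second_orthogonality_of_not_isConj (G := G) hnc
  rw [← hbij.sum_comp, sum_univ_ten'] at hcol
  have hcol' : (ψ : G → ℂ) x * (starRingEnd ℂ) ((ψ : G → ℂ) x') +
      (χ₁ : G → ℂ) x * (starRingEnd ℂ) ((χ₁ : G → ℂ) x') +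
      (χ45 : G → ℂ) x * (starRingEnd ℂ) ((χ45 : G → ℂ) x') +
      (χa : G → ℂ) x * (starRingEnd ℂ) ((χa : G → ℂ) x') +
      (χb : G → ℂ) x * (starRingEnd ℂ) ((χb : G → ℂ) x') +
      (χc : G → ℂ) x * (starRingEnd ℂ) ((χc : G → ℂ) x') +
      (η₁ : G → ℂ) x * (starRingEnd ℂ) ((η₁ : G → ℂ) x') +
      (η₂ : G → ℂ) x * (starRingEnd ℂ) ((η₂ : G → ℂ) x') +
      (θ₁ : G → ℂ) x * (starRingEnd ℂ) ((θ₁ : G → ℂ) x') +
      (θ₂ : G → ℂ) x * (starRingEnd ℂ) ((θ₂ : G → ℂ) x') = 0 := hcol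
  rw [a1, a2, a3, a4, a5, a6, a7, a8, a9, b1, b2, b3, b4, b5, b6, b7, b8, b9, hχ₁ x, hχ₁ x']
    at hcol'
  simp only [map_one, map_neg, map_ofNat, map_zero] at hcol'
  norm_num at hcol'

end Cfsg.Agent.Lib.Helper93.M11
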