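import Cfsg.Agent.Lib.Helper93.Trios
import Cfsg.Prelude.Def_Sporadic_a

set_option autoImplicit false

namespace Cfsg.Agent.Lib.Helper93

open Finset

/-- If an octad `e ≠ o` contains the 4-set `t ⊆ o` then `e ∩ o = t`. -/
theorem octad_inter_eq_of_subset {o e t : Finset Cfsg.GolayPt} (ho : o ∈ Cfsg.octads)
    (he : e ∈ Cfsg.octads) (hne : e ≠ o) (ht : t.card = 4) (hto : t ⊆ o) (hte : t ⊆ e) :
    e ∩ o = t := by
  have hsub : t ⊆ e ∩ o := Finset.subset_inter hte hto
  have hle := Finset.card_le_card hsub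
  symm
  apply Finset.eq_of_subset_of_card_le hsub
  rcases octad_inter he ho hne with h | h | h <;> omega

/-- Two octads meeting in four points have a common disjoint octad. -/
theorem exists_common_disjoint {o o' : Finset Cfsg.GolayPt} (ho : o ∈ Cfsg.octads)
    (ho' : o' ∈ Cfsg.octads) (h4 : (o ∩ o').card = 4) :
    ∃ c ∈ Cfsg.octads, Disjoint o c ∧ Disjoint o' c := by
  classical
  have hU : (o ∪ o').card = 12 := by
    have := Finset.card_union_add_card_inter o o'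
    rw [octad_card ho, octad_card ho'] at this
    omega
  set t := o ∩ o' with ht
  have hto : t ⊆ o := Finset.inter_subset_left
  have hto' : t ⊆ o' := Finset.inter_subset_right
  -- first extra point
  obtain ⟨y, hy⟩ : ∃ y, y ∉ o ∪ o' := by
    by_contra hcon
    push Not at hcon
    have : o ∪ o' = Finset.univ := Finset.eq_univ_iff_forall.mpr hcon
    rw [this, Finset.card_univ, card_golayPt] at hU
    omega
  have hyt : y ∉ t := fun h => hy (Finset.mem_union_left _ (hto h))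
  obtain ⟨e3, he3, hs3⟩ := octad_exists (s := insert y t)
    (by rw [Finset.card_insert_of_notMem hyt, h4])
  have hy3 : y ∈ e3 := hs3 (Finset.mem_insert_self _ _)
  have ht3 : t ⊆ e3 := fun x hx => hs3 (Finset.mem_insert_of_mem hx)
  have hne3 : e3 ≠ o := by rintro rfl; exact hy (Finset.mem_union_left _ hy3)
  have hne3' : e3 ≠ o' := by rintro rfl; exact hy (Finset.mem_union_right _ hy3)
  have hi3 : e3 ∩ o = t := octad_inter_eq_of_subset ho he3 hne3 h4 hto ht3
  have hi3' : e3 ∩ o' = t := octad_inter_eq_of_subset ho' he3 hne3' h4 hto' ht3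
  -- second extra point
  have hU3 : ((o ∪ o') ∪ e3).card ≤ 20 := by
    have := Finset.card_union_le (o ∪ o') e3
    rw [hU, octad_card he3] at this
    exact this
  obtain ⟨y', hy'⟩ : ∃ y', y' ∉ (o ∪ o') ∪ e3 := by
    by_contra hcon
    push Not at hcon
    have : (o ∪ o') ∪ e3 = Finset.univ := Finset.eq_univ_iff_forall.mpr hcon
    rw [this, Finset.card_univ, card_golayPt] at hU3
    omega
  have hy'U : y' ∉ o ∪ o' := fun h => hy' (Finset.mem_union_left _ h)
  have hy'3 : y' ∉ e3 := fun h => hy' (Finset.mem_union_right _ h)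
  have hy't : y' ∉ t := fun h => hy'U (Finset.mem_union_left _ (hto h))
  obtain ⟨e4, he4, hs4⟩ := octad_exists (s := insert y' t)
    (by rw [Finset.card_insert_of_notMem hy't, h4])
  have hy4 : y' ∈ e4 := hs4 (Finset.mem_insert_self _ _)
  have ht4 : t ⊆ e4 := fun x hx => hs4 (Finset.mem_insert_of_mem hx)
  have hne4 : e4 ≠ o := by rintro rfl; exact hy'U (Finset.mem_union_left _ hy4)
  have hne4' : e4 ≠ o' := by rintro rfl; exact hy'U (Finset.mem_union_right _ hy4)
  have hne43 : e4 ≠ e3 := by rintro rfl; exact hy'3 hy4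
  have hi4 : e4 ∩ o = t := octad_inter_eq_of_subset ho he4 hne4 h4 hto ht4
  have hi4' : e4 ∩ o' = t := octad_inter_eq_of_subset ho' he4 hne4' h4 hto' ht4
  have hi43 : e4 ∩ e3 = t := octad_inter_eq_of_subset he3 he4 hne43 h4 ht3 ht4
  have h34 : (e3 ∩ e4).card = 4 := by rw [Finset.inter_comm, hi43, h4]
  refine ⟨symmDiff e3 e4, octad_symmDiff he3 he4 h34, ?_, ?_⟩
  · rw [Finset.disjoint_left]
    intro x hxo hx
    rw [Finset.mem_symmDiff] at hx
    rcases hx with ⟨hx3, hx4⟩ | ⟨hx4, hx3⟩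
    · have : x ∈ e3 ∩ o := Finset.mem_inter.mpr ⟨hx3, hxo⟩
      rw [hi3] at this
      exact hx4 (ht4 this)
    · have : x ∈ e4 ∩ o := Finset.mem_inter.mpr ⟨hx4, hxo⟩
      rw [hi4] at this
      exact hx3 (ht3 this)
  · rw [Finset.disjoint_left]
    intro x hxo hx
    rw [Finset.mem_symmDiff] at hx
    rcases hx with ⟨hx3, hx4⟩ | ⟨hx4, hx3⟩
    · have : x ∈ e3 ∩ o' := Finset.mem_inter.mpr ⟨hx3, hxo⟩
      rw [hi3'] at this
      exact hx4 (ht4 this)
    · have : x ∈ e4 ∩ o' := Finset.mem_inter.mpr ⟨hx4, hxo⟩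
      rw [hi4'] at this
      exact hx3 (ht3 this)

/-- Counting an octad against a trio `o, c, (o ∪ c)ᶜ`. -/
theorem card_inter_trio {o c : Finset Cfsg.GolayPt} (hd : Disjoint o c)
    (o' : Finset Cfsg.GolayPt) :
    (o' ∩ o).card + (o' ∩ c).card + (o' ∩ (o ∪ c)ᶜ).card = o'.card := by
  classical
  have h1 : o' = (o' ∩ o) ∪ (o' ∩ c) ∪ (o' ∩ (o ∪ c)ᶜ) := by
    ext x
    simp only [Finset.mem_union, Finset.mem_inter, Finset.mem_compl]
    tauto
  have hd1 : Disjoint (o' ∩ o) (o' ∩ c) := by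
    rw [Finset.disjoint_left]
    intro x hx hx'
    exact (Finset.disjoint_left.mp hd) (Finset.mem_inter.mp hx).2 (Finset.mem_inter.mp hx').2
  have hd2 : Disjoint ((o' ∩ o) ∪ (o' ∩ c)) (o' ∩ (o ∪ c)ᶜ) := by
    rw [Finset.disjoint_left]
    intro x hx hx'
    have h2 := (Finset.mem_compl.mp (Finset.mem_inter.mp hx').2)
    rw [Finset.mem_union] at hx h2
    rcases hx with hx | hx
    · exact h2 (Or.inl (Finset.mem_inter.mp hx).2)
    · exact h2 (Or.inr (Finset.mem_inter.mp hx).2)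
  conv_rhs => rw [h1]
  rw [Finset.card_union_of_disjoint hd2, Finset.card_union_of_disjoint hd1]

/-- If `o, o'` meet in two points and `c` is an octad disjoint from `o`, then `o'` meets
`c` and `(o ∪ c)ᶜ` in `2, 4` or `4, 2` points. -/
theorem inter_two_trio {o o' c : Finset Cfsg.GolayPt} (ho : o ∈ Cfsg.octads)
    (ho' : o' ∈ Cfsg.octads) (hc : c ∈ Cfsg.octads) (h2 : (o ∩ o').card = 2)
    (hd : Disjoint o c) :
    ((o' ∩ c).card = 2 ∧ (o' ∩ (o ∪ c)ᶜ).card = 4) ∨
    ((o' ∩ c).card = 4 ∧ (o' ∩ (o ∪ c)ᶜ).card = 2) := by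
  classical
  have he := octad_compl_union ho hc hd
  have hsum := card_inter_trio hd o'
  rw [octad_card ho', Finset.inter_comm o' o, h2] at hsum
  have hne1 : o' ≠ c := by
    rintro rfl
    rw [Finset.disjoint_iff_inter_eq_empty.mp hd] at h2
    simp at h2
  have hne2 : o' ≠ (o ∪ c)ᶜ := by
    rintro rfl
    have : Disjoint o (o ∪ c)ᶜ := by
      rw [Finset.disjoint_left]; intro x hx hx'
      exact (Finset.mem_compl.mp hx') (Finset.mem_union_left _ hx)
    rw [Finset.disjoint_iff_inter_eq_empty.mp this] at h2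
    simp at h2
  rcases octad_inter ho' hc hne1 with h | h | h <;>
    rcases octad_inter ho' he hne2 with h' | h' | h' <;> omega

/-- Adjacency in the block graph of the octads. -/
theorem blockGraph_adj_iff {o o' : Finset Cfsg.GolayPt} (ho : o ∈ Cfsg.octads)
    (ho' : o' ∈ Cfsg.octads) :
    (Cfsg.blockGraph Cfsg.octads).Adj ⟨o, ho⟩ ⟨o', ho'⟩ ↔ Disjoint o o' := by
  unfold Cfsg.blockGraph
  rw [SimpleGraph.fromRel_adj]
  constructor
  · rintro ⟨-, h | h⟩
    · exact h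
    · exact h.symm
  · intro h
    refine ⟨?_, Or.inl h⟩
    intro heq
    exact octad_ne_of_disjoint ho h (congrArg Subtype.val heq)

theorem exists_adj_adj_of_dist_eq_two {V : Type*} {G : SimpleGraph V} {u v : V}
    (h : G.dist u v = 2) : ∃ w, G.Adj u w ∧ G.Adj v w := by
  have hr : G.Reachable u v := SimpleGraph.Reachable.of_dist_ne_zero (by omega)
  have he : G.edist u v = 2 := by
    rw [← hr.coe_dist_eq_edist, h]; rfl
  obtain ⟨-, -, w, hw⟩ := SimpleGraph.edist_eq_two_iff.mp he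
  rw [SimpleGraph.mem_commonNeighbors] at hw
  exact ⟨w, hw.1, hw.2⟩

theorem octad_dist {o o' : Finset Cfsg.GolayPt} (ho : o ∈ Cfsg.octads)
    (ho' : o' ∈ Cfsg.octads) (hne : o ≠ o') :
    (Cfsg.blockGraph Cfsg.octads).Reachable ⟨o, ho⟩ ⟨o', ho'⟩ ∧
    ((o ∩ o').card = 0 → (Cfsg.blockGraph Cfsg.octads).dist ⟨o, ho⟩ ⟨o', ho'⟩ = 1) ∧
    ((o ∩ o').card = 4 → (Cfsg.blockGraph Cfsg.octads).dist ⟨o, ho⟩ ⟨o', ho'⟩ = 2) ∧
    ((o ∩ o').card = 2 → (Cfsg.blockGraph Cfsg.octads).dist ⟨o, ho⟩ ⟨o', ho'⟩ = 3) := by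
  classical
  have hsne : (⟨o, ho⟩ : Cfsg.octads) ≠ ⟨o', ho'⟩ := fun h => hne (congrArg Subtype.val h)
  have hnadj : ∀ {a b : Finset Cfsg.GolayPt} (ha : a ∈ Cfsg.octads) (hb : b ∈ Cfsg.octads),
      (a ∩ b).card ≠ 0 → ¬ (Cfsg.blockGraph Cfsg.octads).Adj ⟨a, ha⟩ ⟨b, hb⟩ := by
    intro a b ha hb h hadj
    rw [blockGraph_adj_iff] at hadj
    rw [Finset.disjoint_iff_inter_eq_empty.mp hadj] at h
    simp at h
  -- walks
  have hw0 : (o ∩ o').card = 0 → (Cfsg.blockGraph Cfsg.octads).Adj ⟨o, ho⟩ ⟨o', ho'⟩ := by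
    intro h
    rw [blockGraph_adj_iff]
    rw [Finset.card_eq_zero] at h
    exact Finset.disjoint_iff_inter_eq_empty.mpr h
  have hw4 : ∀ {a b : Finset Cfsg.GolayPt} (ha : a ∈ Cfsg.octads) (hb : b ∈ Cfsg.octads),
      (a ∩ b).card = 4 → ∃ p : (Cfsg.blockGraph Cfsg.octads).Walk ⟨a, ha⟩ ⟨b, hb⟩,
        p.length = 2 := by
    intro a b ha hb h
    obtain ⟨c, hc, hd1, hd2⟩ := exists_common_disjoint ha hb h
    have a1 : (Cfsg.blockGraph Cfsg.octads).Adj ⟨a, ha⟩ ⟨c, hc⟩ :=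
      (blockGraph_adj_iff ha hc).mpr hd1
    have a2 : (Cfsg.blockGraph Cfsg.octads).Adj ⟨c, hc⟩ ⟨b, hb⟩ :=
      (blockGraph_adj_iff hc hb).mpr hd2.symm
    exact ⟨SimpleGraph.Walk.cons a1 (SimpleGraph.Walk.cons a2 SimpleGraph.Walk.nil), rfl⟩
  have hw2 : (o ∩ o').card = 2 → ∃ p : (Cfsg.blockGraph Cfsg.octads).Walk ⟨o, ho⟩ ⟨o', ho'⟩,
      p.length = 3 := by
    intro h
    -- an octad disjoint from o
    have h30 := ncard_octads_disjoint ho
    have hnonempty : {c : Finset Cfsg.GolayPt | c ∈ Cfsg.octads ∧ Disjoint o c}.Nonempty := by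
      by_contra hcon
      rw [Set.not_nonempty_iff_eq_empty] at hcon
      rw [hcon, Set.ncard_empty] at h30
      omega
    obtain ⟨c, hc, hd⟩ := hnonempty
    have he := octad_compl_union ho hc hd
    have hde : Disjoint o (o ∪ c)ᶜ := by
      rw [Finset.disjoint_left]; intro x hx hx'
      exact (Finset.mem_compl.mp hx') (Finset.mem_union_left _ hx)
    -- choose the one meeting o' in four points
    obtain ⟨c₁, hc₁, hd₁, h4₁⟩ : ∃ c₁ ∈ Cfsg.octads, Disjoint o c₁ ∧ (c₁ ∩ o').card = 4 := by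
      rcases inter_two_trio ho ho' hc h hd with ⟨-, h'⟩ | ⟨h', -⟩
      · exact ⟨_, he, hde, by rw [Finset.inter_comm]; exact h'⟩
      · exact ⟨_, hc, hd, by rw [Finset.inter_comm]; exact h'⟩
    obtain ⟨p, hp⟩ := hw4 hc₁ ho' h4₁
    have a1 : (Cfsg.blockGraph Cfsg.octads).Adj ⟨o, ho⟩ ⟨c₁, hc₁⟩ :=
      (blockGraph_adj_iff ho hc₁).mpr hd₁
    exact ⟨SimpleGraph.Walk.cons a1 p, by rw [SimpleGraph.Walk.length_cons, hp]⟩
  have hreach : (Cfsg.blockGraph Cfsg.octads).Reachable ⟨o, ho⟩ ⟨o', ho'⟩ := by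
    rcases octad_inter ho ho' hne with h | h | h
    · exact (hw0 h).reachable
    · exact (hw2 h).choose.reachable
    · exact (hw4 ho ho' h).choose.reachable
  refine ⟨hreach, ?_, ?_, ?_⟩
  · intro h
    exact SimpleGraph.dist_eq_one_iff_adj.mpr (hw0 h)
  · intro h
    obtain ⟨p, hp⟩ := hw4 ho ho' h
    have h1 := SimpleGraph.dist_le p
    have h2 := hreach.one_lt_dist_of_ne_of_not_adj hsne (hnadj ho ho' (by omega))
    omega
  · intro h
    obtain ⟨p, hp⟩ := hw2 h
    have h1 := SimpleGraph.dist_le p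
    have h2 := hreach.one_lt_dist_of_ne_of_not_adj hsne (hnadj ho ho' (by omega))
    have h3 : (Cfsg.blockGraph Cfsg.octads).dist ⟨o, ho⟩ ⟨o', ho'⟩ ≠ 2 := by
      intro hd2
      obtain ⟨⟨c, hc⟩, hc1, hc2⟩ := exists_adj_adj_of_dist_eq_two hd2
      rw [blockGraph_adj_iff] at hc1 hc2
      have := inter_two_trio ho ho' hc h hc1
      rw [Finset.disjoint_iff_inter_eq_empty.mp hc2] at this
      simp at this
    omega

theorem blockGraph_octads_connected : (Cfsg.blockGraph Cfsg.octads).Connected := by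
  classical
  have hne : Nonempty Cfsg.octads := by
    have h := ncard_octads
    have : Cfsg.octads.Nonempty := by
      by_contra hcon
      rw [Set.not_nonempty_iff_eq_empty] at hcon
      rw [hcon, Set.ncard_empty] at h
      omega
    exact this.to_subtype
  refine SimpleGraph.Connected.mk ?_
  rintro ⟨a, ha⟩ ⟨b, hb⟩
  by_cases hab : a = b
  · subst hab; exact SimpleGraph.Reachable.refl _
  · exact (octad_dist ha hb hab).1

end Cfsg.Agent.Lib.Helper93
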