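import Mathlib
import Cfsg.Prelude.Def_Sporadic_a
import Cfsg.Agent.Lib.Helper93.Steiner

set_option autoImplicit false

namespace Cfsg.Agent.Lib.Helper93

open Finset

variable {α : Type*} [DecidableEq α]

/-- The `j`-th intersection equation of a Steiner system relative to a set `b`. -/
theorem steiner_eqs [Fintype α] {t k : ℕ} {B : Set (Finset α)}
    (hB : Cfsg.IsSteinerSystem t k B) (Bf : Finset (Finset α)) (hBf : ∀ b, b ∈ Bf ↔ b ∈ B)
    (b : Finset α) (j : ℕ) (hj : j ≤ t) (lam : ℕ)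
    (hlam : lam * (k - j).choose (t - j) = (Fintype.card α - j).choose (t - j))
    (hpos : 0 < (k - j).choose (t - j)) :
    ∑ i ∈ range (b.card + 1), (Bf.filter (fun c => (c ∩ b).card = i)).card * i.choose j
      = b.card.choose j * lam := by
  rw [← sum_by_inter_card Bf b (fun i => i.choose j), sum_choose_inter]
  have : ∀ W ∈ powersetCard j b, (Bf.filter (fun c => W ⊆ c)).card = lam := by
    intro W hW
    have hWc : W.card = j := (mem_powersetCard.mp hW).2
    have h := steiner_lambda hB Bf hBf W (by omega)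
    rw [hWc, ← hlam] at h
    exact Nat.eq_of_mul_eq_mul_right hpos h
  rw [Finset.sum_congr rfl this, Finset.sum_const, card_powersetCard, smul_eq_mul]

theorem arith24 (n : ℕ → ℕ) (h8 : 1 ≤ n 8)
    (e0 : ∑ i ∈ range (8 + 1), n i * i.choose 0 = (8).choose 0 * 759)
    (e1 : ∑ i ∈ range (8 + 1), n i * i.choose 1 = (8).choose 1 * 253)
    (e2 : ∑ i ∈ range (8 + 1), n i * i.choose 2 = (8).choose 2 * 77)
    (e3 : ∑ i ∈ range (8 + 1), n i * i.choose 3 = (8).choose 3 * 21)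
    (e4 : ∑ i ∈ range (8 + 1), n i * i.choose 4 = (8).choose 4 * 5)
    (e5 : ∑ i ∈ range (8 + 1), n i * i.choose 5 = (8).choose 5 * 1) :
    n 0 = 30 ∧ n 1 = 0 ∧ n 2 = 448 ∧ n 3 = 0 ∧ n 4 = 280 ∧ n 5 = 0 ∧ n 6 = 0 ∧ n 7 = 0 ∧
      n 8 = 1 := by
  simp only [Finset.sum_range_succ, Finset.sum_range_zero] at e0 e1 e2 e3 e4 e5
  generalize n 0 = n0 at *
  generalize n 1 = n1 at *
  generalize n 2 = n2 at *
  generalize n 3 = n3 at *
  generalize n 4 = n4 at *
  generalize n 5 = n5 at *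
  generalize n 6 = n6 at *
  generalize n 7 = n7 at *
  generalize n 8 = n8 at *
  norm_num [Nat.choose] at e0 e1 e2 e3 e4 e5
  have h5 : n8 = 1 ∧ n5 = 0 ∧ n6 = 0 ∧ n7 = 0 := by clear e0 e1 e2 e3 e4; omega
  obtain ⟨rfl, rfl, rfl, rfl⟩ := h5
  have h4 : n4 = 280 := by clear e0 e1 e2 e3; omega
  subst h4
  have h3 : n3 = 0 := by clear e0 e1 e2; omega
  subst h3
  have h2 : n2 = 448 := by clear e0 e1; omega
  subst h2
  have h1 : n1 = 0 := by clear e0; omega
  subst h1
  omega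

theorem arith12 (n : ℕ → ℕ) (h6 : 1 ≤ n 6)
    (e0 : ∑ i ∈ range (6 + 1), n i * i.choose 0 = (6).choose 0 * 132)
    (e1 : ∑ i ∈ range (6 + 1), n i * i.choose 1 = (6).choose 1 * 66)
    (e2 : ∑ i ∈ range (6 + 1), n i * i.choose 2 = (6).choose 2 * 30)
    (e3 : ∑ i ∈ range (6 + 1), n i * i.choose 3 = (6).choose 3 * 12)
    (e4 : ∑ i ∈ range (6 + 1), n i * i.choose 4 = (6).choose 4 * 4)
    (e5 : ∑ i ∈ range (6 + 1), n i * i.choose 5 = (6).choose 5 * 1) :
    n 0 = 1 ∧ n 1 = 0 ∧ n 2 = 45 ∧ n 3 = 40 ∧ n 4 = 45 ∧ n 5 = 0 ∧ n 6 = 1 := by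
  simp only [Finset.sum_range_succ, Finset.sum_range_zero] at e0 e1 e2 e3 e4 e5
  generalize n 0 = n0 at *
  generalize n 1 = n1 at *
  generalize n 2 = n2 at *
  generalize n 3 = n3 at *
  generalize n 4 = n4 at *
  generalize n 5 = n5 at *
  generalize n 6 = n6 at *
  norm_num [Nat.choose] at e0 e1 e2 e3 e4 e5
  have h5 : n6 = 1 ∧ n5 = 0 := by clear e0 e1 e2 e3 e4; omega
  obtain ⟨rfl, rfl⟩ := h5
  have h4 : n4 = 45 := by clear e0 e1 e2 e3; omega
  subst h4
  have h3 : n3 = 40 := by clear e0 e1 e2; omega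
  subst h3
  have h2 : n2 = 45 := by clear e0 e1; omega
  subst h2
  have h1 : n1 = 0 := by clear e0; omega
  subst h1
  omega

/-- Intersection numbers of a block of `S(5,8,24)` with all blocks. -/
theorem s5824_counts [Fintype α] (hα : Fintype.card α = 24) {B : Set (Finset α)}
    (hB : Cfsg.IsSteinerSystem 5 8 B) (Bf : Finset (Finset α)) (hBf : ∀ b, b ∈ Bf ↔ b ∈ B)
    {b : Finset α} (hb : b ∈ B) :
    (Bf.filter (fun c => (c ∩ b).card = 0)).card = 30 ∧
    (Bf.filter (fun c => (c ∩ b).card = 1)).card = 0 ∧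
    (Bf.filter (fun c => (c ∩ b).card = 2)).card = 448 ∧
    (Bf.filter (fun c => (c ∩ b).card = 3)).card = 0 ∧
    (Bf.filter (fun c => (c ∩ b).card = 4)).card = 280 ∧
    (Bf.filter (fun c => (c ∩ b).card = 5)).card = 0 ∧
    (Bf.filter (fun c => (c ∩ b).card = 6)).card = 0 ∧
    (Bf.filter (fun c => (c ∩ b).card = 7)).card = 0 ∧
    (Bf.filter (fun c => (c ∩ b).card = 8)).card = 1 := by
  have hb8 : b.card = 8 := hB.1 b hb
  have e0 := steiner_eqs hB Bf hBf b 0 (by omega) 759 (by rw [hα]; norm_num [Nat.choose])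
    (by norm_num [Nat.choose])
  have e1 := steiner_eqs hB Bf hBf b 1 (by omega) 253 (by rw [hα]; norm_num [Nat.choose])
    (by norm_num [Nat.choose])
  have e2 := steiner_eqs hB Bf hBf b 2 (by omega) 77 (by rw [hα]; norm_num [Nat.choose])
    (by norm_num [Nat.choose])
  have e3 := steiner_eqs hB Bf hBf b 3 (by omega) 21 (by rw [hα]; norm_num [Nat.choose])
    (by norm_num [Nat.choose])
  have e4 := steiner_eqs hB Bf hBf b 4 (by omega) 5 (by rw [hα]; norm_num [Nat.choose])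
    (by norm_num [Nat.choose])
  have e5 := steiner_eqs hB Bf hBf b 5 (by omega) 1 (by rw [hα]; norm_num [Nat.choose])
    (by norm_num [Nat.choose])
  have h8 : 1 ≤ (Bf.filter (fun c => (c ∩ b).card = 8)).card := by
    apply Finset.card_pos.mpr
    exact ⟨b, by simp [hBf, hb, hb8]⟩
  rw [hb8] at e0 e1 e2 e3 e4 e5
  exact arith24 (fun i => (Bf.filter (fun c => (c ∩ b).card = i)).card) h8 e0 e1 e2 e3 e4 e5

/-- Intersection numbers of a block of `S(5,6,12)` with all blocks. -/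
theorem s5612_counts [Fintype α] (hα : Fintype.card α = 12) {B : Set (Finset α)}
    (hB : Cfsg.IsSteinerSystem 5 6 B) (Bf : Finset (Finset α)) (hBf : ∀ b, b ∈ Bf ↔ b ∈ B)
    {b : Finset α} (hb : b ∈ B) :
    (Bf.filter (fun c => (c ∩ b).card = 0)).card = 1 ∧
    (Bf.filter (fun c => (c ∩ b).card = 1)).card = 0 ∧
    (Bf.filter (fun c => (c ∩ b).card = 2)).card = 45 ∧
    (Bf.filter (fun c => (c ∩ b).card = 3)).card = 40 ∧
    (Bf.filter (fun c => (c ∩ b).card = 4)).card = 45 ∧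
    (Bf.filter (fun c => (c ∩ b).card = 5)).card = 0 ∧
    (Bf.filter (fun c => (c ∩ b).card = 6)).card = 1 := by
  have hb6 : b.card = 6 := hB.1 b hb
  have e0 := steiner_eqs hB Bf hBf b 0 (by omega) 132 (by rw [hα]; norm_num [Nat.choose])
    (by norm_num [Nat.choose])
  have e1 := steiner_eqs hB Bf hBf b 1 (by omega) 66 (by rw [hα]; norm_num [Nat.choose])
    (by norm_num [Nat.choose])
  have e2 := steiner_eqs hB Bf hBf b 2 (by omega) 30 (by rw [hα]; norm_num [Nat.choose])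
    (by norm_num [Nat.choose])
  have e3 := steiner_eqs hB Bf hBf b 3 (by omega) 12 (by rw [hα]; norm_num [Nat.choose])
    (by norm_num [Nat.choose])
  have e4 := steiner_eqs hB Bf hBf b 4 (by omega) 4 (by rw [hα]; norm_num [Nat.choose])
    (by norm_num [Nat.choose])
  have e5 := steiner_eqs hB Bf hBf b 5 (by omega) 1 (by rw [hα]; norm_num [Nat.choose])
    (by norm_num [Nat.choose])
  have h6 : 1 ≤ (Bf.filter (fun c => (c ∩ b).card = 6)).card := by
    apply Finset.card_pos.mpr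
    exact ⟨b, by simp [hBf, hb, hb6]⟩
  rw [hb6] at e0 e1 e2 e3 e4 e5
  exact arith12 (fun i => (Bf.filter (fun c => (c ∩ b).card = i)).card) h6 e0 e1 e2 e3 e4 e5

end Cfsg.Agent.Lib.Helper93
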