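import Cfsg.Agent.S0363
import Cfsg.Agent.S0352
import Cfsg.Agent.S0353
import Cfsg.Agent.S0354
import Cfsg.Agent.S0350
import Cfsg.Agent.Lib.Helper7.GolayWeights

set_option autoImplicit false

namespace Cfsg.Agent.Lib.Helper93

open Finset

theorem card_golayPt : Fintype.card Cfsg.GolayPt = 24 := by
  simp [Cfsg.GolayPt, ZMod.card]

theorem octads_steiner : Cfsg.IsSteinerSystem 5 8 Cfsg.octads := Cfsg.Agent.S0363.result

theorem octad_card {o : Finset Cfsg.GolayPt} (ho : o ∈ Cfsg.octads) : o.card = 8 := ho.2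

theorem octad_inter {o o' : Finset Cfsg.GolayPt} (ho : o ∈ Cfsg.octads) (ho' : o' ∈ Cfsg.octads)
    (hne : o ≠ o') : (o ∩ o').card = 0 ∨ (o ∩ o').card = 2 ∨ (o ∩ o').card = 4 :=
  Cfsg.Agent.S0352.result card_golayPt octads_steiner ho ho' hne

theorem octad_eq_of_inter_ge {o o' : Finset Cfsg.GolayPt} (ho : o ∈ Cfsg.octads)
    (ho' : o' ∈ Cfsg.octads) (h : 5 ≤ (o ∩ o').card) : o = o' := by
  by_contra hne
  rcases octad_inter ho ho' hne with h' | h' | h' <;> omega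

theorem octad_symmDiff {o o' : Finset Cfsg.GolayPt} (ho : o ∈ Cfsg.octads)
    (ho' : o' ∈ Cfsg.octads) (h4 : (o ∩ o').card = 4) : symmDiff o o' ∈ Cfsg.octads :=
  Cfsg.Agent.S0353.result card_golayPt octads_steiner ho ho' h4

theorem octad_compl_union {o o' : Finset Cfsg.GolayPt} (ho : o ∈ Cfsg.octads)
    (ho' : o' ∈ Cfsg.octads) (hd : Disjoint o o') : (o ∪ o')ᶜ ∈ Cfsg.octads := by
  rw [Cfsg.Agent.Lib.Helper7.mem_octads_iff] at ho ho' ⊢
  have h1 := Cfsg.Agent.Lib.Helper7.symmDiff_mem_golaySupports ho.1 ho'.1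
  rw [Finset.symmDiff_eq_union hd] at h1
  refine ⟨Cfsg.Agent.Lib.Helper7.compl_mem_golaySupports h1, ?_⟩
  rw [Finset.card_compl, card_golayPt, Finset.card_union_of_disjoint hd, ho.2, ho'.2]

theorem octad_exists {s : Finset Cfsg.GolayPt} (hs : s.card = 5) :
    ∃ o ∈ Cfsg.octads, s ⊆ o := by
  obtain ⟨o, ⟨ho, hso⟩, -⟩ := octads_steiner.2 s hs
  exact ⟨o, ho, hso⟩

theorem ncard_octads_disjoint {o : Finset Cfsg.GolayPt} (ho : o ∈ Cfsg.octads) :
    {c : Finset Cfsg.GolayPt | c ∈ Cfsg.octads ∧ Disjoint o c}.ncard = 30 :=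
  Cfsg.Agent.S0354.result card_golayPt octads_steiner ho

theorem ncard_octads : Cfsg.octads.ncard = 759 := by
  have h := Cfsg.Agent.S0350.result octads_steiner
  rw [card_golayPt] at h
  norm_num [Nat.choose] at h
  omega

end Cfsg.Agent.Lib.Helper93
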