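import Cfsg.Agent.Lib.Helper93.Steiner

set_option autoImplicit false

namespace Cfsg.Agent.Lib.Helper93.P4

variable {α : Type*} [Fintype α] [DecidableEq α]

/-- A projective plane of order four, as a Steiner system. -/
structure Plane (L : Set (Finset α)) : Prop where
  card : Fintype.card α = 21
  st : Cfsg.IsSteinerSystem 2 5 L

/-- The finset of lines. -/
noncomputable def lines (L : Set (Finset α)) : Finset (Finset α) :=
  @Finset.filter _ (· ∈ L) (Classical.decPred _) Finset.univ

omit [DecidableEq α] in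
theorem mem_lines {L : Set (Finset α)} (l : Finset α) : l ∈ lines L ↔ l ∈ L := by
  simp [lines]

/-- The lines through a point. -/
noncomputable def pencil (L : Set (Finset α)) (p : α) : Finset (Finset α) :=
  (lines L).filter (fun l => p ∈ l)

theorem mem_pencil {L : Set (Finset α)} {p : α} {l : Finset α} :
    l ∈ pencil L p ↔ l ∈ L ∧ p ∈ l := by
  rw [pencil, Finset.mem_filter, mem_lines]

variable {L : Set (Finset α)}

omit [DecidableEq α] in
theorem Plane.card_line (P : Plane L) {l : Finset α} (hl : l ∈ L) : l.card = 5 := P.st.1 l hl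

theorem Plane.card_lines (P : Plane L) : (lines L).card = 21 := by
  have h := steiner_lambda P.st (lines L) mem_lines ∅ (by simp)
  have h' : (lines L).filter (fun b => ∅ ⊆ b) = lines L :=
    Finset.filter_true_of_mem (fun _ _ => Finset.empty_subset _)
  rw [h', Finset.card_empty, P.card] at h
  norm_num [Nat.choose] at h
  omega

theorem Plane.card_pencil (P : Plane L) (p : α) : (pencil L p).card = 5 := by
  have h := steiner_lambda P.st (lines L) mem_lines {p} (by simp)
  have h' : (lines L).filter (fun b => {p} ⊆ b) = pencil L p := by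
    apply Finset.filter_congr
    intro l _
    exact Finset.singleton_subset_iff
  rw [h', Finset.card_singleton, P.card] at h
  norm_num [Nat.choose] at h
  omega

/-- Two points determine a line. -/
theorem Plane.line_unique (P : Plane L) {l m : Finset α} (hl : l ∈ L) (hm : m ∈ L) {p q : α}
    (hpq : p ≠ q) (hpl : p ∈ l) (hql : q ∈ l) (hpm : p ∈ m) (hqm : q ∈ m) : l = m := by
  obtain ⟨b, -, huniq⟩ := P.st.2 {p, q} (Finset.card_pair hpq)
  have h1 := huniq l ⟨hl, by
    intro x hx
    rw [Finset.mem_insert, Finset.mem_singleton] at hx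
    rcases hx with rfl | rfl <;> assumption⟩
  have h2 := huniq m ⟨hm, by
    intro x hx
    rw [Finset.mem_insert, Finset.mem_singleton] at hx
    rcases hx with rfl | rfl <;> assumption⟩
  rw [h1, h2]

theorem Plane.exists_line (P : Plane L) {p q : α} (hpq : p ≠ q) :
    ∃ l, l ∈ L ∧ p ∈ l ∧ q ∈ l := by
  obtain ⟨b, ⟨hb, hsub⟩, -⟩ := P.st.2 {p, q} (Finset.card_pair hpq)
  exact ⟨b, hb, hsub (by simp), hsub (by simp)⟩

/-- The line through two points. -/
noncomputable def ln (L : Set (Finset α)) (p q : α) : Finset α :=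
  Classical.epsilon (fun l => l ∈ L ∧ p ∈ l ∧ q ∈ l)

theorem Plane.ln_spec (P : Plane L) {p q : α} (hpq : p ≠ q) :
    ln L p q ∈ L ∧ p ∈ ln L p q ∧ q ∈ ln L p q := by
  have h : ∃ l, l ∈ L ∧ p ∈ l ∧ q ∈ l := P.exists_line hpq
  exact Classical.epsilon_spec h

theorem Plane.ln_mem (P : Plane L) {p q : α} (hpq : p ≠ q) : ln L p q ∈ L := (P.ln_spec hpq).1

theorem Plane.left_mem_ln (P : Plane L) {p q : α} (hpq : p ≠ q) : p ∈ ln L p q :=
  (P.ln_spec hpq).2.1

theorem Plane.right_mem_ln (P : Plane L) {p q : α} (hpq : p ≠ q) : q ∈ ln L p q :=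
  (P.ln_spec hpq).2.2

theorem Plane.eq_ln (P : Plane L) {l : Finset α} (hl : l ∈ L) {p q : α} (hpq : p ≠ q)
    (hp : p ∈ l) (hq : q ∈ l) : l = ln L p q :=
  P.line_unique hl (P.ln_mem hpq) hpq hp hq (P.left_mem_ln hpq) (P.right_mem_ln hpq)

theorem Plane.ln_comm (P : Plane L) {p q : α} (hpq : p ≠ q) : ln L p q = ln L q p :=
  (P.eq_ln (P.ln_mem hpq.symm) hpq (P.right_mem_ln hpq.symm) (P.left_mem_ln hpq.symm)).symm

/-- Two distinct lines share at most one point. -/
theorem Plane.eq_of_mem_mem (P : Plane L) {l m : Finset α} (hl : l ∈ L) (hm : m ∈ L)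
    (hne : l ≠ m) {p q : α} (hpl : p ∈ l) (hql : q ∈ l) (hpm : p ∈ m) (hqm : q ∈ m) : p = q := by
  by_contra hpq
  exact hne (P.line_unique hl hm hpq hpl hql hpm hqm)

theorem Plane.inter_le_one (P : Plane L) {l m : Finset α} (hl : l ∈ L) (hm : m ∈ L)
    (hne : l ≠ m) : (l ∩ m).card ≤ 1 := by
  rw [Finset.card_le_one]
  intro p hp q hq
  rw [Finset.mem_inter] at hp hq
  exact P.eq_of_mem_mem hl hm hne hp.1 hq.1 hp.2 hq.2

/-- The lines through `p` partition the other points. -/
theorem Plane.pencil_sum (P : Plane L) (p : α) (T : Finset α) (hp : p ∉ T) :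
    ∑ l ∈ pencil L p, (l ∩ T).card = T.card := by
  have hdisj : ∀ l ∈ pencil L p, ∀ m ∈ pencil L p, l ≠ m → Disjoint (l ∩ T) (m ∩ T) := by
    intro l hl m hm hne
    rw [mem_pencil] at hl hm
    rw [Finset.disjoint_left]
    intro x hx hx'
    rw [Finset.mem_inter] at hx hx'
    have := P.eq_of_mem_mem hl.1 hm.1 hne hl.2 hx.1 hm.2 hx'.1
    rw [this] at hp
    exact hp hx.2
  rw [← Finset.card_biUnion hdisj]
  congr 1
  ext x
  rw [Finset.mem_biUnion]
  constructor
  · rintro ⟨l, -, hx⟩
    exact (Finset.mem_inter.mp hx).2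
  · intro hx
    have hpx : p ≠ x := by rintro rfl; exact hp hx
    exact ⟨ln L p x, mem_pencil.mpr ⟨P.ln_mem hpx, P.left_mem_ln hpx⟩,
      Finset.mem_inter.mpr ⟨P.right_mem_ln hpx, hx⟩⟩

/-- Version of the pencil sum for a set containing the point. -/
theorem Plane.pencil_sum_mem (P : Plane L) (p : α) (S : Finset α) (hp : p ∈ S) :
    ∑ l ∈ pencil L p, (l ∩ S).card = S.card + 4 := by
  have h := P.pencil_sum p (S.erase p) (Finset.notMem_erase p S)
  have h1 : ∀ l ∈ pencil L p, (l ∩ S).card = (l ∩ S.erase p).card + 1 := by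
    intro l hl
    rw [mem_pencil] at hl
    have : l ∩ S.erase p = (l ∩ S).erase p := by
      ext x
      simp only [Finset.mem_inter, Finset.mem_erase]
      tauto
    rw [this, Finset.card_erase_of_mem (Finset.mem_inter.mpr ⟨hl.2, hp⟩)]
    have : 0 < (l ∩ S).card := Finset.card_pos.mpr ⟨p, Finset.mem_inter.mpr ⟨hl.2, hp⟩⟩
    omega
  rw [Finset.sum_congr rfl h1, Finset.sum_add_distrib, h, Finset.sum_const, P.card_pencil,
    Finset.card_erase_of_mem hp]
  have : 0 < S.card := Finset.card_pos.mpr ⟨p, hp⟩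
  simp
  omega

/-- If a sum of five bounded terms reaches the bound, every term does. -/
theorem eq_of_sum_eq {ι : Type*} (s : Finset ι) (f : ι → ℕ) (n : ℕ) (hle : ∀ x ∈ s, f x ≤ n)
    (hsum : ∑ x ∈ s, f x = s.card * n) : ∀ x ∈ s, f x = n := by
  have h := (Finset.sum_eq_sum_iff_of_le (f := f) (g := fun _ => n) hle).mp (by
    rw [hsum, Finset.sum_const, smul_eq_mul])
  exact h

/-- Two distinct lines meet in exactly one point. -/
theorem Plane.inter_card (P : Plane L) {l m : Finset α} (hl : l ∈ L) (hm : m ∈ L)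
    (hne : l ≠ m) : (l ∩ m).card = 1 := by
  have hle := P.inter_le_one hl hm hne
  obtain ⟨p, hp⟩ : (m \ l).Nonempty := by
    rw [← Finset.card_pos]
    have := Finset.card_sdiff_add_card_inter m l
    rw [P.card_line hm, Finset.inter_comm] at this
    omega
  rw [Finset.mem_sdiff] at hp
  have hsum := P.pencil_sum p l hp.2
  rw [P.card_line hl] at hsum
  have hall := eq_of_sum_eq (pencil L p) (fun k => (k ∩ l).card) 1 (by
    intro k hk
    rw [mem_pencil] at hk
    exact P.inter_le_one hk.1 hl (by rintro rfl; exact hp.2 hk.2)) (by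
    rw [hsum, P.card_pencil])
  have := hall m (mem_pencil.mpr ⟨hm, hp.1⟩)
  rw [Finset.inter_comm]
  exact this

theorem Plane.exists_meet (P : Plane L) {l m : Finset α} (hl : l ∈ L) (hm : m ∈ L)
    (hne : l ≠ m) : ∃ x, x ∈ l ∧ x ∈ m := by
  obtain ⟨x, hx⟩ := Finset.card_pos.mp (by rw [P.inter_card hl hm hne]; norm_num)
  exact ⟨x, (Finset.mem_inter.mp hx).1, (Finset.mem_inter.mp hx).2⟩

end Cfsg.Agent.Lib.Helper93.P4
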