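import Cfsg.Agent.Lib.Helper93.P4a

set_option autoImplicit false

namespace Cfsg.Agent.Lib.Helper93.P4

variable {α : Type*} [Fintype α] [DecidableEq α] {L : Set (Finset α)}

/-- An arc: no line meets it in more than two points. -/
def IsArc (L : Set (Finset α)) (S : Finset α) : Prop := ∀ l ∈ L, (l ∩ S).card ≤ 2

omit [Fintype α] in
theorem IsArc.mono {S T : Finset α} (hS : IsArc L S) (hTS : T ⊆ S) : IsArc L T := fun l hl =>
  (Finset.card_le_card (Finset.inter_subset_inter_left hTS)).trans (hS l hl)

open Classical in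
/-- The arcs of size `k`. -/
noncomputable def arcs (L : Set (Finset α)) (k : ℕ) : Finset (Finset α) :=
  (Finset.powersetCard k Finset.univ).filter (fun S => IsArc L S)

theorem mem_arcs {k : ℕ} {S : Finset α} : S ∈ arcs L k ↔ S.card = k ∧ IsArc L S := by
  simp [arcs, Finset.mem_powersetCard]

open Classical in
/-- The points extending an arc. -/
noncomputable def extPts (L : Set (Finset α)) (A : Finset α) : Finset α :=
  Finset.univ.filter (fun x => x ∉ A ∧ ∀ l ∈ L, x ∈ l → (l ∩ A).card ≤ 1)

theorem mem_extPts {A : Finset α} {x : α} :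
    x ∈ extPts L A ↔ x ∉ A ∧ ∀ l ∈ L, x ∈ l → (l ∩ A).card ≤ 1 := by
  simp [extPts]

omit [Fintype α] in
theorem arc_no_three {A : Finset α} (hA : IsArc L A) {l : Finset α} (hl : l ∈ L) {x y z : α}
    (hx : x ∈ A) (hy : y ∈ A) (hz : z ∈ A) (hxy : x ≠ y) (hxz : x ≠ z) (hyz : y ≠ z)
    (hxl : x ∈ l) (hyl : y ∈ l) (hzl : z ∈ l) : False := by
  have h := hA l hl
  have hsub : ({x, y, z} : Finset α) ⊆ l ∩ A := by
    intro w hw
    simp only [Finset.mem_insert, Finset.mem_singleton] at hw
    rcases hw with rfl | rfl | rfl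
    · exact Finset.mem_inter.mpr ⟨hxl, hx⟩
    · exact Finset.mem_inter.mpr ⟨hyl, hy⟩
    · exact Finset.mem_inter.mpr ⟨hzl, hz⟩
  have h3 : ({x, y, z} : Finset α).card = 3 := Finset.card_eq_three.mpr ⟨x, y, z, hxy, hxz, hyz, rfl⟩
  have := Finset.card_le_card hsub
  omega

/-- The number of `4`-sets meeting a given line in at least three points. -/
theorem Plane.card_bad (P : Plane L) {l : Finset α} (hl : l ∈ L) :
    ((Finset.powersetCard 4 (Finset.univ : Finset α)).filter
      (fun S => 3 ≤ (S ∩ l).card)).card = 165 := by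
  set Q := Finset.powersetCard 4 (Finset.univ : Finset α) with hQ
  have hsup : ∀ W : Finset α, W.card ≤ 4 →
      (Q.filter (fun T => W ⊆ T)).card = (21 - W.card).choose (4 - W.card) := by
    intro W hW
    rw [hQ, card_powersetCard_filter_superset _ W (Finset.subset_univ W) 4 hW, Finset.card_univ,
      P.card]
  have e3 := sum_choose_inter Q l 3
  have e4 := sum_choose_inter Q l 4
  have r3 : ∑ W ∈ Finset.powersetCard 3 l, (Q.filter (fun b => W ⊆ b)).card = 180 := by
    have : ∀ W ∈ Finset.powersetCard 3 l, (Q.filter (fun b => W ⊆ b)).card = 18 := by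
      intro W hW
      rw [Finset.mem_powersetCard] at hW
      rw [hsup W (by omega), hW.2]
      rfl
    rw [Finset.sum_congr rfl this, Finset.sum_const, Finset.card_powersetCard, P.card_line hl]
    rfl
  have r4 : ∑ W ∈ Finset.powersetCard 4 l, (Q.filter (fun b => W ⊆ b)).card = 5 := by
    have : ∀ W ∈ Finset.powersetCard 4 l, (Q.filter (fun b => W ⊆ b)).card = 1 := by
      intro W hW
      rw [Finset.mem_powersetCard] at hW
      rw [hsup W (by omega), hW.2]
      rfl
    rw [Finset.sum_congr rfl this, Finset.sum_const, Finset.card_powersetCard, P.card_line hl]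
    rfl
  rw [r3, sum_by_inter_card Q l (fun i => i.choose 3), P.card_line hl] at e3
  rw [r4, sum_by_inter_card Q l (fun i => i.choose 4), P.card_line hl] at e4
  have e5 := sum_by_inter_card Q l (fun i => if 3 ≤ i then 1 else 0)
  rw [P.card_line hl, ← Finset.card_filter] at e5
  have h5 : (Q.filter (fun b => (b ∩ l).card = 5)).card = 0 := by
    rw [Finset.card_eq_zero, Finset.filter_eq_empty_iff]
    intro S hS h
    rw [hQ, Finset.mem_powersetCard] at hS
    have := Finset.card_le_card (Finset.inter_subset_left (s₁ := S) (s₂ := l))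
    omega
  simp only [Finset.sum_range_succ, Finset.sum_range_zero] at e3 e4 e5
  norm_num [Nat.choose] at e3 e4 e5
  omega

/-- There are `2520` arcs of size four. -/
theorem Plane.card_arcs_four (P : Plane L) : (arcs L 4).card = 2520 := by
  classical
  set Q := Finset.powersetCard 4 (Finset.univ : Finset α) with hQ
  have hQc : Q.card = 5985 := by
    rw [hQ, Finset.card_powersetCard, Finset.card_univ, P.card]
    rfl
  have hsplit := Finset.card_filter_add_card_filter_not (s := Q) (fun S => IsArc L S)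
  have hbad : Q.filter (fun S => ¬ IsArc L S) =
      (lines L).biUnion (fun l => Q.filter (fun S => 3 ≤ (S ∩ l).card)) := by
    ext S
    rw [Finset.mem_filter, Finset.mem_biUnion]
    constructor
    · rintro ⟨hS, hn⟩
      unfold IsArc at hn
      push Not at hn
      obtain ⟨l, hl, h⟩ := hn
      refine ⟨l, (mem_lines l).mpr hl, Finset.mem_filter.mpr ⟨hS, ?_⟩⟩
      rw [Finset.inter_comm]
      omega
    · rintro ⟨l, hl, hS⟩
      rw [Finset.mem_filter] at hS
      refine ⟨hS.1, fun hA => ?_⟩
      have := hA l ((mem_lines l).mp hl)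
      rw [Finset.inter_comm] at this
      omega
  have hcard : (Q.filter (fun S => ¬ IsArc L S)).card = 3465 := by
    rw [hbad, Finset.card_biUnion]
    · rw [Finset.sum_congr rfl (fun l hl => P.card_bad ((mem_lines l).mp hl)), Finset.sum_const,
        P.card_lines]
      rfl
    · intro l hl m hm hne
      rw [Finset.mem_coe, mem_lines] at hl hm
      show Disjoint _ _
      rw [Finset.disjoint_left]
      intro S hS hS'
      rw [Finset.mem_filter, hQ, Finset.mem_powersetCard] at hS hS'
      have h1 := Finset.card_union_add_card_inter (S ∩ l) (S ∩ m)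
      have h2 : ((S ∩ l) ∪ (S ∩ m)).card ≤ 4 := by
        rw [← hS.1.2]
        exact Finset.card_le_card (Finset.union_subset Finset.inter_subset_left
          Finset.inter_subset_left)
      have h3 : ((S ∩ l) ∩ (S ∩ m)).card ≤ (l ∩ m).card := by
        apply Finset.card_le_card
        intro x hx
        rw [Finset.mem_inter, Finset.mem_inter, Finset.mem_inter] at hx
        exact Finset.mem_inter.mpr ⟨hx.1.2, hx.2.2⟩
      have h4 := P.inter_le_one hl hm hne
      omega
  have harcs : arcs L 4 = Q.filter (fun S => IsArc L S) := by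
    ext S
    rw [mem_arcs, Finset.mem_filter, hQ, Finset.mem_powersetCard]
    simp
  rw [harcs]
  omega

/-- Exactly two lines through a point of a `4`-arc are tangent. -/
theorem Plane.card_tangents (P : Plane L) {A : Finset α} (hA4 : A.card = 4) (hA : IsArc L A)
    {a : α} (ha : a ∈ A) : ((pencil L a).filter (fun l => (l ∩ A).card = 1)).card = 2 := by
  have hsum := P.pencil_sum_mem a A ha
  rw [hA4] at hsum
  have hsplit := Finset.sum_filter_add_sum_filter_not (pencil L a) (fun l => (l ∩ A).card = 1)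
    (fun l => (l ∩ A).card)
  have hc := Finset.card_filter_add_card_filter_not (s := pencil L a)
    (fun l => (l ∩ A).card = 1)
  rw [P.card_pencil] at hc
  have h1 : ∑ l ∈ (pencil L a).filter (fun l => (l ∩ A).card = 1), (l ∩ A).card =
      ((pencil L a).filter (fun l => (l ∩ A).card = 1)).card := by
    rw [Finset.card_eq_sum_ones]
    exact Finset.sum_congr rfl (fun l hl => (Finset.mem_filter.mp hl).2)
  have h2 : ∑ l ∈ (pencil L a).filter (fun l => ¬ (l ∩ A).card = 1), (l ∩ A).card =
      2 * ((pencil L a).filter (fun l => ¬ (l ∩ A).card = 1)).card := by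
    rw [Finset.card_eq_sum_ones, Finset.mul_sum]
    apply Finset.sum_congr rfl
    intro l hl
    rw [Finset.mem_filter, mem_pencil] at hl
    have hle := hA l hl.1.1
    have hpos : 0 < (l ∩ A).card :=
      Finset.card_pos.mpr ⟨a, Finset.mem_inter.mpr ⟨hl.1.2, ha⟩⟩
    omega
  omega

/-- A tangent line at a point of a `4`-arc contains exactly one point extending the arc. -/
theorem Plane.tangent_ext (P : Plane L) {A : Finset α} (hA4 : A.card = 4) (hA : IsArc L A)
    {a : α} (ha : a ∈ A) {t : Finset α} (ht : t ∈ L) (hat : a ∈ t) (ht1 : (t ∩ A).card ≤ 1) :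
    (t ∩ extPts L A).card = 1 := by
  classical
  have hE : (A.erase a).card = 3 := by rw [Finset.card_erase_of_mem ha, hA4]
  obtain ⟨b, c, d, hbc, hbd, hcd, hEq⟩ := Finset.card_eq_three.mp hE
  have hb : b ∈ A.erase a := by rw [hEq]; simp
  have hc : c ∈ A.erase a := by rw [hEq]; simp
  have hd : d ∈ A.erase a := by rw [hEq]; simp
  obtain ⟨hba, hbA⟩ := Finset.mem_erase.mp hb
  obtain ⟨hca, hcA⟩ := Finset.mem_erase.mp hc
  obtain ⟨hda, hdA⟩ := Finset.mem_erase.mp hd
  have htA : ∀ y ∈ A, y ∈ t → y = a := by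
    intro y hy hyt
    exact Finset.card_le_one.mp ht1 y (Finset.mem_inter.mpr ⟨hyt, hy⟩) a
      (Finset.mem_inter.mpr ⟨hat, ha⟩)
  have hAcases : ∀ y ∈ A, y = a ∨ y = b ∨ y = c ∨ y = d := by
    intro y hy
    by_cases hya : y = a
    · exact Or.inl hya
    · have : y ∈ A.erase a := Finset.mem_erase.mpr ⟨hya, hy⟩
      rw [hEq] at this
      simp only [Finset.mem_insert, Finset.mem_singleton] at this
      exact Or.inr this
  have hfne : ∀ y z : α, y ∈ A → y ≠ a → y ≠ z → ln L y z ≠ t := by
    intro y z hy hya hyz h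
    exact hya (htA y hy (h ▸ P.left_mem_ln hyz))
  have key : ∀ y z : α, y ∈ A → z ∈ A → y ≠ a → z ≠ a → y ≠ z →
      ∃ x, x ∈ t ∧ x ∈ ln L y z ∧ x ≠ a := by
    intro y z hy hz hya hza hyz
    obtain ⟨x, hx1, hx2⟩ := P.exists_meet (P.ln_mem hyz) ht (hfne y z hy hya hyz)
    refine ⟨x, hx2, hx1, ?_⟩
    rintro rfl
    exact arc_no_three hA (P.ln_mem hyz) ha hy hz (Ne.symm hya) (Ne.symm hza) hyz hx1
      (P.left_mem_ln hyz) (P.right_mem_ln hyz)
  obtain ⟨x1, hx1t, hx1s, hx1a⟩ := key b c hbA hcA hba hca hbc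
  obtain ⟨x2, hx2t, hx2s, hx2a⟩ := key b d hbA hdA hba hda hbd
  obtain ⟨x3, hx3t, hx3s, hx3a⟩ := key c d hcA hdA hca hda hcd
  have hne12 : ln L b c ≠ ln L b d := by
    intro h
    exact arc_no_three hA (P.ln_mem hbc) hbA hcA hdA hbc hbd hcd (P.left_mem_ln hbc)
      (P.right_mem_ln hbc) (h ▸ P.right_mem_ln hbd)
  have hne13 : ln L b c ≠ ln L c d := by
    intro h
    exact arc_no_three hA (P.ln_mem hbc) hbA hcA hdA hbc hbd hcd (P.left_mem_ln hbc)
      (P.right_mem_ln hbc) (h ▸ P.right_mem_ln hcd)
  have hne23 : ln L b d ≠ ln L c d := by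
    intro h
    exact arc_no_three hA (P.ln_mem hbd) hbA hcA hdA hbc hbd hcd (P.left_mem_ln hbd)
      (h ▸ P.left_mem_ln hcd) (P.right_mem_ln hbd)
  have h12 : x1 ≠ x2 := by
    rintro rfl
    have := P.eq_of_mem_mem (P.ln_mem hbc) (P.ln_mem hbd) hne12 hx1s (P.left_mem_ln hbc) hx2s
      (P.left_mem_ln hbd)
    exact hba (htA b hbA (this ▸ hx1t))
  have h13 : x1 ≠ x3 := by
    rintro rfl
    have := P.eq_of_mem_mem (P.ln_mem hbc) (P.ln_mem hcd) hne13 hx1s (P.right_mem_ln hbc) hx3s
      (P.left_mem_ln hcd)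
    exact hca (htA c hcA (this ▸ hx1t))
  have h23 : x2 ≠ x3 := by
    rintro rfl
    have := P.eq_of_mem_mem (P.ln_mem hbd) (P.ln_mem hcd) hne23 hx2s (P.right_mem_ln hbd) hx3s
      (P.right_mem_ln hcd)
    exact hda (htA d hdA (this ▸ hx2t))
  have hsec : ∀ y z x : α, y ∈ A → z ∈ A → y ≠ z → x ∈ ln L y z → x ∉ extPts L A := by
    intro y z x hy hz hyz hx hmem
    have h := (mem_extPts.mp hmem).2 (ln L y z) (P.ln_mem hyz) hx
    have hsub : ({y, z} : Finset α) ⊆ ln L y z ∩ A := by
      intro w hw
      rw [Finset.mem_insert, Finset.mem_singleton] at hw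
      rcases hw with rfl | rfl
      · exact Finset.mem_inter.mpr ⟨P.left_mem_ln hyz, hy⟩
      · exact Finset.mem_inter.mpr ⟨P.right_mem_ln hyz, hz⟩
    have := Finset.card_le_card hsub
    rw [Finset.card_pair hyz] at this
    omega
  have hfar : ∀ y z : α, y ∈ A → z ∈ A → y ≠ a → z ≠ a → y ≠ z →
      x1 ∈ ln L y z ∨ x2 ∈ ln L y z ∨ x3 ∈ ln L y z := by
    intro y z hy hz hya hza hyz
    rcases hAcases y hy with h | rfl | rfl | rfl
    · exact absurd h hya
    · rcases hAcases z hz with h | rfl | rfl | rfl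
      · exact absurd h hza
      · exact absurd rfl hyz
      · exact Or.inl hx1s
      · exact Or.inr (Or.inl hx2s)
    · rcases hAcases z hz with h | rfl | rfl | rfl
      · exact absurd h hza
      · rw [P.ln_comm hyz]; exact Or.inl hx1s
      · exact absurd rfl hyz
      · exact Or.inr (Or.inr hx3s)
    · rcases hAcases z hz with h | rfl | rfl | rfl
      · exact absurd h hza
      · rw [P.ln_comm hyz]; exact Or.inr (Or.inl hx2s)
      · rw [P.ln_comm hyz]; exact Or.inr (Or.inr hx3s)
      · exact absurd rfl hyz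
  have hR : ((((t.erase a).erase x1).erase x2).erase x3).card = 1 := by
    have m1 : x1 ∈ t.erase a := Finset.mem_erase.mpr ⟨hx1a, hx1t⟩
    have m2 : x2 ∈ (t.erase a).erase x1 :=
      Finset.mem_erase.mpr ⟨Ne.symm h12, Finset.mem_erase.mpr ⟨hx2a, hx2t⟩⟩
    have m3 : x3 ∈ ((t.erase a).erase x1).erase x2 :=
      Finset.mem_erase.mpr ⟨Ne.symm h23, Finset.mem_erase.mpr ⟨Ne.symm h13,
        Finset.mem_erase.mpr ⟨hx3a, hx3t⟩⟩⟩
    rw [Finset.card_erase_of_mem m3, Finset.card_erase_of_mem m2, Finset.card_erase_of_mem m1,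
      Finset.card_erase_of_mem hat, P.card_line ht]
  obtain ⟨e, he⟩ := Finset.card_eq_one.mp hR
  have heR : e ∈ (((t.erase a).erase x1).erase x2).erase x3 := he ▸ Finset.mem_singleton_self e
  simp only [Finset.mem_erase] at heR
  obtain ⟨he3, he2, he1, hea, het⟩ := heR
  have heA : e ∉ A := fun h => hea (htA e h het)
  have heN : e ∈ extPts L A := by
    rw [mem_extPts]
    refine ⟨heA, ?_⟩
    intro l hl hel
    by_contra hgt
    push Not at hgt
    obtain ⟨y, hy, z, hz, hyz⟩ := Finset.one_lt_card.mp hgt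
    rw [Finset.mem_inter] at hy hz
    have hal : a ∉ l := by
      intro hal
      have hlt : l = t := P.line_unique hl ht (Ne.symm hea) hal hel hat het
      rw [hlt] at hy hz
      exact hyz ((htA y hy.2 hy.1).trans (htA z hz.2 hz.1).symm)
    have hya : y ≠ a := by rintro rfl; exact hal hy.1
    have hza : z ≠ a := by rintro rfl; exact hal hz.1
    have hl_eq : l = ln L y z := P.eq_ln hl hyz hy.1 hz.1
    rw [hl_eq] at hel
    have hmeet : ∀ x : α, x ∈ t → x ∈ ln L y z → x = e := fun x hxt hxs =>
      P.eq_of_mem_mem ht (P.ln_mem hyz) (Ne.symm (hfne y z hy.2 hya hyz)) hxt het hxs hel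
    rcases hfar y z hy.2 hz.2 hya hza hyz with h | h | h
    · exact he1 (hmeet x1 hx1t h).symm
    · exact he2 (hmeet x2 hx2t h).symm
    · exact he3 (hmeet x3 hx3t h).symm
  rw [Finset.card_eq_one]
  refine ⟨e, ?_⟩
  ext x
  rw [Finset.mem_inter, Finset.mem_singleton]
  constructor
  · rintro ⟨hxt, hxN⟩
    have hxa : x ≠ a := by rintro rfl; exact (mem_extPts.mp hxN).1 ha
    have hx1 : x ≠ x1 := by rintro rfl; exact hsec b c x hbA hcA hbc hx1s hxN
    have hx2 : x ≠ x2 := by rintro rfl; exact hsec b d x hbA hdA hbd hx2s hxN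
    have hx3 : x ≠ x3 := by rintro rfl; exact hsec c d x hcA hdA hcd hx3s hxN
    have : x ∈ (((t.erase a).erase x1).erase x2).erase x3 := by
      simp only [Finset.mem_erase]
      exact ⟨hx3, hx2, hx1, hxa, hxt⟩
    rw [he, Finset.mem_singleton] at this
    exact this
  · rintro rfl
    exact ⟨het, heN⟩

/-- Exactly two points extend a `4`-arc. -/
theorem Plane.card_extPts (P : Plane L) {A : Finset α} (hA4 : A.card = 4) (hA : IsArc L A) :
    (extPts L A).card = 2 := by
  classical
  obtain ⟨a, ha⟩ : A.Nonempty := by rw [← Finset.card_pos, hA4]; norm_num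
  have hT := P.card_tangents hA4 hA ha
  have hU : extPts L A = ((pencil L a).filter (fun l => (l ∩ A).card = 1)).biUnion
      (fun t => t ∩ extPts L A) := by
    ext x
    rw [Finset.mem_biUnion]
    constructor
    · intro hx
      have hxa : a ≠ x := by rintro rfl; exact (mem_extPts.mp hx).1 ha
      refine ⟨ln L a x, ?_, Finset.mem_inter.mpr ⟨P.right_mem_ln hxa, hx⟩⟩
      rw [Finset.mem_filter, mem_pencil]
      refine ⟨⟨P.ln_mem hxa, P.left_mem_ln hxa⟩, ?_⟩
      have h1 := (mem_extPts.mp hx).2 _ (P.ln_mem hxa) (P.right_mem_ln hxa)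
      have h2 : 0 < (ln L a x ∩ A).card :=
        Finset.card_pos.mpr ⟨a, Finset.mem_inter.mpr ⟨P.left_mem_ln hxa, ha⟩⟩
      omega
    · rintro ⟨t, -, hx⟩
      exact (Finset.mem_inter.mp hx).2
  have hcard : (((pencil L a).filter (fun l => (l ∩ A).card = 1)).biUnion
      (fun t => t ∩ extPts L A)).card = 2 := by
    rw [Finset.card_biUnion]
    · have h1 : ∀ t ∈ (pencil L a).filter (fun l => (l ∩ A).card = 1),
          (t ∩ extPts L A).card = 1 := by
        intro t ht
        rw [Finset.mem_filter, mem_pencil] at ht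
        exact P.tangent_ext hA4 hA ha ht.1.1 ht.1.2 (le_of_eq ht.2)
      rw [Finset.sum_congr rfl h1, Finset.sum_const, hT]
      rfl
    · intro t ht t' ht' hne
      rw [Finset.mem_coe, Finset.mem_filter, mem_pencil] at ht ht'
      show Disjoint _ _
      rw [Finset.disjoint_left]
      intro x hx hx'
      rw [Finset.mem_inter] at hx hx'
      have := P.eq_of_mem_mem ht.1.1 ht'.1.1 hne hx.1 ht.1.2 hx'.1 ht'.1.2
      rw [this] at hx
      exact (mem_extPts.mp hx.2).1 ha
  rw [hU]
  exact hcard

/-- A `4`-arc together with its two extending points is a hyperoval. -/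
theorem Plane.hyperoval_of_arc (P : Plane L) {A : Finset α} (hA4 : A.card = 4)
    (hA : IsArc L A) : (A ∪ extPts L A).card = 6 ∧ IsArc L (A ∪ extPts L A) := by
  have hd : Disjoint A (extPts L A) := by
    rw [Finset.disjoint_left]
    intro x hx hx'
    exact (mem_extPts.mp hx').1 hx
  refine ⟨by rw [Finset.card_union_of_disjoint hd, hA4, P.card_extPts hA4 hA], ?_⟩
  intro l hl
  rw [Finset.inter_union_distrib_left]
  have hle := Finset.card_union_le (l ∩ A) (l ∩ extPts L A)
  have h2 := hA l hl
  by_cases h0 : (l ∩ A).card = 0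
  · have : (l ∩ extPts L A).card ≤ 2 :=
      (Finset.card_le_card Finset.inter_subset_right).trans (le_of_eq (P.card_extPts hA4 hA))
    omega
  by_cases h1 : (l ∩ A).card = 1
  · obtain ⟨a, ha⟩ := Finset.card_pos.mp (by omega : 0 < (l ∩ A).card)
    rw [Finset.mem_inter] at ha
    have := P.tangent_ext hA4 hA ha.2 hl ha.1 (le_of_eq h1)
    omega
  · have : l ∩ extPts L A = ∅ := by
      rw [Finset.eq_empty_iff_forall_notMem]
      intro x hx
      rw [Finset.mem_inter] at hx
      have := (mem_extPts.mp hx.2).2 l hl hx.1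
      omega
    rw [this, Finset.union_empty]
    exact h2

/-- The hyperoval through a `4`-arc is unique. -/
theorem Plane.hyperoval_unique (P : Plane L) {A H : Finset α} (hA4 : A.card = 4)
    (hA : IsArc L A) (hH6 : H.card = 6) (hH : IsArc L H) (hAH : A ⊆ H) :
    H = A ∪ extPts L A := by
  apply Finset.eq_of_subset_of_card_le
  · intro x hx
    by_cases hxA : x ∈ A
    · exact Finset.mem_union_left _ hxA
    · apply Finset.mem_union_right
      rw [mem_extPts]
      refine ⟨hxA, ?_⟩
      intro l hl hxl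
      have h := hH l hl
      have hsub : insert x (l ∩ A) ⊆ l ∩ H := by
        intro y hy
        rw [Finset.mem_insert] at hy
        rcases hy with rfl | hy
        · exact Finset.mem_inter.mpr ⟨hxl, hx⟩
        · exact Finset.mem_inter.mpr ⟨(Finset.mem_inter.mp hy).1, hAH (Finset.mem_inter.mp hy).2⟩
      have := Finset.card_le_card hsub
      rw [Finset.card_insert_of_notMem (fun h => hxA (Finset.mem_inter.mp h).2)] at this
      omega
  · rw [(P.hyperoval_of_arc hA4 hA).1, hH6]

/-- There are `168` hyperovals. -/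
theorem Plane.card_arcs_six (P : Plane L) : (arcs L 6).card = 168 := by
  classical
  have hfib := Finset.card_eq_sum_card_fiberwise (s := arcs L 4) (t := arcs L 6)
    (f := fun A => A ∪ extPts L A) (by
      intro A hA
      rw [Finset.mem_coe, mem_arcs] at hA
      rw [Finset.mem_coe, mem_arcs]
      exact P.hyperoval_of_arc hA.1 hA.2)
  have h15 : ∀ H ∈ arcs L 6, ((arcs L 4).filter (fun A => A ∪ extPts L A = H)).card = 15 := by
    intro H hH
    rw [mem_arcs] at hH
    have : (arcs L 4).filter (fun A => A ∪ extPts L A = H) = Finset.powersetCard 4 H := by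
      ext A
      rw [Finset.mem_filter, mem_arcs, Finset.mem_powersetCard]
      constructor
      · rintro ⟨⟨hA4, -⟩, rfl⟩
        exact ⟨Finset.subset_union_left, hA4⟩
      · rintro ⟨hAH, hA4⟩
        exact ⟨⟨hA4, hH.2.mono hAH⟩, (P.hyperoval_unique hA4 (hH.2.mono hAH) hH.1 hH.2 hAH).symm⟩
    rw [this, Finset.card_powersetCard, hH.1]
    rfl
  rw [Finset.sum_congr rfl h15, Finset.sum_const, smul_eq_mul, P.card_arcs_four] at hfib
  omega

end Cfsg.Agent.Lib.Helper93.P4
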