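import Cfsg.Agent.Lib.Helper93.P4b

set_option autoImplicit false

namespace Cfsg.Agent.Lib.Helper93.P4

variable {α : Type*} [Fintype α] [DecidableEq α] {L : Set (Finset α)}

/-- A plane of order four with a hyperoval. -/
structure Hyp (L : Set (Finset α)) (H : Finset α) : Prop where
  plane : Plane L
  card : H.card = 6
  arc : IsArc L H

variable {H : Finset α}

/-- Every line through a point of a hyperoval is a secant. -/
theorem Hyp.secant (Q : Hyp L H) {a : α} (ha : a ∈ H) {l : Finset α} (hl : l ∈ L)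
    (hal : a ∈ l) : (l ∩ H).card = 2 := by
  have hsum := Q.plane.pencil_sum_mem a H ha
  rw [Q.card] at hsum
  have := eq_of_sum_eq (pencil L a) (fun l => (l ∩ H).card) 2
    (fun l hl => Q.arc l (mem_pencil.mp hl).1) (by rw [hsum, Q.plane.card_pencil])
  exact this l (mem_pencil.mpr ⟨hl, hal⟩)

theorem Hyp.exists_other (Q : Hyp L H) {a : α} (ha : a ∈ H) {l : Finset α} (hl : l ∈ L)
    (hal : a ∈ l) : ∃ b, b ∈ H ∧ b ≠ a ∧ b ∈ l := by
  have h2 := Q.secant ha hl hal
  have h1 : ((l ∩ H).erase a).card = 1 := by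
    rw [Finset.card_erase_of_mem (Finset.mem_inter.mpr ⟨hal, ha⟩), h2]
  obtain ⟨b, hb⟩ := Finset.card_pos.mp (by rw [h1]; norm_num : 0 < ((l ∩ H).erase a).card)
  rw [Finset.mem_erase, Finset.mem_inter] at hb
  exact ⟨b, hb.2.2, hb.1, hb.2.1⟩

theorem Hyp.other_unique (Q : Hyp L H) {a : α} (ha : a ∈ H) {l : Finset α} (hl : l ∈ L)
    (hal : a ∈ l) {b b' : α} (hb : b ∈ H) (hba : b ≠ a) (hbl : b ∈ l) (hb' : b' ∈ H)
    (hba' : b' ≠ a) (hbl' : b' ∈ l) : b = b' := by
  by_contra hne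
  exact arc_no_three Q.arc hl ha hb hb' (Ne.symm hba) (Ne.symm hba') hne hal hbl hbl'

/-- The mate of `a` seen from `p`: the other point of the hyperoval on the line `pa`. -/
noncomputable def mate (L : Set (Finset α)) (H : Finset α) (p a : α) : α :=
  @Classical.epsilon α ⟨a⟩ (fun b => b ∈ H ∧ b ≠ a ∧ b ∈ ln L p a)

theorem Hyp.mate_spec (Q : Hyp L H) {p a : α} (hp : p ∉ H) (ha : a ∈ H) :
    mate L H p a ∈ H ∧ mate L H p a ≠ a ∧ mate L H p a ∈ ln L p a := by
  have hpa : p ≠ a := by rintro rfl; exact hp ha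
  have h : ∃ b, b ∈ H ∧ b ≠ a ∧ b ∈ ln L p a :=
    Q.exists_other ha (Q.plane.ln_mem hpa) (Q.plane.right_mem_ln hpa)
  exact Classical.epsilon_spec h

theorem Hyp.mate_unique (Q : Hyp L H) {p a b : α} (hp : p ∉ H) (ha : a ∈ H) (hb : b ∈ H)
    (hba : b ≠ a) (hbl : b ∈ ln L p a) : b = mate L H p a := by
  have hpa : p ≠ a := by rintro rfl; exact hp ha
  obtain ⟨h1, h2, h3⟩ := Q.mate_spec hp ha
  exact Q.other_unique ha (Q.plane.ln_mem hpa) (Q.plane.right_mem_ln hpa) hb hba hbl h1 h2 h3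

/-- The mate of `a` lies on every line through `p` and `a`. -/
theorem Hyp.mate_mem (Q : Hyp L H) {p a : α} (hp : p ∉ H) (ha : a ∈ H) {l : Finset α}
    (hl : l ∈ L) (hpl : p ∈ l) (hal : a ∈ l) : mate L H p a ∈ l := by
  have hpa : p ≠ a := by rintro rfl; exact hp ha
  rw [Q.plane.eq_ln hl hpa hpl hal]
  exact (Q.mate_spec hp ha).2.2

theorem Hyp.mate_eq (Q : Hyp L H) {p a b : α} (hp : p ∉ H) (ha : a ∈ H) (hb : b ∈ H)
    (hba : b ≠ a) {l : Finset α} (hl : l ∈ L) (hpl : p ∈ l) (hal : a ∈ l) (hbl : b ∈ l) :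
    mate L H p a = b := by
  have hpa : p ≠ a := by rintro rfl; exact hp ha
  refine (Q.mate_unique hp ha hb hba ?_).symm
  rw [← Q.plane.eq_ln hl hpa hpl hal]
  exact hbl

theorem Hyp.mate_mate (Q : Hyp L H) {p a : α} (hp : p ∉ H) (ha : a ∈ H) :
    mate L H p (mate L H p a) = a := by
  have hpa : p ≠ a := by rintro rfl; exact hp ha
  obtain ⟨h1, h2, h3⟩ := Q.mate_spec hp ha
  exact Q.mate_eq hp h1 ha (Ne.symm h2) (Q.plane.ln_mem hpa) (Q.plane.left_mem_ln hpa) h3
    (Q.plane.right_mem_ln hpa)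

/-- `p` lies on the secant through `a` and its mate. -/
theorem Hyp.mem_ln_mate (Q : Hyp L H) {p a : α} (hp : p ∉ H) (ha : a ∈ H) :
    p ∈ ln L a (mate L H p a) := by
  have hpa : p ≠ a := by rintro rfl; exact hp ha
  obtain ⟨h1, h2, h3⟩ := Q.mate_spec hp ha
  rw [← Q.plane.eq_ln (Q.plane.ln_mem hpa) (Ne.symm h2) (Q.plane.right_mem_ln hpa) h3]
  exact Q.plane.left_mem_ln hpa

/-- A point off the hyperoval is determined by two of its mates. -/
theorem Hyp.pt_unique (Q : Hyp L H) {p q a c : α} (hp : p ∉ H) (hq : q ∉ H) (ha : a ∈ H)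
    (hc : c ∈ H) (hca : c ≠ a) (hcb : c ≠ mate L H p a) (h1 : mate L H q a = mate L H p a)
    (h2 : mate L H q c = mate L H p c) : p = q := by
  obtain ⟨b1, b2, b3⟩ := Q.mate_spec hp ha
  obtain ⟨d1, d2, d3⟩ := Q.mate_spec hp hc
  have hp1 := Q.mem_ln_mate hp ha
  have hp2 := Q.mem_ln_mate hp hc
  have hq1 := Q.mem_ln_mate hq ha
  have hq2 := Q.mem_ln_mate hq hc
  rw [h1] at hq1
  rw [h2] at hq2
  have hne : ln L a (mate L H p a) ≠ ln L c (mate L H p c) := by
    intro h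
    have hcl : c ∈ ln L a (mate L H p a) := h ▸ Q.plane.left_mem_ln (Ne.symm d2)
    exact arc_no_three Q.arc (Q.plane.ln_mem (Ne.symm b2)) ha b1 hc (Ne.symm b2) (Ne.symm hca)
      (Ne.symm hcb) (Q.plane.left_mem_ln (Ne.symm b2)) (Q.plane.right_mem_ln (Ne.symm b2)) hcl
  exact Q.plane.eq_of_mem_mem (Q.plane.ln_mem (Ne.symm b2)) (Q.plane.ln_mem (Ne.symm d2)) hne
    hp1 hq1 hp2 hq2

/-- A fixed-point-free involution on a six-set is determined, through a bijection, by two of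
its values. -/
theorem invol_agree {α β : Type*} [DecidableEq α] [DecidableEq β] {H : Finset α}
    {H' : Finset β} (hH : H.card = 6) (μ : α → α) (μ' : β → β) (s : α → β)
    (hμ : ∀ a ∈ H, μ a ∈ H ∧ μ a ≠ a ∧ μ (μ a) = a)
    (hμ' : ∀ y ∈ H', μ' y ∈ H' ∧ μ' y ≠ y ∧ μ' (μ' y) = y)
    (hs : ∀ a ∈ H, s a ∈ H') (hinj : ∀ a ∈ H, ∀ b ∈ H, s a = s b → a = b)
    (hsurj : ∀ y ∈ H', ∃ a ∈ H, s a = y)
    {a c : α} (ha : a ∈ H) (hc : c ∈ H) (hca : c ≠ a) (hcb : c ≠ μ a)
    (h1 : μ' (s a) = s (μ a)) (h2 : μ' (s c) = s (μ c)) :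
    ∀ e ∈ H, μ' (s e) = s (μ e) := by
  classical
  set D := H.filter (fun e => μ' (s e) = s (μ e)) with hD
  have hDH : D ⊆ H := Finset.filter_subset _ _
  have hclosed : ∀ e ∈ D, μ e ∈ D := by
    intro e he
    rw [hD, Finset.mem_filter] at he ⊢
    obtain ⟨heH, hee⟩ := he
    refine ⟨(hμ e heH).1, ?_⟩
    rw [← hee, (hμ' (s e) (hs e heH)).2.2, (hμ e heH).2.2]
  have haD : a ∈ D := Finset.mem_filter.mpr ⟨ha, h1⟩
  have hcD : c ∈ D := Finset.mem_filter.mpr ⟨hc, h2⟩
  have hbD := hclosed a haD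
  have hdD := hclosed c hcD
  have h4 : 4 ≤ D.card := by
    have hsub : ({a, μ a, c, μ c} : Finset α) ⊆ D := by
      intro x hx
      simp only [Finset.mem_insert, Finset.mem_singleton] at hx
      rcases hx with rfl | rfl | rfl | rfl <;> assumption
    have hcard : ({a, μ a, c, μ c} : Finset α).card = 4 := by
      rw [Finset.card_insert_of_notMem, Finset.card_insert_of_notMem, Finset.card_pair]
      · exact (hμ c hc).2.1.symm
      · simp only [Finset.mem_insert, Finset.mem_singleton, not_or]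
        refine ⟨Ne.symm hcb, ?_⟩
        intro h
        have := congrArg μ h
        rw [(hμ a ha).2.2, (hμ c hc).2.2] at this
        exact hca this.symm
      · simp only [Finset.mem_insert, Finset.mem_singleton, not_or]
        refine ⟨(hμ a ha).2.1.symm, Ne.symm hca, ?_⟩
        intro h
        have := congrArg μ h
        rw [(hμ c hc).2.2] at this
        exact hcb this.symm
    calc 4 = ({a, μ a, c, μ c} : Finset α).card := hcard.symm
      _ ≤ D.card := Finset.card_le_card hsub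
  intro e he
  by_contra hne
  have heD : e ∉ D := fun h => hne (Finset.mem_filter.mp h).2
  have hμeD : μ e ∉ D := by
    intro h
    have := hclosed _ h
    rw [(hμ e he).2.2] at this
    exact heD this
  have hsd : (H \ D).card ≤ 2 := by
    rw [Finset.card_sdiff_of_subset hDH, hH]
    omega
  obtain ⟨g, hg, hsg⟩ := hsurj (μ' (s e)) (hμ' (s e) (hs e he)).1
  have hge : g ≠ e := by
    rintro rfl
    exact (hμ' (s g) (hs g he)).2.1 hsg.symm
  have hgD : g ∉ D := by
    intro hgD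
    have h3 := (Finset.mem_filter.mp hgD).2
    rw [hsg, (hμ' (s e) (hs e he)).2.2] at h3
    have : e = μ g := hinj e he (μ g) (hμ g hg).1 h3
    apply hμeD
    rw [this, (hμ g hg).2.2]
    exact hgD
  have hgμ : g = μ e := by
    by_contra hgμ
    have hsub : ({e, μ e, g} : Finset α) ⊆ H \ D := by
      intro x hx
      simp only [Finset.mem_insert, Finset.mem_singleton] at hx
      rcases hx with rfl | rfl | rfl
      · exact Finset.mem_sdiff.mpr ⟨he, heD⟩
      · exact Finset.mem_sdiff.mpr ⟨(hμ _ he).1, hμeD⟩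
      · exact Finset.mem_sdiff.mpr ⟨hg, hgD⟩
    have h3 : ({e, μ e, g} : Finset α).card = 3 :=
      Finset.card_eq_three.mpr ⟨e, μ e, g, (hμ e he).2.1.symm, Ne.symm hge, Ne.symm hgμ, rfl⟩
    have := Finset.card_le_card hsub
    omega
  exact hne (by rw [← hsg, hgμ])

/-- At most two exterior lines pass through a point off the hyperoval. -/
theorem Hyp.card_ext_pencil_le (Q : Hyp L H) {p : α} (hp : p ∉ H) :
    ((pencil L p).filter (fun l => (l ∩ H).card = 0)).card ≤ 2 := by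
  have hsum := Q.plane.pencil_sum p H hp
  rw [Q.card] at hsum
  have hsplit := Finset.sum_filter_add_sum_filter_not (pencil L p) (fun l => (l ∩ H).card = 0)
    (fun l => (l ∩ H).card)
  have hc := Finset.card_filter_add_card_filter_not (s := pencil L p)
    (fun l => (l ∩ H).card = 0)
  rw [Q.plane.card_pencil] at hc
  have h1 : ∑ l ∈ (pencil L p).filter (fun l => (l ∩ H).card = 0), (l ∩ H).card = 0 :=
    Finset.sum_eq_zero (fun l hl => (Finset.mem_filter.mp hl).2)
  have h2 : ∑ l ∈ (pencil L p).filter (fun l => ¬ (l ∩ H).card = 0), (l ∩ H).card ≤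
      2 * ((pencil L p).filter (fun l => ¬ (l ∩ H).card = 0)).card := by
    rw [Finset.card_eq_sum_ones, Finset.mul_sum]
    apply Finset.sum_le_sum
    intro l hl
    rw [Finset.mem_filter, mem_pencil] at hl
    have := Q.arc l hl.1.1
    omega
  omega

/-- Two distinct exterior lines through a point off the hyperoval are the only ones. -/
theorem Hyp.ext_line_cases (Q : Hyp L H) {p : α} (hp : p ∉ H) {m m' m'' : Finset α}
    (hm : m ∈ L) (hm' : m' ∈ L) (hm'' : m'' ∈ L) (pm : p ∈ m) (pm' : p ∈ m') (pm'' : p ∈ m'')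
    (em : (m ∩ H).card = 0) (em' : (m' ∩ H).card = 0) (em'' : (m'' ∩ H).card = 0)
    (hne : m ≠ m') : m'' = m ∨ m'' = m' := by
  by_contra hcon
  push Not at hcon
  have hsub : ({m, m', m''} : Finset (Finset α)) ⊆
      (pencil L p).filter (fun l => (l ∩ H).card = 0) := by
    intro x hx
    simp only [Finset.mem_insert, Finset.mem_singleton] at hx
    rw [Finset.mem_filter, mem_pencil]
    rcases hx with rfl | rfl | rfl
    · exact ⟨⟨hm, pm⟩, em⟩
    · exact ⟨⟨hm', pm'⟩, em'⟩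
    · exact ⟨⟨hm'', pm''⟩, em''⟩
  have h3 : ({m, m', m''} : Finset (Finset α)).card = 3 :=
    Finset.card_eq_three.mpr ⟨m, m', m'', hne, Ne.symm hcon.1, Ne.symm hcon.2, rfl⟩
  have := Finset.card_le_card hsub
  have := Q.card_ext_pencil_le hp
  omega

/-- Four or more points off the hyperoval, pairwise joined by exterior lines, are collinear. -/
theorem Hyp.clique (Q : Hyp L H) {X : Finset α} (hX : 4 ≤ X.card) (hXH : ∀ x ∈ X, x ∉ H)
    (hpair : ∀ x ∈ X, ∀ y ∈ X, x ≠ y → (ln L x y ∩ H).card = 0) : ∃ m, m ∈ L ∧ X ⊆ m := by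
  have P := Q.plane
  obtain ⟨q1, hq1, q2, hq2, h12⟩ := Finset.one_lt_card.mp (by omega : 1 < X.card)
  by_contra hcon
  push Not at hcon
  have hnot := hcon (ln L q1 q2) (P.ln_mem h12)
  obtain ⟨q3, hq3, hq3m⟩ := Finset.not_subset.mp hnot
  have h13 : q1 ≠ q3 := by rintro rfl; exact hq3m (P.left_mem_ln h12)
  have h23 : q2 ≠ q3 := by rintro rfl; exact hq3m (P.right_mem_ln h12)
  have hmm' : ln L q1 q2 ≠ ln L q1 q3 := by
    intro h
    exact hq3m (h ▸ P.right_mem_ln h13)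
  have hmn : ln L q1 q2 ≠ ln L q2 q3 := by
    intro h
    exact hq3m (h ▸ P.right_mem_ln h23)
  have hm'n : ln L q1 q3 ≠ ln L q2 q3 := by
    intro h
    have h2 : q2 ∈ ln L q1 q3 := h ▸ P.left_mem_ln h23
    have := P.eq_ln (P.ln_mem h13) h12 (P.left_mem_ln h13) h2
    exact hq3m (this ▸ P.right_mem_ln h13)
  obtain ⟨q4, hq4⟩ : (((X.erase q1).erase q2).erase q3).Nonempty := by
    rw [← Finset.card_pos]
    have h1 := Finset.pred_card_le_card_erase (s := X) (a := q1)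
    have h2 := Finset.pred_card_le_card_erase (s := X.erase q1) (a := q2)
    have h3 := Finset.pred_card_le_card_erase (s := (X.erase q1).erase q2) (a := q3)
    omega
  simp only [Finset.mem_erase] at hq4
  obtain ⟨h43, h42, h41, hq4X⟩ := hq4
  have c1 := Q.ext_line_cases (hXH q1 hq1) (P.ln_mem h12) (P.ln_mem h13) (P.ln_mem (Ne.symm h41))
    (P.left_mem_ln h12) (P.left_mem_ln h13) (P.left_mem_ln (Ne.symm h41))
    (hpair q1 hq1 q2 hq2 h12) (hpair q1 hq1 q3 hq3 h13) (hpair q1 hq1 q4 hq4X (Ne.symm h41)) hmm'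
  have c2 := Q.ext_line_cases (hXH q2 hq2) (P.ln_mem h12) (P.ln_mem h23) (P.ln_mem (Ne.symm h42))
    (P.right_mem_ln h12) (P.left_mem_ln h23) (P.left_mem_ln (Ne.symm h42))
    (hpair q1 hq1 q2 hq2 h12) (hpair q2 hq2 q3 hq3 h23) (hpair q2 hq2 q4 hq4X (Ne.symm h42)) hmn
  have c3 := Q.ext_line_cases (hXH q3 hq3) (P.ln_mem h13) (P.ln_mem h23) (P.ln_mem (Ne.symm h43))
    (P.right_mem_ln h13) (P.right_mem_ln h23) (P.left_mem_ln (Ne.symm h43))
    (hpair q1 hq1 q3 hq3 h13) (hpair q2 hq2 q3 hq3 h23) (hpair q3 hq3 q4 hq4X (Ne.symm h43)) hm'n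
  have m1 : q4 ∈ ln L q1 q2 ∨ q4 ∈ ln L q1 q3 := by
    rcases c1 with h | h
    · exact Or.inl (h ▸ P.right_mem_ln (Ne.symm h41))
    · exact Or.inr (h ▸ P.right_mem_ln (Ne.symm h41))
  have m2 : q4 ∈ ln L q1 q2 ∨ q4 ∈ ln L q2 q3 := by
    rcases c2 with h | h
    · exact Or.inl (h ▸ P.right_mem_ln (Ne.symm h42))
    · exact Or.inr (h ▸ P.right_mem_ln (Ne.symm h42))
  have m3 : q4 ∈ ln L q1 q3 ∨ q4 ∈ ln L q2 q3 := by
    rcases c3 with h | h
    · exact Or.inl (h ▸ P.right_mem_ln (Ne.symm h43))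
    · exact Or.inr (h ▸ P.right_mem_ln (Ne.symm h43))
  by_cases hq4m : q4 ∈ ln L q1 q2
  · rcases m3 with h | h
    · exact h41 (P.eq_of_mem_mem (P.ln_mem h12) (P.ln_mem h13) hmm' hq4m (P.left_mem_ln h12) h
        (P.left_mem_ln h13))
    · exact h42 (P.eq_of_mem_mem (P.ln_mem h12) (P.ln_mem h23) hmn hq4m (P.right_mem_ln h12) h
        (P.left_mem_ln h23))
  · have h1 : q4 ∈ ln L q1 q3 := m1.resolve_left hq4m
    have h2 : q4 ∈ ln L q2 q3 := m2.resolve_left hq4m
    exact h43 (P.eq_of_mem_mem (P.ln_mem h13) (P.ln_mem h23) hm'n h1 (P.right_mem_ln h13) h2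
      (P.right_mem_ln h23))

end Cfsg.Agent.Lib.Helper93.P4
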