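import Cfsg.Agent.Lib.Helper93.P4c

set_option autoImplicit false

namespace Cfsg.Agent.Lib.Helper93.P4

variable {α β : Type*} [Fintype α] [DecidableEq α] [Fintype β] [DecidableEq β]
  {L : Set (Finset α)} {L' : Set (Finset β)} {H : Finset α} {H' : Finset β} {s : α → β}

omit [Fintype β] [DecidableEq β] in
/-- The mate map is a fixed-point-free involution on the hyperoval. -/
theorem Hyp.mate_invol (Q : Hyp L H) {p : α} (hp : p ∉ H) :
    ∀ a ∈ H, mate L H p a ∈ H ∧ mate L H p a ≠ a ∧ mate L H p (mate L H p a) = a :=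
  fun _ ha => ⟨(Q.mate_spec hp ha).1, (Q.mate_spec hp ha).2.1, Q.mate_mate hp ha⟩

/-- A bijection between hyperovals of two planes of order four. -/
structure HypMap (L : Set (Finset α)) (L' : Set (Finset β)) (H : Finset α) (H' : Finset β)
    (s : α → β) : Prop where
  src : Hyp L H
  tgt : Hyp L' H'
  maps : ∀ a ∈ H, s a ∈ H'
  inj : ∀ a ∈ H, ∀ b ∈ H, s a = s b → a = b

theorem HypMap.surj (M : HypMap L L' H H' s) : ∀ y ∈ H', ∃ a ∈ H, s a = y := by
  have himg : H.image s = H' := by
    apply Finset.eq_of_subset_of_card_le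
    · intro y hy
      obtain ⟨a, ha, rfl⟩ := Finset.mem_image.mp hy
      exact M.maps a ha
    · rw [Finset.card_image_of_injOn, M.src.card, M.tgt.card]
      intro a ha b hb h
      exact M.inj a (Finset.mem_coe.mp ha) b (Finset.mem_coe.mp hb) h
  intro y hy
  rw [← himg] at hy
  obtain ⟨a, ha, rfl⟩ := Finset.mem_image.mp hy
  exact ⟨a, ha, rfl⟩

/-- Existence of the image point. -/
theorem HypMap.exists_pt (M : HypMap L L' H H' s) {x : α} (hx : x ∉ H) :
    ∃ q, q ∉ H' ∧ ∀ a ∈ H, mate L' H' q (s a) = s (mate L H x a) := by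
  classical
  have Q := M.src
  have Q' := M.tgt
  have P' := Q'.plane
  obtain ⟨a, ha⟩ : H.Nonempty := by rw [← Finset.card_pos, Q.card]; norm_num
  obtain ⟨hb, hba, -⟩ := Q.mate_spec hx ha
  obtain ⟨c, hc⟩ : ((H.erase a).erase (mate L H x a)).Nonempty := by
    rw [← Finset.card_pos, Finset.card_erase_of_mem (Finset.mem_erase.mpr ⟨hba, hb⟩),
      Finset.card_erase_of_mem ha, Q.card]
    norm_num
  rw [Finset.mem_erase, Finset.mem_erase] at hc
  obtain ⟨hcb, hca, hcH⟩ := hc
  obtain ⟨hd, hdc, -⟩ := Q.mate_spec hx hcH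
  have hda : mate L H x c ≠ a := by
    intro h
    have := Q.mate_mate hx hcH
    rw [h] at this
    exact hcb this.symm
  have hdb : mate L H x c ≠ mate L H x a := by
    intro h
    have h1 := Q.mate_mate hx hcH
    have h2 := Q.mate_mate hx ha
    rw [h] at h1
    exact hca (h1.symm.trans h2)
  have sa := M.maps a ha
  have sb := M.maps _ hb
  have sc := M.maps c hcH
  have sd := M.maps _ hd
  have hsab : s a ≠ s (mate L H x a) := fun h => hba (M.inj a ha _ hb h).symm
  have hscd : s c ≠ s (mate L H x c) := fun h => hdc (M.inj c hcH _ hd h).symm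
  have hsca : s c ≠ s a := fun h => hca (M.inj c hcH a ha h)
  have hscb : s c ≠ s (mate L H x a) := fun h => hcb (M.inj c hcH _ hb h)
  have hsda : s (mate L H x c) ≠ s a := fun h => hda (M.inj _ hd a ha h)
  have hsdb : s (mate L H x c) ≠ s (mate L H x a) := fun h => hdb (M.inj _ hd _ hb h)
  have hlne : ln L' (s a) (s (mate L H x a)) ≠ ln L' (s c) (s (mate L H x c)) := by
    intro h
    have hcl : s c ∈ ln L' (s a) (s (mate L H x a)) := h ▸ P'.left_mem_ln hscd
    exact arc_no_three Q'.arc (P'.ln_mem hsab) sa sb sc hsab (Ne.symm hsca) (Ne.symm hscb)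
      (P'.left_mem_ln hsab) (P'.right_mem_ln hsab) hcl
  obtain ⟨q, hq1, hq2⟩ := P'.exists_meet (P'.ln_mem hsab) (P'.ln_mem hscd) hlne
  have hqH : q ∉ H' := by
    intro hqH
    have h1 : q = s a ∨ q = s (mate L H x a) := by
      by_cases h : q = s a
      · exact Or.inl h
      · exact Or.inr (Q'.other_unique sa (P'.ln_mem hsab) (P'.left_mem_ln hsab) hqH h hq1 sb
          (Ne.symm hsab) (P'.right_mem_ln hsab))
    have h2 : q = s c ∨ q = s (mate L H x c) := by
      by_cases h : q = s c
      · exact Or.inl h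
      · exact Or.inr (Q'.other_unique sc (P'.ln_mem hscd) (P'.left_mem_ln hscd) hqH h hq2 sd
          (Ne.symm hscd) (P'.right_mem_ln hscd))
    rcases h1 with h1 | h1 <;> rcases h2 with h2 | h2
    · exact hsca (h2.symm.trans h1)
    · exact hsda (h2.symm.trans h1)
    · exact hscb (h2.symm.trans h1)
    · exact hsdb (h2.symm.trans h1)
  refine ⟨q, hqH, ?_⟩
  have e1 : mate L' H' q (s a) = s (mate L H x a) :=
    Q'.mate_eq hqH sa sb (Ne.symm hsab) (P'.ln_mem hsab) hq1 (P'.left_mem_ln hsab)
      (P'.right_mem_ln hsab)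
  have e2 : mate L' H' q (s c) = s (mate L H x c) :=
    Q'.mate_eq hqH sc sd (Ne.symm hscd) (P'.ln_mem hscd) hq2 (P'.left_mem_ln hscd)
      (P'.right_mem_ln hscd)
  exact invol_agree Q.card (mate L H x) (mate L' H' q) s (Q.mate_invol hx) (Q'.mate_invol hqH)
    M.maps M.inj M.surj ha hcH hca hcb e1 e2

/-- The extension of a map between hyperovals to the whole plane. -/
noncomputable def extMap (L : Set (Finset α)) (L' : Set (Finset β)) (H : Finset α)
    (H' : Finset β) (s : α → β) (x : α) : β :=
  if x ∈ H then s x else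
    @Classical.epsilon β ⟨s x⟩
      (fun q => q ∉ H' ∧ ∀ a ∈ H, mate L' H' q (s a) = s (mate L H x a))

omit [Fintype α] [Fintype β] [DecidableEq β] in
theorem extMap_mem {x : α} (hx : x ∈ H) : extMap L L' H H' s x = s x := if_pos hx

theorem HypMap.extMap_spec (M : HypMap L L' H H' s) {x : α} (hx : x ∉ H) :
    extMap L L' H H' s x ∉ H' ∧
      ∀ a ∈ H, mate L' H' (extMap L L' H H' s x) (s a) = s (mate L H x a) := by
  unfold extMap
  rw [if_neg hx]
  exact Classical.epsilon_spec (M.exists_pt hx)

theorem HypMap.extMap_inj (M : HypMap L L' H H' s) :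
    Function.Injective (extMap L L' H H' s) := by
  classical
  intro x y hxy
  have Q := M.src
  by_cases hx : x ∈ H <;> by_cases hy : y ∈ H
  · rw [extMap_mem hx, extMap_mem hy] at hxy
    exact M.inj x hx y hy hxy
  · exfalso
    have := (M.extMap_spec hy).1
    rw [← hxy, extMap_mem hx] at this
    exact this (M.maps x hx)
  · exfalso
    have := (M.extMap_spec hx).1
    rw [hxy, extMap_mem hy] at this
    exact this (M.maps y hy)
  · obtain ⟨a, ha⟩ : H.Nonempty := by rw [← Finset.card_pos, Q.card]; norm_num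
    obtain ⟨hb, hba, -⟩ := Q.mate_spec hx ha
    obtain ⟨c, hc⟩ : ((H.erase a).erase (mate L H x a)).Nonempty := by
      rw [← Finset.card_pos, Finset.card_erase_of_mem (Finset.mem_erase.mpr ⟨hba, hb⟩),
        Finset.card_erase_of_mem ha, Q.card]
      norm_num
    rw [Finset.mem_erase, Finset.mem_erase] at hc
    obtain ⟨hcb, hca, hcH⟩ := hc
    have hm : ∀ a ∈ H, mate L H y a = mate L H x a := by
      intro a ha
      have h1 := (M.extMap_spec hx).2 a ha
      have h2 := (M.extMap_spec hy).2 a ha
      rw [hxy] at h1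
      exact M.inj _ (Q.mate_spec hy ha).1 _ (Q.mate_spec hx ha).1 (h2.symm.trans h1)
    exact Q.pt_unique hx hy ha hcH hca hcb (hm a ha) (hm c hcH)

/-- The extension maps lines to lines. -/
theorem HypMap.image_line (M : HypMap L L' H H' s) {l : Finset α} (hl : l ∈ L) :
    l.image (extMap L L' H H' s) ∈ L' := by
  classical
  have Q := M.src
  have Q' := M.tgt
  have P := Q.plane
  have P' := Q'.plane
  have hcard : (l.image (extMap L L' H H' s)).card = 5 := by
    rw [Finset.card_image_of_injective _ M.extMap_inj, P.card_line hl]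
  by_cases h0 : (l ∩ H).card = 0
  · have hlH : ∀ x ∈ l, x ∉ H := by
      intro x hx hxH
      have : x ∈ l ∩ H := Finset.mem_inter.mpr ⟨hx, hxH⟩
      rw [Finset.card_eq_zero] at h0
      rw [h0] at this
      exact absurd this (Finset.notMem_empty _)
    obtain ⟨m, hm, hsub⟩ := Q'.clique (X := l.image (extMap L L' H H' s))
      (by rw [hcard]; norm_num) (by
        intro y hy
        obtain ⟨x, hx, rfl⟩ := Finset.mem_image.mp hy
        exact (M.extMap_spec (hlH x hx)).1) (by
        intro y hy y' hy' hne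
        obtain ⟨x, hx, rfl⟩ := Finset.mem_image.mp hy
        obtain ⟨x', hx', rfl⟩ := Finset.mem_image.mp hy'
        have hxx' : x ≠ x' := fun h => hne (by rw [h])
        by_contra hpos
        obtain ⟨z, hz⟩ := Finset.card_pos.mp (Nat.pos_of_ne_zero hpos)
        rw [Finset.mem_inter] at hz
        obtain ⟨a, ha, rfl⟩ := M.surj z hz.2
        have hxH := hlH x hx
        have hx'H := hlH x' hx'
        have ex := M.extMap_spec hxH
        have ex' := M.extMap_spec hx'H
        have m1 := Q'.mate_mem ex.1 (M.maps a ha) (P'.ln_mem hne) (P'.left_mem_ln hne) hz.1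
        have m2 : mate L' H' (extMap L L' H H' s x') (s a) =
            mate L' H' (extMap L L' H H' s x) (s a) :=
          Q'.mate_eq ex'.1 (M.maps a ha) (Q'.mate_spec ex.1 (M.maps a ha)).1
            (Q'.mate_spec ex.1 (M.maps a ha)).2.1 (P'.ln_mem hne) (P'.right_mem_ln hne) hz.1 m1
        rw [ex.2 a ha, ex'.2 a ha] at m2
        have m3 := M.inj _ (Q.mate_spec hx'H ha).1 _ (Q.mate_spec hxH ha).1 m2
        have i1 := Q.mem_ln_mate hxH ha
        have i2 := Q.mem_ln_mate hx'H ha
        rw [m3] at i2
        have hb := Q.mate_spec hxH ha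
        have : l = ln L a (mate L H x a) :=
          P.line_unique hl (P.ln_mem (Ne.symm hb.2.1)) hxx' hx hx' i1 i2
        exact hlH a (this ▸ P.left_mem_ln (Ne.symm hb.2.1)) ha)
    have : l.image (extMap L L' H H' s) = m :=
      Finset.eq_of_subset_of_card_le hsub (by rw [hcard, P'.card_line hm])
    rw [this]
    exact hm
  · obtain ⟨a, ha⟩ := Finset.card_pos.mp (Nat.pos_of_ne_zero h0)
    rw [Finset.mem_inter] at ha
    obtain ⟨b, hbH, hba, hbl⟩ := Q.exists_other ha.2 hl ha.1
    have hsab : s a ≠ s b := fun h => hba (M.inj a ha.2 b hbH h).symm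
    have : l.image (extMap L L' H H' s) = ln L' (s a) (s b) := by
      apply Finset.eq_of_subset_of_card_le
      · intro y hy
        obtain ⟨x, hx, rfl⟩ := Finset.mem_image.mp hy
        by_cases hxH : x ∈ H
        · rw [extMap_mem hxH]
          by_cases hxa : x = a
          · rw [hxa]
            exact P'.left_mem_ln hsab
          · have := Q.other_unique ha.2 hl ha.1 hxH hxa hx hbH hba hbl
            rw [this]
            exact P'.right_mem_ln hsab
        · have ex := M.extMap_spec hxH
          have hm : mate L H x a = b := Q.mate_eq hxH ha.2 hbH hba hl hx ha.1 hbl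
          have h1 := ex.2 a ha.2
          rw [hm] at h1
          have h2 := Q'.mem_ln_mate ex.1 (M.maps a ha.2)
          rw [h1] at h2
          exact h2
      · rw [hcard, P'.card_line (P'.ln_mem hsab)]
    rw [this]
    exact P'.ln_mem hsab

/-- A bijection between hyperovals of two planes of order four extends to an isomorphism. -/
theorem HypMap.exists_iso (M : HypMap L L' H H' s) :
    ∃ e : α ≃ β, (∀ a ∈ H, e a = s a) ∧ (fun b => b.image e) '' L = L' := by
  classical
  have Q := M.src
  have Q' := M.tgt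
  have hbij : Function.Bijective (extMap L L' H H' s) := by
    rw [Fintype.bijective_iff_injective_and_card]
    exact ⟨M.extMap_inj, by rw [Q.plane.card, Q'.plane.card]⟩
  refine ⟨Equiv.ofBijective _ hbij, fun a ha => extMap_mem ha, ?_⟩
  have hsub : (lines L).image (fun b => b.image (extMap L L' H H' s)) ⊆ lines L' := by
    intro m hm
    obtain ⟨l, hl, rfl⟩ := Finset.mem_image.mp hm
    exact (mem_lines _).mpr (M.image_line ((mem_lines l).mp hl))
  have heq : (lines L).image (fun b => b.image (extMap L L' H H' s)) = lines L' := by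
    apply Finset.eq_of_subset_of_card_le hsub
    rw [Finset.card_image_of_injective _ (Finset.image_injective M.extMap_inj),
      Q.plane.card_lines, Q'.plane.card_lines]
  ext m
  constructor
  · rintro ⟨l, hl, rfl⟩
    exact M.image_line hl
  · intro hm
    have : m ∈ lines L' := (mem_lines m).mpr hm
    rw [← heq] at this
    obtain ⟨l, hl, rfl⟩ := Finset.mem_image.mp this
    exact ⟨l, (mem_lines l).mp hl, rfl⟩

omit [Fintype β] [DecidableEq β] in
/-- An automorphism of the plane is determined by its action on a hyperoval. -/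
theorem Hyp.aut_unique (Q : Hyp L H) {g g' : Equiv.Perm α} (hg : ∀ l ∈ L, l.image g ∈ L)
    (hg' : ∀ l ∈ L, l.image g' ∈ L) (hH : ∀ a ∈ H, g a ∈ H) (hgg' : ∀ a ∈ H, g a = g' a) :
    g = g' := by
  classical
  have P := Q.plane
  ext x
  by_cases hx : x ∈ H
  · exact hgg' x hx
  obtain ⟨a, ha⟩ : H.Nonempty := by rw [← Finset.card_pos, Q.card]; norm_num
  obtain ⟨hb, hba, -⟩ := Q.mate_spec hx ha
  obtain ⟨c, hc⟩ : ((H.erase a).erase (mate L H x a)).Nonempty := by
    rw [← Finset.card_pos, Finset.card_erase_of_mem (Finset.mem_erase.mpr ⟨hba, hb⟩),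
      Finset.card_erase_of_mem ha, Q.card]
    norm_num
  rw [Finset.mem_erase, Finset.mem_erase] at hc
  obtain ⟨hcb, hca, hcH⟩ := hc
  obtain ⟨hd, hdc, -⟩ := Q.mate_spec hx hcH
  have i1 := Q.mem_ln_mate hx ha
  have i2 := Q.mem_ln_mate hx hcH
  have hab : a ≠ mate L H x a := Ne.symm hba
  have hcd : c ≠ mate L H x c := Ne.symm hdc
  -- the image lines
  have key : ∀ u v : α, u ∈ H → v ∈ H → u ≠ v →
      (ln L u v).image g = (ln L u v).image g' := by
    intro u v hu hv huv
    have h1 := hg _ (P.ln_mem huv)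
    have h2 := hg' _ (P.ln_mem huv)
    have hne : g u ≠ g v := fun h => huv (g.injective h)
    refine P.line_unique h1 h2 hne (Finset.mem_image_of_mem g (P.left_mem_ln huv))
      (Finset.mem_image_of_mem g (P.right_mem_ln huv)) ?_ ?_
    · rw [hgg' u hu]
      exact Finset.mem_image_of_mem g' (P.left_mem_ln huv)
    · rw [hgg' v hv]
      exact Finset.mem_image_of_mem g' (P.right_mem_ln huv)
  have hne : (ln L a (mate L H x a)).image g ≠ (ln L c (mate L H x c)).image g := by
    intro h
    have hcl : g c ∈ (ln L a (mate L H x a)).image g :=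
      h ▸ Finset.mem_image_of_mem g (P.left_mem_ln hcd)
    exact arc_no_three Q.arc (hg _ (P.ln_mem hab)) (hH a ha) (hH _ hb) (hH c hcH)
      (fun h => hab (g.injective h)) (fun h => hca (g.injective h).symm)
      (fun h => hcb (g.injective h).symm)
      (Finset.mem_image_of_mem g (P.left_mem_ln hab))
      (Finset.mem_image_of_mem g (P.right_mem_ln hab)) hcl
  refine P.eq_of_mem_mem (hg _ (P.ln_mem hab)) (hg _ (P.ln_mem hcd)) hne
    (Finset.mem_image_of_mem g i1) ?_ (Finset.mem_image_of_mem g i2) ?_
  · rw [key a _ ha hb hab]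
    exact Finset.mem_image_of_mem g' i1
  · rw [key c _ hcH hd hcd]
    exact Finset.mem_image_of_mem g' i2

open scoped Pointwise in
omit [Fintype α] [Fintype β] [DecidableEq β] in
/-- Membership in the automorphism group of a set system, in terms of images. -/
theorem aut_iff (g : Equiv.Perm α) :
    g ∈ Cfsg.setSystemAut L ↔ (fun b : Finset α => b.image g) '' L = L := by
  constructor
  · intro h
    have h1 : g • L = L := h
    rw [← Set.image_smul] at h1
    exact h1
  · intro h
    show g • L = L
    rw [← Set.image_smul]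
    exact h

omit [Fintype α] [Fintype β] [DecidableEq β] in
theorem aut_image {g : Equiv.Perm α} (hg : g ∈ Cfsg.setSystemAut L) {l : Finset α}
    (hl : l ∈ L) : l.image g ∈ L := by
  have h := (aut_iff g).mp hg
  have h1 : l.image g ∈ (fun b : Finset α => b.image g) '' L := ⟨l, hl, rfl⟩
  rw [h] at h1
  exact h1

end Cfsg.Agent.Lib.Helper93.P4
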