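import Cfsg.Agent.Lib.Helper93.DerM

set_option autoImplicit false

namespace Cfsg.Agent.Lib.Helper93.HSG

theorem four_mul_le (x : ℕ) : 4 * x ≤ x * x + 4 := by
  rcases Nat.lt_or_ge x 2 with h | h
  · interval_cases x <;> norm_num
  · obtain ⟨y, rfl⟩ := Nat.exists_eq_add_of_le h
    nlinarith [Nat.zero_le (y * y)]

theorem eq_two_of (x : ℕ) (h : 4 * x = x * x + 4) : x = 2 := by
  rcases Nat.lt_or_ge x 2 with h2 | h2
  · interval_cases x <;> omega
  · obtain ⟨y, rfl⟩ := Nat.exists_eq_add_of_le h2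
    have h0 : y * y = 0 := by nlinarith
    have h1 : y = 0 := by
      rcases Nat.eq_zero_or_pos y with h | h
      · exact h
      · have := Nat.mul_pos h h
        omega
    omega

variable {V : Type*} [Fintype V] [DecidableEq V] {G : SimpleGraph V} [DecidableRel G.Adj]

/-- The neighbours of a vertex, as a finset. -/
def nb (G : SimpleGraph V) [DecidableRel G.Adj] (v : V) : Finset V :=
  Finset.univ.filter (fun w => G.Adj v w)

omit [DecidableEq V] in
theorem mem_nb {v w : V} : w ∈ nb G v ↔ G.Adj v w := by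
  simp [nb]

/-- A strongly regular graph with parameters `(100, 22, 0, 6)`, in finset form. -/
structure Srg (G : SimpleGraph V) [DecidableRel G.Adj] : Prop where
  card : Fintype.card V = 100
  deg : ∀ v, (nb G v).card = 22
  adj : ∀ v w, G.Adj v w → nb G v ∩ nb G w = ∅
  nadj : ∀ v w, v ≠ w → ¬ G.Adj v w → (nb G v ∩ nb G w).card = 6

theorem Srg.of_isSRGWith (h : G.IsSRGWith 100 22 0 6) : Srg G := by
  have hcn : ∀ v w, Fintype.card (G.commonNeighbors v w) = (nb G v ∩ nb G w).card := by
    intro v w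
    rw [← Nat.card_eq_fintype_card, Nat.card_coe_set_eq]
    have : G.commonNeighbors v w = ↑(nb G v ∩ nb G w) := by
      ext x
      simp [SimpleGraph.commonNeighbors, mem_nb]
    rw [this, Set.ncard_coe_finset]
  refine ⟨h.card, fun v => ?_, fun v w hvw => ?_, fun v w hne hn => ?_⟩
  · have := h.regular v
    rw [← SimpleGraph.card_neighborFinset_eq_degree, SimpleGraph.neighborFinset_eq_filter] at this
    exact this
  · have := h.of_adj v w hvw
    rw [hcn] at this
    exact Finset.card_eq_zero.mp this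
  · have := h.of_not_adj hne hn
    rw [hcn] at this
    exact this

theorem Srg.tri (S : Srg G) {a b c : V} (hab : G.Adj a b) (hac : G.Adj a c) : ¬ G.Adj b c := by
  intro hbc
  have := S.adj b c hbc
  have ha : a ∈ nb G b ∩ nb G c := by
    rw [Finset.mem_inter, mem_nb, mem_nb]
    exact ⟨hab.symm, hac.symm⟩
  rw [this] at ha
  exact Finset.notMem_empty _ ha

/-- Two distinct non-adjacent vertices, both non-adjacent to and different from `v0`, have
exactly two common neighbours among the neighbours of `v0`. -/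
theorem Srg.two (S : Srg G) {v0 b b' : V} (hb0 : b ≠ v0) (hb : ¬ G.Adj v0 b) (hb'0 : b' ≠ v0)
    (hb' : ¬ G.Adj v0 b') (hne : b' ≠ b) (hnadj : ¬ G.Adj b b') :
    (nb G b ∩ nb G v0 ∩ nb G b').card = 2 := by
  have hQ6 : (nb G b ∩ nb G v0).card = 6 := S.nadj b v0 hb0 (fun h => hb h.symm)
  set M := Finset.univ.filter (fun c => c ≠ b ∧ c ≠ v0 ∧ ¬ G.Adj v0 c ∧ ¬ G.Adj b c) with hM
  have hM60 : M.card = 60 := by
    have hA1 : (insert b (nb G b)).card = 23 := by
      rw [Finset.card_insert_of_notMem (by rw [mem_nb]; exact G.irrefl), S.deg]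
    have hA2 : (insert v0 (nb G v0 \ nb G b)).card = 17 := by
      rw [Finset.card_insert_of_notMem (by
        rw [Finset.mem_sdiff, mem_nb]
        exact fun h => G.irrefl h.1), Finset.card_sdiff, S.deg, hQ6]
    have hMeq : M = (Finset.univ \ insert b (nb G b)) \ insert v0 (nb G v0 \ nb G b) := by
      ext c
      simp only [hM, Finset.mem_filter, Finset.mem_univ, true_and, Finset.mem_sdiff,
        Finset.mem_insert, mem_nb]
      tauto
    have hsub2 : insert v0 (nb G v0 \ nb G b) ⊆ Finset.univ \ insert b (nb G b) := by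
      intro x hx
      rw [Finset.mem_insert, Finset.mem_sdiff, mem_nb, mem_nb] at hx
      rw [Finset.mem_sdiff, Finset.mem_insert, mem_nb]
      refine ⟨Finset.mem_univ _, ?_⟩
      rcases hx with rfl | ⟨h1, h2⟩
      · rintro (h | h)
        · exact hb0 h.symm
        · exact hb h.symm
      · rintro (h | h)
        · exact hb (h ▸ h1)
        · exact h2 h
    rw [hMeq, Finset.card_sdiff_of_subset hsub2,
      Finset.card_sdiff_of_subset (Finset.subset_univ _), Finset.card_univ, S.card, hA1, hA2]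
  have hsum1 : ∑ c ∈ M, (nb G b ∩ nb G v0 ∩ nb G c).card = 120 := by
    have key := Finset.sum_card_bipartiteAbove_eq_sum_card_bipartiteBelow (s := M)
      (t := nb G b ∩ nb G v0) (r := fun c p => G.Adj c p)
    have e1 : ∀ c ∈ M, ((nb G b ∩ nb G v0).bipartiteAbove (fun c p => G.Adj c p) c) =
        nb G b ∩ nb G v0 ∩ nb G c := by
      intro c _
      ext p
      simp only [Finset.mem_bipartiteAbove, Finset.mem_inter, mem_nb]
    have e2 : ∀ p ∈ nb G b ∩ nb G v0, (M.bipartiteBelow (fun c p => G.Adj c p) p).card = 20 := by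
      intro p hp
      rw [Finset.mem_inter, mem_nb, mem_nb] at hp
      have : M.bipartiteBelow (fun c p => G.Adj c p) p = ((nb G p).erase v0).erase b := by
        ext c
        simp only [Finset.mem_bipartiteBelow, hM, Finset.mem_filter, Finset.mem_univ, true_and,
          Finset.mem_erase, mem_nb]
        constructor
        · rintro ⟨⟨h1, h2, -, -⟩, h5⟩
          exact ⟨h1, h2, h5.symm⟩
        · rintro ⟨h1, h2, h5⟩
          exact ⟨⟨h1, h2, S.tri hp.2.symm h5, S.tri hp.1.symm h5⟩, h5.symm⟩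
      rw [this, Finset.card_erase_of_mem, Finset.card_erase_of_mem, S.deg]
      · rw [mem_nb]
        exact hp.2.symm
      · rw [Finset.mem_erase, mem_nb]
        exact ⟨hb0, hp.1.symm⟩
    rw [Finset.sum_congr rfl (fun c hc => by rw [← e1 c hc]), key, Finset.sum_congr rfl e2,
      Finset.sum_const, hQ6]
    rfl
  have hsum2 : ∑ c ∈ M, ((nb G b ∩ nb G v0 ∩ nb G c).offDiag).card = 120 := by
    have key := Finset.sum_card_bipartiteAbove_eq_sum_card_bipartiteBelow (s := M)
      (t := (nb G b ∩ nb G v0).offDiag)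
      (r := fun c (pp : V × V) => G.Adj c pp.1 ∧ G.Adj c pp.2)
    have e1 : ∀ c ∈ M, ((nb G b ∩ nb G v0).offDiag.bipartiteAbove
        (fun c (pp : V × V) => G.Adj c pp.1 ∧ G.Adj c pp.2) c) =
        (nb G b ∩ nb G v0 ∩ nb G c).offDiag := by
      intro c _
      ext ⟨p1, p2⟩
      simp only [Finset.mem_bipartiteAbove, Finset.mem_offDiag, Finset.mem_inter, mem_nb]
      tauto
    have e2 : ∀ pp ∈ (nb G b ∩ nb G v0).offDiag, (M.bipartiteBelow
        (fun c (pp : V × V) => G.Adj c pp.1 ∧ G.Adj c pp.2) pp).card = 4 := by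
      rintro ⟨p1, p2⟩ hpp
      rw [Finset.mem_offDiag, Finset.mem_inter, Finset.mem_inter, mem_nb, mem_nb, mem_nb,
        mem_nb] at hpp
      obtain ⟨⟨h1b, h1v⟩, ⟨h2b, h2v⟩, h12⟩ := hpp
      have hn12 : ¬ G.Adj p1 p2 := S.tri h1v h2v
      have h6 := S.nadj p1 p2 h12 hn12
      have : M.bipartiteBelow (fun c (pp : V × V) => G.Adj c pp.1 ∧ G.Adj c pp.2) (p1, p2) =
          ((nb G p1 ∩ nb G p2).erase v0).erase b := by
        ext c
        simp only [Finset.mem_bipartiteBelow, hM, Finset.mem_filter, Finset.mem_univ, true_and,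
          Finset.mem_erase, Finset.mem_inter, mem_nb]
        constructor
        · rintro ⟨⟨h1, h2, -, -⟩, h5, h6⟩
          exact ⟨h1, h2, h5.symm, h6.symm⟩
        · rintro ⟨h1, h2, h5, h6⟩
          exact ⟨⟨h1, h2, S.tri h1v.symm h5, S.tri h1b.symm h5⟩, h5.symm, h6.symm⟩
      rw [this, Finset.card_erase_of_mem, Finset.card_erase_of_mem, h6]
      · rw [Finset.mem_inter, mem_nb, mem_nb]
        exact ⟨h1v.symm, h2v.symm⟩
      · rw [Finset.mem_erase, Finset.mem_inter, mem_nb, mem_nb]
        exact ⟨hb0, h1b.symm, h2b.symm⟩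
    rw [Finset.sum_congr rfl (fun c hc => by rw [← e1 c hc]), key, Finset.sum_congr rfl e2,
      Finset.sum_const, Finset.offDiag_card, hQ6]
    rfl
  have hx : ∀ c ∈ M, (nb G b ∩ nb G v0 ∩ nb G c).card = 2 := by
    have hle : ∀ c ∈ M, 4 * (nb G b ∩ nb G v0 ∩ nb G c).card ≤
        (nb G b ∩ nb G v0 ∩ nb G c).card * (nb G b ∩ nb G v0 ∩ nb G c).card + 4 :=
      fun c _ => four_mul_le _
    have hsq : ∑ c ∈ M, (nb G b ∩ nb G v0 ∩ nb G c).card *
        (nb G b ∩ nb G v0 ∩ nb G c).card = 240 := by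
      have : ∀ c ∈ M, (nb G b ∩ nb G v0 ∩ nb G c).card * (nb G b ∩ nb G v0 ∩ nb G c).card =
          (nb G b ∩ nb G v0 ∩ nb G c).offDiag.card + (nb G b ∩ nb G v0 ∩ nb G c).card := by
        intro c _
        rw [Finset.offDiag_card]
        exact (Nat.sub_add_cancel (Nat.le_mul_self _)).symm
      rw [Finset.sum_congr rfl this, Finset.sum_add_distrib, hsum2, hsum1]
    have hsumeq : ∑ c ∈ M, 4 * (nb G b ∩ nb G v0 ∩ nb G c).card =
        ∑ c ∈ M, ((nb G b ∩ nb G v0 ∩ nb G c).card * (nb G b ∩ nb G v0 ∩ nb G c).card + 4) := by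
      rw [← Finset.mul_sum, hsum1, Finset.sum_add_distrib, Finset.sum_const, hM60, hsq]
      rfl
    intro c hc
    exact eq_two_of _ ((Finset.sum_eq_sum_iff_of_le hle).mp hsumeq c hc)
  have hcM : b' ∈ M := by
    rw [hM, Finset.mem_filter]
    exact ⟨Finset.mem_univ _, hne, hb'0, hb', hnadj⟩
  exact hx b' hcM

end Cfsg.Agent.Lib.Helper93.HSG
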