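import Cfsg.Agent.Lib.Helper93.SRGa

set_option autoImplicit false

namespace Cfsg.Agent.Lib.Helper93.HSG

variable {V : Type*} [Fintype V] [DecidableEq V] {G : SimpleGraph V} [DecidableRel G.Adj]

/-- The neighbours of `v0`, as a type. -/
abbrev Pts (G : SimpleGraph V) (v0 : V) : Type _ := {p : V // G.Adj v0 p}

/-- The neighbours of `b` among the neighbours of `v0`. -/
def blk (G : SimpleGraph V) [DecidableRel G.Adj] (v0 b : V) : Finset (Pts G v0) :=
  Finset.univ.filter (fun p => G.Adj b p.1)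

omit [DecidableEq V] in
theorem mem_blk {v0 b : V} {p : Pts G v0} : p ∈ blk G v0 b ↔ G.Adj b p.1 := by
  simp [blk]

/-- The local design at `v0`: its blocks are the sets of common neighbours of `v0` and a vertex
neither equal nor adjacent to `v0`. -/
def design (G : SimpleGraph V) [DecidableRel G.Adj] (v0 : V) : Set (Finset (Pts G v0)) :=
  {s | ∃ b, b ≠ v0 ∧ ¬ G.Adj v0 b ∧ s = blk G v0 b}

theorem card_sub (v0 : V) (T : Finset V) :
    (Finset.univ.filter (fun p : Pts G v0 => p.1 ∈ T)).card = (T ∩ nb G v0).card := by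
  rw [← Finset.card_map (Function.Embedding.subtype _)]
  congr 1
  ext x
  simp only [Finset.mem_map, Finset.mem_filter, Finset.mem_univ, true_and,
    Function.Embedding.coe_subtype, Finset.mem_inter, mem_nb]
  constructor
  · rintro ⟨p, hp, rfl⟩
    exact ⟨hp, p.2⟩
  · rintro ⟨h1, h2⟩
    exact ⟨⟨x, h2⟩, h1, rfl⟩

theorem card_blk_inter (v0 b b' : V) :
    (blk G v0 b ∩ blk G v0 b').card = (nb G b ∩ nb G v0 ∩ nb G b').card := by
  have : blk G v0 b ∩ blk G v0 b' =
      Finset.univ.filter (fun p : Pts G v0 => p.1 ∈ nb G b ∩ nb G b') := by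
    ext p
    simp [mem_blk, mem_nb]
  rw [this, card_sub]
  congr 1
  ext x
  simp only [Finset.mem_inter]
  tauto

omit [DecidableEq V] in
theorem Srg.card_pts [DecidableEq V] (S : Srg G) (v0 : V) : Fintype.card (Pts G v0) = 22 := by
  rw [Fintype.card_subtype]
  exact S.deg v0

theorem Srg.card_blk (S : Srg G) {v0 b : V} (hb0 : b ≠ v0) (hb : ¬ G.Adj v0 b) :
    (blk G v0 b).card = 6 := by
  have := card_blk_inter (G := G) v0 b b
  rw [Finset.inter_self] at this
  rw [this]
  have e : nb G b ∩ nb G v0 ∩ nb G b = nb G b ∩ nb G v0 := by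
    ext x
    simp only [Finset.mem_inter]
    tauto
  rw [e]
  exact S.nadj b v0 hb0 (fun h => hb h.symm)

theorem Srg.blk_adj (S : Srg G) {v0 b b' : V} (h : G.Adj b b') :
    blk G v0 b ∩ blk G v0 b' = ∅ := by
  rw [← Finset.card_eq_zero, card_blk_inter]
  have e : nb G b ∩ nb G v0 ∩ nb G b' ⊆ nb G b ∩ nb G b' := by
    intro x
    simp only [Finset.mem_inter]
    tauto
  rw [S.adj b b' h] at e
  rw [Finset.card_eq_zero]
  exact Finset.subset_empty.mp e

theorem Srg.blk_nadj (S : Srg G) {v0 b b' : V} (hb0 : b ≠ v0) (hb : ¬ G.Adj v0 b)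
    (hb'0 : b' ≠ v0) (hb' : ¬ G.Adj v0 b') (hne : b' ≠ b) (hnadj : ¬ G.Adj b b') :
    (blk G v0 b ∩ blk G v0 b').card = 2 := by
  rw [card_blk_inter]
  exact S.two hb0 hb hb'0 hb' hne hnadj

/-- Block vertices are determined by their blocks. -/
theorem Srg.blk_inj (S : Srg G) {v0 b b' : V} (hb0 : b ≠ v0) (hb : ¬ G.Adj v0 b)
    (hb'0 : b' ≠ v0) (hb' : ¬ G.Adj v0 b') (h : blk G v0 b = blk G v0 b') : b = b' := by
  by_contra hne
  have h6 := S.card_blk hb0 hb
  by_cases hadj : G.Adj b b'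
  · have := S.blk_adj (v0 := v0) hadj
    rw [← h, Finset.inter_self] at this
    rw [this] at h6
    simp at h6
  · have := S.blk_nadj hb0 hb hb'0 hb' (Ne.symm hne) hadj
    rw [← h, Finset.inter_self, h6] at this
    omega

/-- The local design of a strongly regular graph with parameters `(100, 22, 0, 6)` is a Steiner
system `S(3, 6, 22)`. -/
theorem Srg.local_steiner (S : Srg G) (v0 : V) : Cfsg.IsSteinerSystem 3 6 (design G v0) := by
  refine ⟨?_, ?_⟩
  · rintro s ⟨b, hb0, hb, rfl⟩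
    exact S.card_blk hb0 hb
  · intro s hs
    obtain ⟨p1, p2, p3, h12, h13, h23, rfl⟩ := Finset.card_eq_three.mp hs
    have hv12 : p1.1 ≠ p2.1 := fun h => h12 (Subtype.ext h)
    have hv13 : p1.1 ≠ p3.1 := fun h => h13 (Subtype.ext h)
    have hv23 : p2.1 ≠ p3.1 := fun h => h23 (Subtype.ext h)
    have hn12 : ¬ G.Adj p1.1 p2.1 := S.tri p1.2 p2.2
    have h6 := S.nadj p1.1 p2.1 hv12 hn12
    have hv0C : v0 ∈ nb G p1.1 ∩ nb G p2.1 := by
      rw [Finset.mem_inter, mem_nb, mem_nb]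
      exact ⟨p1.2.symm, p2.2.symm⟩
    have hC5 : ((nb G p1.1 ∩ nb G p2.1).erase v0).card = 5 := by
      rw [Finset.card_erase_of_mem hv0C, h6]
    have hCmem : ∀ c ∈ (nb G p1.1 ∩ nb G p2.1).erase v0,
        c ≠ v0 ∧ G.Adj p1.1 c ∧ G.Adj p2.1 c ∧ ¬ G.Adj v0 c := by
      intro c hc
      rw [Finset.mem_erase, Finset.mem_inter, mem_nb, mem_nb] at hc
      exact ⟨hc.1, hc.2.1, hc.2.2, S.tri p1.2.symm hc.2.1⟩
    have hCC : ∀ c ∈ (nb G p1.1 ∩ nb G p2.1).erase v0,
        ∀ c' ∈ (nb G p1.1 ∩ nb G p2.1).erase v0, c ≠ c' →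
        (nb G c ∩ nb G v0 ∩ nb G c').card = 2 := by
      intro c hc c' hc' hne
      obtain ⟨h0, h1, h2, h3⟩ := hCmem c hc
      obtain ⟨h0', h1', h2', h3'⟩ := hCmem c' hc'
      exact S.two h0 h3 h0' h3' (Ne.symm hne) (S.tri h1 h1')
    have hR4 : ∀ c ∈ (nb G p1.1 ∩ nb G p2.1).erase v0,
        (((nb G c ∩ nb G v0).erase p1.1).erase p2.1).card = 4 := by
      intro c hc
      obtain ⟨h0, h1, h2, h3⟩ := hCmem c hc
      rw [Finset.card_erase_of_mem, Finset.card_erase_of_mem,
        S.nadj c v0 h0 (fun h => h3 h.symm)]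
      · rw [Finset.mem_inter, mem_nb, mem_nb]
        exact ⟨h1.symm, p1.2⟩
      · rw [Finset.mem_erase, Finset.mem_inter, mem_nb, mem_nb]
        exact ⟨hv12.symm, h2.symm, p2.2⟩
    have hdisj : ∀ c ∈ (nb G p1.1 ∩ nb G p2.1).erase v0,
        ∀ c' ∈ (nb G p1.1 ∩ nb G p2.1).erase v0, c ≠ c' →
        Disjoint (((nb G c ∩ nb G v0).erase p1.1).erase p2.1)
          (((nb G c' ∩ nb G v0).erase p1.1).erase p2.1) := by
      intro c hc c' hc' hne
      rw [Finset.disjoint_left]
      intro x hx hx'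
      have h2c := hCC c hc c' hc' hne
      obtain ⟨h0, h1, h2, h3⟩ := hCmem c hc
      obtain ⟨h0', h1', h2', h3'⟩ := hCmem c' hc'
      rw [Finset.mem_erase, Finset.mem_erase, Finset.mem_inter, mem_nb, mem_nb] at hx hx'
      have hsub : ({p1.1, p2.1, x} : Finset V) ⊆ nb G c ∩ nb G v0 ∩ nb G c' := by
        intro y hy
        rw [Finset.mem_insert, Finset.mem_insert, Finset.mem_singleton] at hy
        rw [Finset.mem_inter, Finset.mem_inter, mem_nb, mem_nb, mem_nb]
        rcases hy with rfl | rfl | rfl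
        · exact ⟨⟨h1.symm, p1.2⟩, h1'.symm⟩
        · exact ⟨⟨h2.symm, p2.2⟩, h2'.symm⟩
        · exact ⟨hx.2.2, hx'.2.2.1⟩
      have h3c : ({p1.1, p2.1, x} : Finset V).card = 3 :=
        Finset.card_eq_three.mpr ⟨_, _, _, hv12, fun h => hx.2.1 h.symm,
          fun h => hx.1 h.symm, rfl⟩
      have := Finset.card_le_card hsub
      omega
    have hU : ((nb G p1.1 ∩ nb G p2.1).erase v0).biUnion
        (fun c => ((nb G c ∩ nb G v0).erase p1.1).erase p2.1) =
        ((nb G v0).erase p1.1).erase p2.1 := by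
      apply Finset.eq_of_subset_of_card_le
      · intro x hx
        rw [Finset.mem_biUnion] at hx
        obtain ⟨c, -, hx⟩ := hx
        rw [Finset.mem_erase, Finset.mem_erase, Finset.mem_inter] at hx
        rw [Finset.mem_erase, Finset.mem_erase]
        exact ⟨hx.1, hx.2.1, hx.2.2.2⟩
      · rw [Finset.card_biUnion (fun c hc c' hc' hne => hdisj c hc c' hc' hne),
          Finset.sum_congr rfl hR4, Finset.sum_const, hC5, Finset.card_erase_of_mem,
          Finset.card_erase_of_mem, S.deg]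
        · norm_num
        · rw [mem_nb]
          exact p1.2
        · rw [Finset.mem_erase, mem_nb]
          exact ⟨hv12.symm, p2.2⟩
    have hp3 : p3.1 ∈ ((nb G v0).erase p1.1).erase p2.1 := by
      rw [Finset.mem_erase, Finset.mem_erase, mem_nb]
      exact ⟨hv23.symm, hv13.symm, p3.2⟩
    rw [← hU, Finset.mem_biUnion] at hp3
    obtain ⟨b, hbC, hb3⟩ := hp3
    obtain ⟨h0, h1, h2, h3⟩ := hCmem b hbC
    have hb3' : G.Adj b p3.1 := by
      have := Finset.mem_of_mem_erase (Finset.mem_of_mem_erase hb3)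
      rw [Finset.mem_inter, mem_nb] at this
      exact this.1
    refine ⟨blk G v0 b, ⟨⟨b, h0, h3, rfl⟩, ?_⟩, ?_⟩
    · intro p hp
      rw [Finset.mem_insert, Finset.mem_insert, Finset.mem_singleton] at hp
      rw [mem_blk]
      rcases hp with rfl | rfl | rfl
      · exact h1.symm
      · exact h2.symm
      · exact hb3'
    · rintro t ⟨⟨b'', hb''0, hb'', rfl⟩, hsub⟩
      have a1 : G.Adj b'' p1.1 := mem_blk.mp (hsub (by simp))
      have a2 : G.Adj b'' p2.1 := mem_blk.mp (hsub (by simp))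
      have a3 : G.Adj b'' p3.1 := mem_blk.mp (hsub (by simp))
      by_cases hbb : b'' = b
      · rw [hbb]
      · exfalso
        have h2c := S.two h0 h3 hb''0 hb'' hbb (S.tri h1 a1.symm)
        have hsub3 : ({p1.1, p2.1, p3.1} : Finset V) ⊆ nb G b ∩ nb G v0 ∩ nb G b'' := by
          intro x hx
          rw [Finset.mem_insert, Finset.mem_insert, Finset.mem_singleton] at hx
          rw [Finset.mem_inter, Finset.mem_inter, mem_nb, mem_nb, mem_nb]
          rcases hx with rfl | rfl | rfl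
          · exact ⟨⟨h1.symm, p1.2⟩, a1⟩
          · exact ⟨⟨h2.symm, p2.2⟩, a2⟩
          · exact ⟨⟨hb3', p3.2⟩, a3⟩
        have h3c : ({p1.1, p2.1, p3.1} : Finset V).card = 3 :=
          Finset.card_eq_three.mpr ⟨_, _, _, hv12, hv13, hv23, rfl⟩
        have := Finset.card_le_card hsub3
        omega

end Cfsg.Agent.Lib.Helper93.HSG
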