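import Cfsg.Agent.Lib.Helper93.SRGb

set_option autoImplicit false

namespace Cfsg.Agent.Lib.Helper93.HSG

open Cfsg.Agent.Lib.Helper93.P4

variable {V : Type*} [Fintype V] [DecidableEq V] {G : SimpleGraph V} [DecidableRel G.Adj]
  {W : Type*} [Fintype W] [DecidableEq W] {H : SimpleGraph W} [DecidableRel H.Adj]

/-- The graph of the extension of an isomorphism of local designs. -/
def Rel (G : SimpleGraph V) [DecidableRel G.Adj] (H : SimpleGraph W) [DecidableRel H.Adj]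
    (v0 : V) (w0 : W) (e : Pts G v0 ≃ Pts H w0) (v : V) (w : W) : Prop :=
  (v = v0 ∧ w = w0) ∨ (∃ hv : G.Adj v0 v, w = (e ⟨v, hv⟩).1) ∨
    (v ≠ v0 ∧ ¬ G.Adj v0 v ∧ w ≠ w0 ∧ ¬ H.Adj w0 w ∧ blk H w0 w = (blk G v0 v).image e)

theorem Rel.symm {v0 : V} {w0 : W} {e : Pts G v0 ≃ Pts H w0} {v : V} {w : W}
    (h : Rel G H v0 w0 e v w) : Rel H G w0 v0 e.symm w v := by
  rcases h with ⟨rfl, rfl⟩ | ⟨hv, rfl⟩ | ⟨h1, h2, h3, h4, h5⟩
  · exact Or.inl ⟨rfl, rfl⟩
  · refine Or.inr (Or.inl ⟨(e ⟨v, hv⟩).2, ?_⟩)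
    rw [Subtype.coe_eta, Equiv.symm_apply_apply]
  · refine Or.inr (Or.inr ⟨h3, h4, h1, h2, ?_⟩)
    rw [h5, Finset.image_image]
    have : (⇑e.symm ∘ ⇑e) = id := by
      funext x
      simp
    rw [this, Finset.image_id]

theorem Rel.total {v0 : V} {w0 : W} {e : Pts G v0 ≃ Pts H w0}
    (he : (fun s : Finset (Pts G v0) => s.image e) '' design G v0 = design H w0) (v : V) :
    ∃ w, Rel G H v0 w0 e v w := by
  by_cases h0 : v = v0
  · exact ⟨w0, Or.inl ⟨h0, rfl⟩⟩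
  · by_cases h1 : G.Adj v0 v
    · exact ⟨_, Or.inr (Or.inl ⟨h1, rfl⟩)⟩
    · have hm : (blk G v0 v).image e ∈ design H w0 := by
        rw [← he]
        exact ⟨_, ⟨v, h0, h1, rfl⟩, rfl⟩
      obtain ⟨w, hw0, hw, hwe⟩ := hm
      exact ⟨w, Or.inr (Or.inr ⟨h0, h1, hw0, hw, hwe.symm⟩)⟩

omit [DecidableEq V] in
theorem Rel.unique (S' : Srg H) {v0 : V} {w0 : W} {e : Pts G v0 ≃ Pts H w0} {v : V} {w w' : W}
    (h : Rel G H v0 w0 e v w) (h' : Rel G H v0 w0 e v w') : w = w' := by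
  rcases h with ⟨rfl, rfl⟩ | ⟨hv, rfl⟩ | ⟨h1, h2, h3, h4, h5⟩
  · rcases h' with ⟨-, rfl⟩ | ⟨hv, -⟩ | ⟨h1, -⟩
    · rfl
    · exact absurd hv G.irrefl
    · exact absurd rfl h1
  · rcases h' with ⟨rfl, -⟩ | ⟨hv', rfl⟩ | ⟨-, h2, -⟩
    · exact absurd hv G.irrefl
    · rfl
    · exact absurd hv h2
  · rcases h' with ⟨rfl, -⟩ | ⟨hv', -⟩ | ⟨-, -, h3', h4', h5'⟩
    · exact absurd rfl h1
    · exact absurd hv' h2
    · exact S'.blk_inj h3 h4 h3' h4' (h5.trans h5'.symm)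

theorem Rel.adj (S : Srg G) (S' : Srg H) {v0 : V} {w0 : W} {e : Pts G v0 ≃ Pts H w0}
    {v v' : V} {w w' : W} (h : Rel G H v0 w0 e v w) (h' : Rel G H v0 w0 e v' w')
    (hadj : G.Adj v v') : H.Adj w w' := by
  rcases h with ⟨rfl, rfl⟩ | ⟨hv, rfl⟩ | ⟨h1, h2, h3, h4, h5⟩
  · rcases h' with ⟨rfl, -⟩ | ⟨hv', rfl⟩ | ⟨-, h2, -⟩
    · exact absurd hadj G.irrefl
    · exact (e ⟨v', hv'⟩).2
    · exact absurd hadj h2
  · rcases h' with ⟨rfl, rfl⟩ | ⟨hv', rfl⟩ | ⟨h1', h2', h3', h4', h5'⟩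
    · exact (e ⟨v, hv⟩).2.symm
    · exact absurd hadj (S.tri hv hv')
    · have hm : (⟨v, hv⟩ : Pts G v0) ∈ blk G v0 v' := mem_blk.mpr hadj.symm
      have hm' : e ⟨v, hv⟩ ∈ blk H w0 w' := by
        rw [h5']
        exact Finset.mem_image_of_mem _ hm
      exact (mem_blk.mp hm').symm
  · rcases h' with ⟨rfl, -⟩ | ⟨hv', rfl⟩ | ⟨h1', h2', h3', h4', h5'⟩
    · exact absurd hadj.symm h2
    · have hm : (⟨v', hv'⟩ : Pts G v0) ∈ blk G v0 v := mem_blk.mpr hadj
      have hm' : e ⟨v', hv'⟩ ∈ blk H w0 w := by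
        rw [h5]
        exact Finset.mem_image_of_mem _ hm
      exact mem_blk.mp hm'
    · have hdis : blk H w0 w ∩ blk H w0 w' = ∅ := by
        rw [h5, h5', ← Finset.image_inter _ _ e.injective, S.blk_adj hadj, Finset.image_empty]
      have h6 := S'.card_blk h3 h4
      have hne : w' ≠ w := by
        rintro rfl
        rw [Finset.inter_self] at hdis
        rw [hdis] at h6
        simp at h6
      by_contra hnadj
      have := S'.blk_nadj h3 h4 h3' h4' hne hnadj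
      rw [hdis] at this
      simp at this

/-- An isomorphism of the local designs at `v0` and `w0` extends to a graph isomorphism. -/
theorem Srg.extend (S : Srg G) (S' : Srg H) (v0 : V) (w0 : W) (e : Pts G v0 ≃ Pts H w0)
    (he : (fun s : Finset (Pts G v0) => s.image e) '' design G v0 = design H w0) :
    ∃ φ : G ≃g H, φ v0 = w0 ∧ ∀ p : Pts G v0, φ p.1 = (e p).1 := by
  have he' : (fun s : Finset (Pts H w0) => s.image e.symm) '' design H w0 = design G v0 :=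
    Cfsg.Agent.Lib.Helper93.AutTr.image_symm_eq e he
  choose f hf using fun v => Rel.total (G := G) (H := H) he v
  choose g hg using fun w => Rel.total (G := H) (H := G) he' w
  have hfg : ∀ w, f (g w) = w := fun w => Rel.unique S' (hf (g w)) (hg w).symm
  have hgf : ∀ v, g (f v) = v := fun v => by
    have h1 : Rel H G w0 v0 e.symm (f v) (g (f v)) := hg (f v)
    have h2 : Rel H G w0 v0 e.symm (f v) v := (hf v).symm
    exact Rel.unique S h1 h2
  refine ⟨⟨⟨f, g, hgf, hfg⟩, ?_⟩, ?_, ?_⟩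
  · intro a b
    constructor
    · intro h
      have h1 : Rel H G w0 v0 e.symm (f a) a := (hf a).symm
      have h2 : Rel H G w0 v0 e.symm (f b) b := (hf b).symm
      exact Rel.adj S' S h1 h2 h
    · intro h
      exact Rel.adj S S' (hf a) (hf b) h
  · exact Rel.unique S' (hf v0) (Or.inl ⟨rfl, rfl⟩)
  · intro p
    exact Rel.unique S' (hf p.1) (Or.inr (Or.inl ⟨p.2, rfl⟩))

omit [Fintype V] in
/-- A graph isomorphism is determined by its values at `v0` and on the neighbours of `v0`. -/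
theorem Srg.ext_unique (S' : Srg H) {v0 : V} {φ φ' : G ≃g H} (h0 : φ v0 = φ' v0)
    (hp : ∀ p : V, G.Adj v0 p → φ p = φ' p) : φ = φ' := by
  apply RelIso.ext
  intro v
  by_cases hv0 : v = v0
  · rw [hv0]
    exact h0
  · by_cases hv : G.Adj v0 v
    · exact hp v hv
    · have hn : ∀ ψ : G ≃g H, ψ v ≠ ψ v0 ∧ ¬ H.Adj (ψ v0) (ψ v) := fun ψ =>
        ⟨fun h => hv0 (ψ.injective h), fun h => hv (ψ.map_rel_iff.mp h)⟩
      have hblk : blk H (φ v0) (φ v) = blk H (φ v0) (φ' v) := by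
        ext q
        rw [mem_blk, mem_blk]
        obtain ⟨p, hpq⟩ := φ.surjective q.1
        have hadj : G.Adj v0 p := by
          have := q.2
          rw [← hpq] at this
          exact φ.map_rel_iff.mp this
        rw [← hpq, φ.map_rel_iff, hp p hadj, φ'.map_rel_iff]
      have h2 := hn φ'
      rw [← h0] at h2
      exact S'.blk_inj (hn φ).1 (hn φ).2 h2.1 h2.2 hblk

end Cfsg.Agent.Lib.Helper93.HSG
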