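import Mathlib
import Cfsg.Prelude.Def_Sporadic_a
import Cfsg.Agent.Lib.Helper93.Steiner24

set_option autoImplicit false

namespace Cfsg.Agent.Lib.Helper93

open Finset

variable {α : Type*} [DecidableEq α]

theorem inter_card_ne_of_count_zero {B : Set (Finset α)} (Bf : Finset (Finset α))
    (hBf : ∀ b, b ∈ Bf ↔ b ∈ B) {b c : Finset α} (hc : c ∈ B) (i : ℕ)
    (h0 : (Bf.filter (fun c => (c ∩ b).card = i)).card = 0) : (c ∩ b).card ≠ i := by
  intro hi
  have h : c ∈ Bf.filter (fun c => (c ∩ b).card = i) := by simp [hBf, hc, hi]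
  rw [Finset.card_eq_zero] at h0
  rw [h0] at h
  simp at h

theorem inter_card_ne_of_count_one {B : Set (Finset α)} (Bf : Finset (Finset α))
    (hBf : ∀ b, b ∈ Bf ↔ b ∈ B) {b c : Finset α} (hb : b ∈ B) (hc : c ∈ B) (hne : c ≠ b)
    (h1 : (Bf.filter (fun c => (c ∩ b).card = b.card)).card = 1) : (c ∩ b).card ≠ b.card := by
  intro hi
  have h : c ∈ Bf.filter (fun c => (c ∩ b).card = b.card) := by simp [hBf, hc, hi]
  have hb' : b ∈ Bf.filter (fun c => (c ∩ b).card = b.card) := by simp [hBf, hb]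
  rw [Finset.card_eq_one] at h1
  obtain ⟨x, hx⟩ := h1
  rw [hx] at h hb'
  simp only [Finset.mem_singleton] at h hb'
  exact hne (h.trans hb'.symm)

theorem arith23 (n : ℕ → ℕ) (h7 : 1 ≤ n 7)
    (e0 : ∑ i ∈ range (7 + 1), n i * i.choose 0 = (7).choose 0 * 253)
    (e1 : ∑ i ∈ range (7 + 1), n i * i.choose 1 = (7).choose 1 * 77)
    (e2 : ∑ i ∈ range (7 + 1), n i * i.choose 2 = (7).choose 2 * 21)
    (e3 : ∑ i ∈ range (7 + 1), n i * i.choose 3 = (7).choose 3 * 5)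
    (e4 : ∑ i ∈ range (7 + 1), n i * i.choose 4 = (7).choose 4 * 1) :
    n 0 = 0 ∧ n 1 = 112 ∧ n 2 = 0 ∧ n 3 = 140 ∧ n 4 = 0 ∧ n 5 = 0 ∧ n 6 = 0 ∧ n 7 = 1 := by
  simp only [Finset.sum_range_succ, Finset.sum_range_zero] at e0 e1 e2 e3 e4
  generalize n 0 = n0 at *
  generalize n 1 = n1 at *
  generalize n 2 = n2 at *
  generalize n 3 = n3 at *
  generalize n 4 = n4 at *
  generalize n 5 = n5 at *
  generalize n 6 = n6 at *
  generalize n 7 = n7 at *
  norm_num [Nat.choose] at e0 e1 e2 e3 e4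
  have h5 : n7 = 1 ∧ n4 = 0 ∧ n5 = 0 ∧ n6 = 0 := by clear e0 e1 e2 e3; omega
  obtain ⟨rfl, rfl, rfl, rfl⟩ := h5
  have h3 : n3 = 140 := by clear e0 e1 e2; omega
  subst h3
  have h2 : n2 = 0 := by clear e0 e1; omega
  subst h2
  have h1 : n1 = 112 := by clear e0; omega
  subst h1
  omega

theorem arith22 (n : ℕ → ℕ) (h6 : 1 ≤ n 6)
    (e0 : ∑ i ∈ range (6 + 1), n i * i.choose 0 = (6).choose 0 * 77)
    (e1 : ∑ i ∈ range (6 + 1), n i * i.choose 1 = (6).choose 1 * 21)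
    (e2 : ∑ i ∈ range (6 + 1), n i * i.choose 2 = (6).choose 2 * 5)
    (e3 : ∑ i ∈ range (6 + 1), n i * i.choose 3 = (6).choose 3 * 1) :
    n 0 = 16 ∧ n 1 = 0 ∧ n 2 = 60 ∧ n 3 = 0 ∧ n 4 = 0 ∧ n 5 = 0 ∧ n 6 = 1 := by
  simp only [Finset.sum_range_succ, Finset.sum_range_zero] at e0 e1 e2 e3
  generalize n 0 = n0 at *
  generalize n 1 = n1 at *
  generalize n 2 = n2 at *
  generalize n 3 = n3 at *
  generalize n 4 = n4 at *
  generalize n 5 = n5 at *
  generalize n 6 = n6 at *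
  norm_num [Nat.choose] at e0 e1 e2 e3
  have h5 : n6 = 1 ∧ n3 = 0 ∧ n4 = 0 ∧ n5 = 0 := by clear e0 e1 e2; omega
  obtain ⟨rfl, rfl, rfl, rfl⟩ := h5
  have h2 : n2 = 60 := by clear e0 e1; omega
  subst h2
  have h1 : n1 = 0 := by clear e0; omega
  subst h1
  omega

/-- Intersection numbers of a block of `S(4,7,23)` with all blocks. -/
theorem s4723_counts [Fintype α] (hα : Fintype.card α = 23) {B : Set (Finset α)}
    (hB : Cfsg.IsSteinerSystem 4 7 B) (Bf : Finset (Finset α)) (hBf : ∀ b, b ∈ Bf ↔ b ∈ B)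
    {b : Finset α} (hb : b ∈ B) :
    (Bf.filter (fun c => (c ∩ b).card = 0)).card = 0 ∧
    (Bf.filter (fun c => (c ∩ b).card = 1)).card = 112 ∧
    (Bf.filter (fun c => (c ∩ b).card = 2)).card = 0 ∧
    (Bf.filter (fun c => (c ∩ b).card = 3)).card = 140 ∧
    (Bf.filter (fun c => (c ∩ b).card = 4)).card = 0 ∧
    (Bf.filter (fun c => (c ∩ b).card = 5)).card = 0 ∧
    (Bf.filter (fun c => (c ∩ b).card = 6)).card = 0 ∧
    (Bf.filter (fun c => (c ∩ b).card = 7)).card = 1 := by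
  have hb7 : b.card = 7 := hB.1 b hb
  have e0 := steiner_eqs hB Bf hBf b 0 (by omega) 253 (by rw [hα]; norm_num [Nat.choose])
    (by norm_num [Nat.choose])
  have e1 := steiner_eqs hB Bf hBf b 1 (by omega) 77 (by rw [hα]; norm_num [Nat.choose])
    (by norm_num [Nat.choose])
  have e2 := steiner_eqs hB Bf hBf b 2 (by omega) 21 (by rw [hα]; norm_num [Nat.choose])
    (by norm_num [Nat.choose])
  have e3 := steiner_eqs hB Bf hBf b 3 (by omega) 5 (by rw [hα]; norm_num [Nat.choose])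
    (by norm_num [Nat.choose])
  have e4 := steiner_eqs hB Bf hBf b 4 (by omega) 1 (by rw [hα]; norm_num [Nat.choose])
    (by norm_num [Nat.choose])
  have h7 : 1 ≤ (Bf.filter (fun c => (c ∩ b).card = 7)).card := by
    apply Finset.card_pos.mpr
    exact ⟨b, by simp [hBf, hb, hb7]⟩
  rw [hb7] at e0 e1 e2 e3 e4
  exact arith23 (fun i => (Bf.filter (fun c => (c ∩ b).card = i)).card) h7 e0 e1 e2 e3 e4

/-- Intersection numbers of a block of `S(3,6,22)` with all blocks. -/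
theorem s3622_counts [Fintype α] (hα : Fintype.card α = 22) {B : Set (Finset α)}
    (hB : Cfsg.IsSteinerSystem 3 6 B) (Bf : Finset (Finset α)) (hBf : ∀ b, b ∈ Bf ↔ b ∈ B)
    {b : Finset α} (hb : b ∈ B) :
    (Bf.filter (fun c => (c ∩ b).card = 0)).card = 16 ∧
    (Bf.filter (fun c => (c ∩ b).card = 1)).card = 0 ∧
    (Bf.filter (fun c => (c ∩ b).card = 2)).card = 60 ∧
    (Bf.filter (fun c => (c ∩ b).card = 3)).card = 0 ∧
    (Bf.filter (fun c => (c ∩ b).card = 4)).card = 0 ∧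
    (Bf.filter (fun c => (c ∩ b).card = 5)).card = 0 ∧
    (Bf.filter (fun c => (c ∩ b).card = 6)).card = 1 := by
  have hb6 : b.card = 6 := hB.1 b hb
  have e0 := steiner_eqs hB Bf hBf b 0 (by omega) 77 (by rw [hα]; norm_num [Nat.choose])
    (by norm_num [Nat.choose])
  have e1 := steiner_eqs hB Bf hBf b 1 (by omega) 21 (by rw [hα]; norm_num [Nat.choose])
    (by norm_num [Nat.choose])
  have e2 := steiner_eqs hB Bf hBf b 2 (by omega) 5 (by rw [hα]; norm_num [Nat.choose])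
    (by norm_num [Nat.choose])
  have e3 := steiner_eqs hB Bf hBf b 3 (by omega) 1 (by rw [hα]; norm_num [Nat.choose])
    (by norm_num [Nat.choose])
  have h6 : 1 ≤ (Bf.filter (fun c => (c ∩ b).card = 6)).card := by
    apply Finset.card_pos.mpr
    exact ⟨b, by simp [hBf, hb, hb6]⟩
  rw [hb6] at e0 e1 e2 e3
  exact arith22 (fun i => (Bf.filter (fun c => (c ∩ b).card = i)).card) h6 e0 e1 e2 e3

end Cfsg.Agent.Lib.Helper93
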