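import Cfsg.Agent.Lib.Helper93.Octads
import Cfsg.Prelude.Def_SporadicCombinatorics

set_option autoImplicit false

namespace Cfsg.Agent.Lib.Helper93

open Finset

theorem octad_ne_empty {o : Finset Cfsg.GolayPt} (ho : o ∈ Cfsg.octads) : o.Nonempty := by
  rw [← Finset.card_pos, octad_card ho]; norm_num

theorem octad_ne_of_disjoint {o o' : Finset Cfsg.GolayPt} (ho : o ∈ Cfsg.octads)
    (hd : Disjoint o o') : o ≠ o' := by
  rintro rfl
  obtain ⟨x, hx⟩ := octad_ne_empty ho
  exact (Finset.disjoint_left.mp hd) hx hx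

/-- The trio determined by two disjoint octads. -/
theorem trio_of_disjoint {o o' : Finset Cfsg.GolayPt} (ho : o ∈ Cfsg.octads)
    (ho' : o' ∈ Cfsg.octads) (hd : Disjoint o o') :
    ({o, o', (o ∪ o')ᶜ} : Finset (Finset Cfsg.GolayPt)) ∈ Cfsg.trios := by
  have he := octad_compl_union ho ho' hd
  have hoe : Disjoint o (o ∪ o')ᶜ := by
    rw [Finset.disjoint_left]; intro x hx hx'
    exact (Finset.mem_compl.mp hx') (Finset.mem_union_left _ hx)
  have ho'e : Disjoint o' (o ∪ o')ᶜ := by
    rw [Finset.disjoint_left]; intro x hx hx'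
    exact (Finset.mem_compl.mp hx') (Finset.mem_union_right _ hx)
  have h1 : o ≠ o' := octad_ne_of_disjoint ho hd
  have h2 : o ≠ (o ∪ o')ᶜ := octad_ne_of_disjoint ho hoe
  have h3 : o' ≠ (o ∪ o')ᶜ := octad_ne_of_disjoint ho' ho'e
  refine ⟨?_, ?_, ?_⟩
  · rw [Finset.card_insert_of_notMem, Finset.card_insert_of_notMem, Finset.card_singleton]
    · rw [Finset.mem_singleton]; exact h3
    · rw [Finset.mem_insert, Finset.mem_singleton]
      rintro (h | h)
      · exact h1 h
      · exact h2 h
  · intro c hc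
    simp only [Finset.mem_insert, Finset.mem_singleton] at hc
    rcases hc with rfl | rfl | rfl
    · exact ho
    · exact ho'
    · exact he
  · intro c hc c' hc' hne
    simp only [Finset.mem_insert, Finset.mem_singleton] at hc hc'
    rcases hc with rfl | rfl | rfl <;> rcases hc' with rfl | rfl | rfl
    · exact absurd rfl hne
    · exact hd
    · exact hoe
    · exact hd.symm
    · exact absurd rfl hne
    · exact ho'e
    · exact hoe.symm
    · exact ho'e.symm
    · exact absurd rfl hne

/-- A trio is determined by any two of its members. -/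
theorem trio_eq {T : Finset (Finset Cfsg.GolayPt)} (hT : T ∈ Cfsg.trios)
    {o o' : Finset Cfsg.GolayPt} (ho : o ∈ T) (ho' : o' ∈ T) (hne : o ≠ o') :
    T = {o, o', (o ∪ o')ᶜ} := by
  obtain ⟨hcard, hoct, hdisj⟩ := hT
  have hsub : ({o, o'} : Finset (Finset Cfsg.GolayPt)) ⊆ T := by
    intro x hx
    simp only [Finset.mem_insert, Finset.mem_singleton] at hx
    rcases hx with rfl | rfl
    · exact ho
    · exact ho'
  have hc2 : ({o, o'} : Finset (Finset Cfsg.GolayPt)).card = 2 := by
    rw [Finset.card_insert_of_notMem (by simpa using hne), Finset.card_singleton]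
  obtain ⟨c, hcT, hc⟩ := Finset.exists_mem_notMem_of_card_lt_card
    (s := ({o, o'} : Finset (Finset Cfsg.GolayPt))) (t := T) (by omega)
  simp only [Finset.mem_insert, Finset.mem_singleton, not_or] at hc
  have hco : Disjoint o c := hdisj o ho c hcT (Ne.symm hc.1)
  have hco' : Disjoint o' c := hdisj o' ho' c hcT (Ne.symm hc.2)
  have hd : Disjoint o o' := hdisj o ho o' ho' hne
  have hce : c = (o ∪ o')ᶜ := by
    apply Finset.eq_of_subset_of_card_le
    · intro x hx
      rw [Finset.mem_compl, Finset.mem_union]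
      rintro (h | h)
      · exact (Finset.disjoint_left.mp hco) h hx
      · exact (Finset.disjoint_left.mp hco') h hx
    · rw [octad_card (octad_compl_union (hoct o ho) (hoct o' ho') hd), octad_card (hoct c hcT)]
  symm
  apply Finset.eq_of_subset_of_card_le
  · intro x hx
    simp only [Finset.mem_insert, Finset.mem_singleton] at hx
    rcases hx with rfl | rfl | rfl
    · exact ho
    · exact ho'
    · rw [← hce]; exact hcT
  · rw [hcard]
    have := (trio_of_disjoint (hoct o ho) (hoct o' ho') hd).1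
    omega

theorem ncard_trios : Cfsg.trios.ncard = 3795 := by
  classical
  set Of : Finset (Finset Cfsg.GolayPt) := Finset.univ.filter (· ∈ Cfsg.octads) with hOf
  have hOfmem : ∀ o, o ∈ Of ↔ o ∈ Cfsg.octads := by intro o; simp [hOf]
  set Tf : Finset (Finset (Finset Cfsg.GolayPt)) := Finset.univ.filter (· ∈ Cfsg.trios) with hTf
  have hTfmem : ∀ T, T ∈ Tf ↔ T ∈ Cfsg.trios := by intro T; simp [hTf]
  have hOfcard : Of.card = 759 := by
    rw [← ncard_octads, ← Set.ncard_coe_finset]
    congr 1
    ext o; simp [hOfmem]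
  set P : Finset (Finset Cfsg.GolayPt × Finset Cfsg.GolayPt) :=
    (Of ×ˢ Of).filter (fun p => Disjoint p.1 p.2) with hP
  have hPcard : P.card = 759 * 30 := by
    rw [Finset.card_eq_sum_card_fiberwise (f := Prod.fst) (t := Of)]
    · have : ∀ o ∈ Of, (P.filter (fun p => p.1 = o)).card = 30 := by
        intro o ho
        rw [← ncard_octads_disjoint ((hOfmem o).1 ho), ← Set.ncard_coe_finset]
        have himg : (P.filter (fun p => p.1 = o)) =
            (Of.filter (fun c => Disjoint o c)).image (fun c => (o, c)) := by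
          ext ⟨a, b⟩
          simp only [hP, Finset.mem_filter, Finset.mem_product, Finset.mem_image, Prod.mk.injEq]
          constructor
          · rintro ⟨⟨⟨_, hb⟩, hd⟩, rfl⟩
            exact ⟨b, ⟨hb, hd⟩, rfl, rfl⟩
          · rintro ⟨c, ⟨hc, hd⟩, rfl, rfl⟩
            exact ⟨⟨⟨ho, hc⟩, hd⟩, rfl⟩
        rw [himg, Set.ncard_coe_finset, Finset.card_image_of_injective _
          (fun a b h => (Prod.mk.injEq _ _ _ _ ▸ h).2), ← Set.ncard_coe_finset]
        congr 1
        ext c
        simp [hOfmem]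
      rw [Finset.sum_congr rfl this, Finset.sum_const, hOfcard, smul_eq_mul]
    · intro p hp
      simp only [hP, Finset.coe_filter, Finset.mem_product, Set.mem_ofPred_eq] at hp
      exact hp.1.1
  have hfib : P.card = ∑ T ∈ Tf, (P.filter (fun p => ({p.1, p.2, (p.1 ∪ p.2)ᶜ} :
      Finset (Finset Cfsg.GolayPt)) = T)).card := by
    apply Finset.card_eq_sum_card_fiberwise
    intro p hp
    simp only [hP, Finset.coe_filter, Finset.mem_product, Set.mem_ofPred_eq] at hp
    rw [Finset.mem_coe, hTfmem]
    exact trio_of_disjoint ((hOfmem _).1 hp.1.1) ((hOfmem _).1 hp.1.2) hp.2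
  have h6 : ∀ T ∈ Tf, (P.filter (fun p => ({p.1, p.2, (p.1 ∪ p.2)ᶜ} :
      Finset (Finset Cfsg.GolayPt)) = T)).card = 6 := by
    intro T hT
    have hT' := (hTfmem T).1 hT
    have heq : P.filter (fun p => ({p.1, p.2, (p.1 ∪ p.2)ᶜ} :
        Finset (Finset Cfsg.GolayPt)) = T) = T.offDiag := by
      ext ⟨a, b⟩
      simp only [hP, Finset.mem_filter, Finset.mem_product, Finset.mem_offDiag]
      constructor
      · rintro ⟨⟨⟨ha, hb⟩, hd⟩, rfl⟩
        refine ⟨by simp, by simp, octad_ne_of_disjoint ((hOfmem a).1 ha) hd⟩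
      · rintro ⟨ha, hb, hne⟩
        refine ⟨⟨⟨(hOfmem a).2 (hT'.2.1 a ha), (hOfmem b).2 (hT'.2.1 b hb)⟩,
          hT'.2.2 a ha b hb hne⟩, (trio_eq hT' ha hb hne).symm⟩
    rw [heq, Finset.offDiag_card, hT'.1]
  rw [Finset.sum_congr rfl h6, Finset.sum_const, smul_eq_mul, hPcard] at hfib
  have hTfcard : Tf.card = 3795 := by
    have h := hfib
    clear_value P Tf Of
    omega
  have hset : Cfsg.trios = (↑Tf : Set (Finset (Finset Cfsg.GolayPt))) := by
    ext T
    rw [Finset.mem_coe]
    exact (hTfmem T).symm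
  rw [hset, Set.ncard_coe_finset]
  exact hTfcard

end Cfsg.Agent.Lib.Helper93
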