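import Mathlib
import Cfsg.Prelude.Def_Classical
import Cfsg.Prelude.Def_ClassicalGeometry
import Cfsg.Agent.Lib.Helper19.F4

/-!
# `PSU₄(2) ≅ PSp₄(3)`: tables

The 40 non-isotropic points of the Hermitian space `F4⁴` and the 40 points of the symplectic
space `(ZMod 3)⁴`, numbered compatibly (orthogonality corresponds to orthogonality).
-/

set_option autoImplicit false

namespace Cfsg.Agent.Lib.Helper93.U4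

open Matrix Cfsg.Agent.Lib.Helper19

/-- representatives of the 40 non-isotropic points of `F4⁴` -/
def vU : Fin 40 → Fin 4 → F4 := ![
  ![F4.z, F4.z, F4.z, F4.o],
  ![F4.z, F4.z, F4.o, F4.z],
  ![F4.z, F4.o, F4.z, F4.z],
  ![F4.z, F4.o, F4.o, F4.o],
  ![F4.z, F4.o, F4.o, F4.w],
  ![F4.z, F4.o, F4.o, F4.v],
  ![F4.z, F4.o, F4.w, F4.o],
  ![F4.z, F4.o, F4.w, F4.w],
  ![F4.z, F4.o, F4.w, F4.v],
  ![F4.z, F4.o, F4.v, F4.o],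
  ![F4.z, F4.o, F4.v, F4.w],
  ![F4.z, F4.o, F4.v, F4.v],
  ![F4.o, F4.z, F4.z, F4.z],
  ![F4.o, F4.z, F4.o, F4.o],
  ![F4.o, F4.z, F4.o, F4.w],
  ![F4.o, F4.z, F4.o, F4.v],
  ![F4.o, F4.z, F4.w, F4.o],
  ![F4.o, F4.z, F4.w, F4.w],
  ![F4.o, F4.z, F4.w, F4.v],
  ![F4.o, F4.z, F4.v, F4.o],
  ![F4.o, F4.z, F4.v, F4.w],
  ![F4.o, F4.z, F4.v, F4.v],
  ![F4.o, F4.o, F4.z, F4.o],
  ![F4.o, F4.o, F4.z, F4.w],
  ![F4.o, F4.o, F4.z, F4.v],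
  ![F4.o, F4.o, F4.o, F4.z],
  ![F4.o, F4.o, F4.w, F4.z],
  ![F4.o, F4.o, F4.v, F4.z],
  ![F4.o, F4.w, F4.z, F4.o],
  ![F4.o, F4.w, F4.z, F4.w],
  ![F4.o, F4.w, F4.z, F4.v],
  ![F4.o, F4.w, F4.o, F4.z],
  ![F4.o, F4.w, F4.w, F4.z],
  ![F4.o, F4.w, F4.v, F4.z],
  ![F4.o, F4.v, F4.z, F4.o],
  ![F4.o, F4.v, F4.z, F4.w],
  ![F4.o, F4.v, F4.z, F4.v],
  ![F4.o, F4.v, F4.o, F4.z],
  ![F4.o, F4.v, F4.w, F4.z],
  ![F4.o, F4.v, F4.v, F4.z]]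

/-- coordinates of representatives of the 40 points of `(ZMod 3)⁴` -/
def wS4 : Fin 40 → Fin 4 → ZMod 3 := ![
  ![0, 0, 0, 1],
  ![0, 0, 1, 0],
  ![0, 0, 1, 1],
  ![1, 1, 0, 0],
  ![1, 1, 0, 1],
  ![1, 1, 0, 2],
  ![1, 1, 1, 0],
  ![1, 1, 1, 1],
  ![1, 1, 1, 2],
  ![1, 1, 2, 0],
  ![1, 1, 2, 1],
  ![1, 1, 2, 2],
  ![0, 0, 1, 2],
  ![1, 2, 0, 0],
  ![1, 2, 0, 2],
  ![1, 2, 0, 1],
  ![1, 2, 1, 0],
  ![1, 2, 1, 2],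
  ![1, 2, 1, 1],
  ![1, 2, 2, 0],
  ![1, 2, 2, 2],
  ![1, 2, 2, 1],
  ![0, 1, 0, 0],
  ![0, 1, 0, 1],
  ![0, 1, 0, 2],
  ![1, 0, 0, 0],
  ![1, 0, 1, 0],
  ![1, 0, 2, 0],
  ![0, 1, 1, 1],
  ![0, 1, 1, 2],
  ![0, 1, 1, 0],
  ![1, 0, 1, 1],
  ![1, 0, 2, 1],
  ![1, 0, 0, 1],
  ![0, 1, 2, 2],
  ![0, 1, 2, 0],
  ![0, 1, 2, 1],
  ![1, 0, 2, 2],
  ![1, 0, 0, 2],
  ![1, 0, 1, 2]]

/-- representatives of the 40 points of `(ZMod 3)⁴` -/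
def wS (i : Fin 40) : Fin 2 ⊕ Fin 2 → ZMod 3 :=
  Sum.elim ![wS4 i 0, wS4 i 1] ![wS4 i 2, wS4 i 3]

/-- the rank one matrix `v ⊗ v^σ` of a vector of `F4⁴` -/
def matP (v : Fin 4 → F4) : Matrix (Fin 4) (Fin 4) F4 := vecMulVec v (fun j => v j ^ 2)

/-- the rank one matrix `w ⊗ Jw` of a vector of `(ZMod 3)⁴` -/
def matQ (w : Fin 2 ⊕ Fin 2 → ZMod 3) : Matrix (Fin 2 ⊕ Fin 2) (Fin 2 ⊕ Fin 2) (ZMod 3) :=
  vecMulVec w (Matrix.J (Fin 2) (ZMod 3) *ᵥ w)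

/-- the 40 matrices on the unitary side -/
def ptP (i : Fin 40) : Matrix (Fin 4) (Fin 4) F4 := matP (vU i)

/-- the 40 matrices on the symplectic side -/
def ptQ (i : Fin 40) : Matrix (Fin 2 ⊕ Fin 2) (Fin 2 ⊕ Fin 2) (ZMod 3) := matQ (wS i)

/-- the unitary matrix which is `1` on the `i`-th point and `l` on its orthogonal complement -/
def Umat (i : Fin 40) (l : F4) : Matrix (Fin 4) (Fin 4) F4 :=
  l • (1 + vecMulVec (l • vU i) (fun j => vU i j ^ 2))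

theorem ptP_inj : ∀ i j : Fin 40, ptP i = ptP j → i = j := by decide +kernel

theorem ptQ_inj : ∀ i j : Fin 40, ptQ i = ptQ j → i = j := by decide +kernel

theorem cover_U : ∀ a b c d : F4, Cfsg.hermForm 4 F4 2 ![a, b, c, d] ![a, b, c, d] ≠ 0 →
    ∃ i, matP ![a, b, c, d] = ptP i := by decide +kernel

theorem cover_S : ∀ w : Fin 2 ⊕ Fin 2 → ZMod 3, w ≠ 0 → ∃ i, matQ w = ptQ i := by
  decide +kernel

end Cfsg.Agent.Lib.Helper93.U4
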