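import Cfsg.Agent.Lib.Helper93.U4d

/-!
# `PSU₄(2) ≅ PSp₄(3)`: transport to arbitrary fields of orders 4 and 3
-/

set_option autoImplicit false

namespace Cfsg.Agent.Lib.Helper93.U4

open Matrix Cfsg.Agent.Lib.Helper19

/-- Isomorphic groups have isomorphic central quotients. -/
theorem nonempty_quot_center {G H : Type*} [Group G] [Group H] (e : G ≃* H) :
    Nonempty (G ⧸ Subgroup.center G ≃* H ⧸ Subgroup.center H) := by
  refine ⟨QuotientGroup.congr (Subgroup.center G) (Subgroup.center H) e ?_⟩
  ext y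
  rw [Subgroup.mem_map]
  constructor
  · rintro ⟨x, hx, rfl⟩
    rw [Subgroup.mem_center_iff] at hx ⊢
    intro g
    obtain ⟨g', rfl⟩ := e.surjective g
    show e g' * e x = e x * e g'
    rw [← map_mul, ← map_mul, hx g']
  · intro hy
    refine ⟨e.symm y, ?_, e.apply_symm_apply y⟩
    rw [Subgroup.mem_center_iff] at hy ⊢
    intro g
    apply e.injective
    rw [map_mul, map_mul, e.apply_symm_apply]
    exact hy (e g)

/-- Transport of the special unitary group along a field isomorphism. -/
theorem su_map_mem {L K : Type*} [Field L] [Field K] (e : L ≃+* K) (n q : ℕ)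
    (A : Matrix.SpecialLinearGroup (Fin n) L) (hA : A ∈ Cfsg.SU n L q) :
    Matrix.SpecialLinearGroup.map (e : L →+* K) A ∈ Cfsg.SU n K q := by
  intro u v
  have hA' : ∀ u v : Fin n → L, Cfsg.hermForm n L q (A.1 *ᵥ u) (A.1 *ᵥ v)
      = Cfsg.hermForm n L q u v := hA
  have hmv : ∀ x : Fin n → K, (A.1.map (e : L →+* K)) *ᵥ x
      = fun i => e ((A.1 *ᵥ (fun j => e.symm (x j))) i) := by
    intro x
    funext i
    have hx : (⇑(e : L →+* K) ∘ fun j => e.symm (x j)) = x := by
      funext j
      simp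
    have h1 := RingHom.map_mulVec (e : L →+* K) A.1 (fun j => e.symm (x j)) i
    rw [hx] at h1
    exact h1.symm
  have hform : ∀ x y : Fin n → L, Cfsg.hermForm n K q (fun i => e (x i)) (fun i => e (y i))
      = e (Cfsg.hermForm n L q x y) := by
    intro x y
    simp only [Cfsg.hermForm, map_sum, map_mul, map_pow]
  show Cfsg.hermForm n K q ((A.1.map (e : L →+* K)) *ᵥ u) ((A.1.map (e : L →+* K)) *ᵥ v)
    = Cfsg.hermForm n K q u v
  rw [hmv, hmv, hform, hA', ← hform]
  simp only [RingEquiv.apply_symm_apply]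

/-- The induced homomorphism of special unitary groups. -/
def suMap {L K : Type*} [Field L] [Field K] (e : L ≃+* K) (n q : ℕ) :
    ↥(Cfsg.SU n L q) →* ↥(Cfsg.SU n K q) :=
  ((Matrix.SpecialLinearGroup.map (e : L →+* K)).comp (Cfsg.SU n L q).subtype).codRestrict
    (Cfsg.SU n K q) (fun A => su_map_mem e n q A.1 A.2)

theorem suMap_coe {L K : Type*} [Field L] [Field K] (e : L ≃+* K) (n q : ℕ)
    (A : ↥(Cfsg.SU n L q)) (i j : Fin n) : (suMap e n q A).1.1 i j = e (A.1.1 i j) := rfl

theorem suMap_injective {L K : Type*} [Field L] [Field K] (e : L ≃+* K) (n q : ℕ) :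
    Function.Injective (suMap e n q) := by
  intro A B hAB
  apply Subtype.ext
  apply Subtype.ext
  apply Matrix.ext
  intro i j
  have h1 := congrArg (fun X : ↥(Cfsg.SU n K q) => X.1.1 i j) hAB
  exact e.injective h1

theorem suMap_surjective {L K : Type*} [Field L] [Field K] (e : L ≃+* K) (n q : ℕ) :
    Function.Surjective (suMap e n q) := by
  intro B
  refine ⟨suMap e.symm n q B, ?_⟩
  apply Subtype.ext
  apply Subtype.ext
  apply Matrix.ext
  intro i j
  rw [suMap_coe, suMap_coe]
  exact e.apply_symm_apply _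

section transport

variable {l : Type*} [DecidableEq l] [Fintype l] {R S : Type*} [CommRing R] [CommRing S]

/-- The symplectic group is functorial in the ring. -/
def spMap (f : R →+* S) : Matrix.symplecticGroup l R →* Matrix.symplecticGroup l S where
  toFun A := ⟨f.mapMatrix A.1, by
    rw [SymplecticGroup.mem_iff]
    have h := SymplecticGroup.mem_iff.1 A.2
    have h2 := congrArg f.mapMatrix h
    rw [map_mul, map_mul] at h2
    simpa [RingHom.mapMatrix_apply, Matrix.transpose_map] using h2⟩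
  map_one' := Subtype.ext (by simp)
  map_mul' A B := Subtype.ext (by simp)

theorem spMap_coe (f : R →+* S) (A : Matrix.symplecticGroup l R) :
    ((spMap f A : Matrix.symplecticGroup l S) : Matrix (l ⊕ l) (l ⊕ l) S) = f.mapMatrix A.1 := rfl

/-- The symplectic groups of isomorphic rings are isomorphic. -/
def spCongr (e : R ≃+* S) : Matrix.symplecticGroup l R ≃* Matrix.symplecticGroup l S :=
  MonoidHom.toMulEquiv (spMap e.toRingHom) (spMap e.symm.toRingHom)
    (by
      ext A i j
      simp [spMap_coe])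
    (by
      ext A i j
      simp [spMap_coe])

end transport

/-- `PSU₄(2) ≅ PSp₄(3)`. -/
theorem main {F K : Type*} [Field F] [Fintype F] [Field K] [Fintype K]
    (hF : Fintype.card F = 4) (hK : Fintype.card K = 3) :
    Nonempty (Cfsg.PSU 4 F 2 ≃* Cfsg.PSp 2 K) := by
  obtain ⟨e0⟩ := concrete
  obtain ⟨eF⟩ : Nonempty (F ≃+* F4) := ⟨FiniteField.ringEquivOfCardEq (by rw [hF]; rfl)⟩
  obtain ⟨eK⟩ : Nonempty (ZMod 3 ≃+* K) := ⟨ZMod.ringEquivOfPrime K Nat.prime_three hK⟩
  obtain ⟨e1⟩ := nonempty_quot_center (MulEquiv.ofBijective (suMap eF 4 2)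
    ⟨suMap_injective eF 4 2, suMap_surjective eF 4 2⟩)
  obtain ⟨e2⟩ := nonempty_quot_center (spCongr (l := Fin 2) eK)
  exact ⟨(e1.trans e0).trans e2⟩

end Cfsg.Agent.Lib.Helper93.U4
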