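import Cfsg.Agent.Lib.Helper93.W24b

set_option autoImplicit false

namespace Cfsg.Agent.Lib.Helper93.W24

/-- Uniqueness of the Steiner system `S(5,8,24)` up to isomorphism. -/
theorem steiner24_iso {α β : Type*} [Fintype α] [DecidableEq α] [Fintype β] [DecidableEq β]
    (hα : Fintype.card α = 24) (hβ : Fintype.card β = 24) {B : Set (Finset α)}
    {B' : Set (Finset β)} (hB : Cfsg.IsSteinerSystem 5 8 B)
    (hB' : Cfsg.IsSteinerSystem 5 8 B') : Cfsg.SetSystemIso B B' := by
  have c : Fintype.card (Fin 3 ⊕ Fin 21) = 24 := by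
    rw [Fintype.card_sum, Fintype.card_fin, Fintype.card_fin]
  let φ : α ≃ Fin 3 ⊕ Fin 21 := Fintype.equivOfCardEq (hα.trans c.symm)
  let φ' : β ≃ Fin 3 ⊕ Fin 21 := Fintype.equivOfCardEq (hβ.trans c.symm)
  have S : Sys ((fun b => b.image φ) '' B) := ⟨Fintype.card_fin 21, steiner_image hB φ⟩
  have S' : Sys ((fun b => b.image φ') '' B') := ⟨Fintype.card_fin 21, steiner_image hB' φ'⟩
  exact iso_trans (iso_image B φ) (iso_trans (S.iso S') (iso_symm (iso_image B' φ')))

/-- Uniqueness of the Steiner system `S(4,7,23)` up to isomorphism is proved in `W23b`;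
this file only records the `S(5,8,24)` case. -/
theorem steiner24_iso_symm {α β : Type*} [Fintype α] [DecidableEq α] [Fintype β]
    [DecidableEq β] (hα : Fintype.card α = 24) (hβ : Fintype.card β = 24) {B : Set (Finset α)}
    {B' : Set (Finset β)} (hB : Cfsg.IsSteinerSystem 5 8 B)
    (hB' : Cfsg.IsSteinerSystem 5 8 B') : Cfsg.SetSystemIso B' B :=
  steiner24_iso hβ hα hB' hB

end Cfsg.Agent.Lib.Helper93.W24
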