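import Cfsg.Agent.Lib.Helper93.AutTr
import Cfsg.Agent.Lib.Helper93.Octads
import Cfsg.Agent.S0412
import Cfsg.Agent.S0356

set_option autoImplicit false

namespace Cfsg.Agent.Lib.Helper93.W24

open Cfsg.Agent.Lib.Helper93.P4

/-- The image of a split set under a split map. -/
theorem image_disjSum_of {ι ι' γ γ' : Type*} [DecidableEq ι'] [DecidableEq γ']
    (g : ι ⊕ γ → ι' ⊕ γ') (π : ι → ι') (g0 : γ → γ')
    (h1 : ∀ a, g (Sum.inl a) = Sum.inl (π a)) (h2 : ∀ b, g (Sum.inr b) = Sum.inr (g0 b))
    (s : Finset ι) (t : Finset γ) :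
    (s.disjSum t).image g = (s.image π).disjSum (t.image g0) := by
  ext x
  rw [Finset.mem_image]
  constructor
  · rintro ⟨y, hy, rfl⟩
    rcases y with a | b
    · rw [Finset.inl_mem_disjSum] at hy
      rw [h1, Finset.inl_mem_disjSum]
      exact Finset.mem_image_of_mem π hy
    · rw [Finset.inr_mem_disjSum] at hy
      rw [h2, Finset.inr_mem_disjSum]
      exact Finset.mem_image_of_mem g0 hy
  · intro hx
    rcases x with a | b
    · rw [Finset.inl_mem_disjSum] at hx
      obtain ⟨a0, ha0, rfl⟩ := Finset.mem_image.mp hx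
      exact ⟨Sum.inl a0, Finset.inl_mem_disjSum.mpr ha0, h1 a0⟩
    · rw [Finset.inr_mem_disjSum] at hx
      obtain ⟨b0, hb0, rfl⟩ := Finset.mem_image.mp hx
      exact ⟨Sum.inr b0, Finset.inr_mem_disjSum.mpr hb0, h2 b0⟩

variable {γ : Type*} [Fintype γ] [DecidableEq γ]

omit [DecidableEq γ] in
/-- The derived plane of a Steiner system `S(2+n,5+n,21+n)` in split form. -/
theorem plane_of_split {n : ℕ} {D : Set (Finset (Fin n ⊕ γ))} (hγ : Fintype.card γ = 21)
    (hD : Cfsg.IsSteinerSystem (2 + n) (5 + n) D) :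
    Plane {l : Finset γ | (Finset.univ : Finset (Fin n)).disjSum l ∈ D} := by
  refine ⟨hγ, ?_, ?_⟩
  · intro l hl
    have := hD.1 _ hl
    rw [Finset.card_disjSum, Finset.card_univ, Fintype.card_fin] at this
    omega
  · intro s hs
    have h5 : ((Finset.univ : Finset (Fin n)).disjSum s).card = 2 + n := by
      rw [Finset.card_disjSum, Finset.card_univ, Fintype.card_fin, hs]
      omega
    obtain ⟨O, ⟨hO, hsub⟩, huniq⟩ := hD.2 _ h5
    rw [Finset.disjSum_subset] at hsub
    have hleft : O.toLeft = Finset.univ := Finset.univ_subset_iff.mp hsub.1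
    refine ⟨O.toRight, ⟨?_, hsub.2⟩, ?_⟩
    · show (Finset.univ : Finset (Fin n)).disjSum O.toRight ∈ D
      rw [← hleft, Finset.toLeft_disjSum_toRight]
      exact hO
    · rintro l ⟨hl, hsl⟩
      have := huniq _ ⟨hl, Finset.disjSum_mono (subset_refl _) hsl⟩
      rw [← this, Finset.toRight_disjSum]

variable {B : Set (Finset (Fin 3 ⊕ γ))}

/-- Every permutation of the three special points is induced by an automorphism; on the
derived plane this gives automorphisms permuting the hyperoval classes arbitrarily. -/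
theorem Sys.exists_aut (S : Sys B) (π : Equiv.Perm (Fin 3)) :
    ∃ g0 : Equiv.Perm γ, (fun l : Finset γ => l.image g0) '' dlines B = dlines B ∧
      ∀ k, (fun H : Finset γ => H.image g0) '' hcls B k = hcls B (π k) := by
  classical
  have h5 := (Cfsg.Agent.S0412.result S.card24 S.st).2
  have h3 : MulAction.IsMultiplyPretransitive ↥(Cfsg.setSystemAut B) (Fin 3 ⊕ γ) 3 :=
    MulAction.isMultiplyPretransitive_of_le (n := 5) (by norm_num) (by
      rw [Nat.card_eq_fintype_card, S.card24]
      norm_num)
  rw [MulAction.isMultiplyPretransitive_iff] at h3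
  let x : Fin 3 ↪ Fin 3 ⊕ γ := ⟨Sum.inl, Sum.inl_injective⟩
  let y : Fin 3 ↪ Fin 3 ⊕ γ :=
    ⟨fun k => Sum.inl (π k), fun a b h => π.injective (Sum.inl_injective h)⟩
  obtain ⟨g, hg⟩ := h3 x y
  have hgl : ∀ k, g.1 (Sum.inl k) = Sum.inl (π k) :=
    fun k => congrArg (fun f : Fin 3 ↪ Fin 3 ⊕ γ => f k) hg
  have hgr : ∀ b : γ, ∃ b', g.1 (Sum.inr b) = Sum.inr b' := by
    intro b
    rcases h : g.1 (Sum.inr b) with a | b'
    · exfalso
      have := hgl (π.symm a)
      rw [Equiv.apply_symm_apply, ← h] at this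
      exact Sum.inl_ne_inr (g.1.injective this)
    · exact ⟨b', rfl⟩
  choose g0 hg0 using hgr
  have hg0inj : Function.Injective g0 := by
    intro b b' h
    have := (hg0 b).trans ((congrArg Sum.inr h).trans (hg0 b').symm)
    exact Sum.inr_injective (g.1.injective this)
  have himg := image_disjSum_of (g.1 : Fin 3 ⊕ γ → Fin 3 ⊕ γ) π g0 hgl hg0
  have hB : ∀ O ∈ B, O.image g.1 ∈ B := fun O hO => aut_image g.2 hO
  have hB' : ∀ O' ∈ B, ∃ O ∈ B, O.image g.1 = O' := by
    intro O' hO'
    rw [← (aut_iff g.1).mp g.2] at hO'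
    exact hO'
  have hπimg : ∀ s t : Finset (Fin 3), s.image π = t.image π → s = t :=
    fun s t h => Finset.image_injective π.injective h
  refine ⟨Equiv.ofBijective g0 (Finite.injective_iff_bijective.mp hg0inj), ?_, ?_⟩
  · apply Set.Subset.antisymm
    · rintro _ ⟨l, hl, rfl⟩
      have := hB _ hl
      rw [himg, Finset.image_univ_of_surjective π.surjective] at this
      exact this
    · intro l hl
      obtain ⟨O, hO, hOl⟩ := hB' _ hl
      rw [← Finset.toLeft_disjSum_toRight (u := O), himg] at hOl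
      have h1 := congrArg Finset.toLeft hOl
      have h2 := congrArg Finset.toRight hOl
      rw [Finset.toLeft_disjSum, Finset.toLeft_disjSum] at h1
      rw [Finset.toRight_disjSum, Finset.toRight_disjSum] at h2
      rw [← Finset.image_univ_of_surjective π.surjective] at h1
      exact ⟨O.toRight, S.type_three hO (hπimg _ _ h1), h2⟩
  · intro k
    apply Set.Subset.antisymm
    · rintro _ ⟨H, hH, rfl⟩
      have := hB _ hH
      rw [himg, Finset.image_erase π.injective, Finset.image_univ_of_surjective π.surjective]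
        at this
      exact this
    · intro H hH
      obtain ⟨O, hO, hOl⟩ := hB' _ hH
      rw [← Finset.toLeft_disjSum_toRight (u := O), himg] at hOl
      have h1 := congrArg Finset.toLeft hOl
      have h2 := congrArg Finset.toRight hOl
      rw [Finset.toLeft_disjSum, Finset.toLeft_disjSum] at h1
      rw [Finset.toRight_disjSum, Finset.toRight_disjSum] at h2
      rw [← Finset.image_univ_of_surjective π.surjective, ← Finset.image_erase π.injective] at h1
      exact ⟨O.toRight, S.type_two hO (hπimg _ _ h1), h2⟩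

theorem Sys.ncard_hcls (S : Sys B) (k : Fin 3) : (hcls B k).ncard = 56 := by
  have : hcls B k = ↑(hclsF B k) := by
    ext K
    rw [Finset.mem_coe, mem_hclsF]
  rw [this, Set.ncard_coe_finset, S.card_hclsF]

theorem Sys.ncard_dlines (S : Sys B) : (dlines B).ncard = 21 := by
  have : dlines B = ↑(lines (dlines B)) := by
    ext K
    rw [Finset.mem_coe, mem_lines]
  rw [this, Set.ncard_coe_finset, S.plane.card_lines]

/-- A family of `56` hyperovals with pairwise even intersections is one of the classes. -/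
theorem Sys.class_of_even (S : Sys B) {F : Set (Finset γ)}
    (hF : ∀ H ∈ F, H.card = 6 ∧ IsArc (dlines B) H)
    (heven : ∀ H ∈ F, ∀ K ∈ F, Even (H ∩ K).card) (hcard : F.ncard = 56) :
    ∃ k, F = hcls B k := by
  obtain ⟨H, hH⟩ : F.Nonempty := Set.nonempty_of_ncard_ne_zero (by rw [hcard]; norm_num)
  obtain ⟨k, hk⟩ := S.exists_cls (hF H hH).1 (hF H hH).2
  refine ⟨k, ?_⟩
  apply Set.eq_of_subset_of_ncard_le
  · intro K hK
    obtain ⟨j, hj⟩ := S.exists_cls (hF K hK).1 (hF K hK).2
    by_cases hjk : j = k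
    · rw [← hjk]
      exact hj
    · exact absurd (heven K hK H hH) (S.hcls_inter_diff hjk hj hk)
  · rw [hcard, S.ncard_hcls]
  · exact Set.toFinite _

/-- A fixed Steiner system `S(5,8,24)` in split form, obtained from the octads. -/
noncomputable def baseEquiv : Cfsg.GolayPt ≃ Fin 3 ⊕ Fin 21 :=
  Fintype.equivOfCardEq (by
    rw [card_golayPt, Fintype.card_sum, Fintype.card_fin, Fintype.card_fin])

/-- The octad system transported to `Fin 3 ⊕ Fin 21`. -/
noncomputable def baseSys : Set (Finset (Fin 3 ⊕ Fin 21)) :=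
  (fun b => b.image baseEquiv) '' Cfsg.octads

theorem baseSys_sys : Sys baseSys :=
  ⟨Fintype.card_fin 21, steiner_image octads_steiner baseEquiv⟩

end Cfsg.Agent.Lib.Helper93.W24
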