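import Cfsg.Agent.Lib.Helper93.W22

set_option autoImplicit false

namespace Cfsg.Agent.Lib.Helper93.W24

open Cfsg.Agent.Lib.Helper93.P4

/-- A Steiner system contained in a family with the uniqueness property is the whole family. -/
theorem steiner_sub_eq {β : Type*} {t k : ℕ} {D T : Set (Finset β)}
    (hD : Cfsg.IsSteinerSystem t k D) (hsub : D ⊆ T) (hcard : ∀ c ∈ T, t ≤ c.card)
    (huniq : ∀ b ∈ T, ∀ c ∈ T, ∀ s : Finset β, s.card = t → s ⊆ b → s ⊆ c → b = c) :
    D = T := by
  apply Set.Subset.antisymm hsub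
  intro c hc
  obtain ⟨s, hsc, hs⟩ := Finset.exists_subset_card_eq (hcard c hc)
  obtain ⟨b, ⟨hb, hsb⟩, -⟩ := hD.2 s hs
  rw [← huniq b (hsub hb) c hc s hs hsb hsc]
  exact hb

variable {γ : Type*} [Fintype γ] [DecidableEq γ]

/-- The subsystem of a system on `Fin 3 ⊕ γ` cut out by fixing the points of `E0`. -/
def can {n : ℕ} (B : Set (Finset (Fin 3 ⊕ γ))) (π : Fin n → Fin 3) (E0 : Finset (Fin 3)) :
    Set (Finset (Fin n ⊕ γ)) :=
  {b | (E0.disjSum (∅ : Finset γ)) ∪ b.image (Sum.map π id) ∈ B}

omit [Fintype γ] in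
theorem lift_disjSum {n : ℕ} (π : Fin n → Fin 3) (E0 : Finset (Fin 3)) (s : Finset (Fin n))
    (t : Finset γ) :
    (E0.disjSum (∅ : Finset γ)) ∪ (s.disjSum t).image (Sum.map π id) =
      (E0 ∪ s.image π).disjSum t := by
  rw [image_disjSum_of (Sum.map π id) π id (fun _ => rfl) (fun _ => rfl), Finset.image_id]
  ext x
  rcases x with a | c
  · simp [Finset.inl_mem_disjSum]
  · simp [Finset.inr_mem_disjSum]

omit [Fintype γ] in
theorem can_disjoint {n : ℕ} {π : Fin n → Fin 3} {E0 : Finset (Fin 3)} (hE : ∀ i, π i ∉ E0)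
    (u : Finset (Fin n ⊕ γ)) :
    Disjoint (E0.disjSum (∅ : Finset γ)) (u.image (Sum.map π id)) := by
  rw [Finset.disjoint_left]
  intro x hx hx'
  obtain ⟨y, hy, rfl⟩ := Finset.mem_image.mp hx'
  rcases y with a | c0
  · rw [Sum.map_inl, Finset.inl_mem_disjSum] at hx
    exact hE a hx
  · rw [Sum.map_inr, Finset.inr_mem_disjSum] at hx
    exact Finset.notMem_empty _ hx

omit [Fintype γ] in
theorem can_unique {n : ℕ} {B : Set (Finset (Fin 3 ⊕ γ))} {T K t : ℕ}
    (hB : Cfsg.IsSteinerSystem T K B) {π : Fin n → Fin 3} (hπ : Function.Injective π)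
    {E0 : Finset (Fin 3)} (hE : ∀ i, π i ∉ E0) (hT : E0.card + t = T)
    {b c : Finset (Fin n ⊕ γ)} (hb : b ∈ can B π E0) (hc : c ∈ can B π E0)
    {s : Finset (Fin n ⊕ γ)} (hs : s.card = t) (hsb : s ⊆ b) (hsc : s ⊆ c) : b = c := by
  have hinj : Function.Injective (Sum.map π (id : γ → γ)) :=
    Sum.map_injective.mpr ⟨hπ, Function.injective_id⟩
  have hcard : ((E0.disjSum (∅ : Finset γ)) ∪ s.image (Sum.map π id)).card = T := by
    rw [Finset.card_union_of_disjoint (can_disjoint hE s), Finset.card_disjSum,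
      Finset.card_empty, Finset.card_image_of_injective _ hinj, hs, add_zero, hT]
  obtain ⟨O, -, huniq⟩ := hB.2 _ hcard
  have h1 := huniq _ ⟨hb, Finset.union_subset_union (subset_refl _)
    (Finset.image_subset_image hsb)⟩
  have h2 := huniq _ ⟨hc, Finset.union_subset_union (subset_refl _)
    (Finset.image_subset_image hsc)⟩
  have h3 : b.image (Sum.map π id) = c.image (Sum.map π id) := by
    have := h1.trans h2.symm
    rw [← Finset.union_sdiff_cancel_left (can_disjoint hE b),
      ← Finset.union_sdiff_cancel_left (can_disjoint hE c), this]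
  exact Finset.image_injective hinj h3

omit [Fintype γ] in
theorem can_card {n : ℕ} {B : Set (Finset (Fin 3 ⊕ γ))} {T K : ℕ}
    (hB : Cfsg.IsSteinerSystem T K B) {π : Fin n → Fin 3} (hπ : Function.Injective π)
    {E0 : Finset (Fin 3)} (hE : ∀ i, π i ∉ E0)
    {b : Finset (Fin n ⊕ γ)} (hb : b ∈ can B π E0) : E0.card + b.card = K := by
  have hinj : Function.Injective (Sum.map π (id : γ → γ)) :=
    Sum.map_injective.mpr ⟨hπ, Function.injective_id⟩
  have := hB.1 _ hb
  rw [Finset.card_union_of_disjoint (can_disjoint hE b), Finset.card_disjSum,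
    Finset.card_empty, Finset.card_image_of_injective _ hinj, add_zero] at this
  exact this

variable {B : Set (Finset (Fin 3 ⊕ γ))}

/-- A family of hyperovals with pairwise even intersections lies in one of the classes. -/
theorem Sys.subset_cls (S : Sys B) {F : Set (Finset γ)}
    (hF : ∀ H ∈ F, H.card = 6 ∧ IsArc (dlines B) H)
    (heven : ∀ H ∈ F, ∀ K ∈ F, Even (H ∩ K).card) : ∃ k, F ⊆ hcls B k := by
  by_cases hne : F.Nonempty
  · obtain ⟨H, hH⟩ := hne
    obtain ⟨k, hk⟩ := S.exists_cls (hF H hH).1 (hF H hH).2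
    refine ⟨k, ?_⟩
    intro K hK
    obtain ⟨j, hj⟩ := S.exists_cls (hF K hK).1 (hF K hK).2
    by_cases hjk : j = k
    · rw [← hjk]
      exact hj
    · exact absurd (heven K hK H hH) (S.hcls_inter_diff hjk hj hk)
  · rw [Set.not_nonempty_iff_eq_empty] at hne
    exact ⟨0, by rw [hne]; exact Set.empty_subset _⟩

theorem fin1_cases : ∀ s : Finset (Fin 1), s = ∅ ∨ s = Finset.univ := by decide

/-- Every Steiner system `S(3,6,22)` in split form is isomorphic to the canonical one. -/
theorem Sys.iso22 (S : Sys B) {γ' : Type*} [Fintype γ'] [DecidableEq γ']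
    (hγ' : Fintype.card γ' = 21) {D : Set (Finset (Fin 1 ⊕ γ'))}
    (hD : Cfsg.IsSteinerSystem 3 6 D) :
    Cfsg.SetSystemIso D (can B (fun _ : Fin 1 => (2 : Fin 3)) {0, 1}) := by
  classical
  have hc22 : Fintype.card (Fin 1 ⊕ γ') = 22 := by
    rw [Fintype.card_sum, Fintype.card_fin, hγ']
  have P' : Plane {l : Finset γ' | (Finset.univ : Finset (Fin 1)).disjSum l ∈ D} :=
    plane_of_split (n := 1) hγ' hD
  obtain ⟨e0, he0⟩ := Cfsg.Agent.S5626.result hγ' S.card P'.st S.plane.st
  have hline : ∀ l : Finset γ', (Finset.univ : Finset (Fin 1)).disjSum l ∈ D →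
      l.image e0 ∈ dlines B := by
    intro l hl
    rw [← he0]
    exact ⟨l, hl, rfl⟩
  have hline' : ∀ l' ∈ dlines B, ∃ l : Finset γ',
      (Finset.univ : Finset (Fin 1)).disjSum l ∈ D ∧ l.image e0 = l' := by
    intro l' hl'
    rw [← he0] at hl'
    exact hl'
  have hv6 : ∀ H : Finset γ', (∅ : Finset (Fin 1)).disjSum H ∈ D → H.card = 6 := by
    intro H hH
    have := hD.1 _ hH
    rw [Finset.card_disjSum, Finset.card_empty, zero_add] at this
    exact this
  have hvarc : ∀ H : Finset γ', (∅ : Finset (Fin 1)).disjSum H ∈ D →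
      ∀ l : Finset γ', (Finset.univ : Finset (Fin 1)).disjSum l ∈ D → (l ∩ H).card ≤ 2 := by
    intro H hH l hl
    have hne : (Finset.univ : Finset (Fin 1)).disjSum l ≠ (∅ : Finset (Fin 1)).disjSum H := by
      intro h
      have := congrArg Finset.toLeft h
      rw [Finset.toLeft_disjSum, Finset.toLeft_disjSum] at this
      exact Finset.univ_nonempty.ne_empty this
    have h := Cfsg.Agent.S0356.result hc22 hD hl hH hne
    rw [card_inter_split, Finset.toLeft_disjSum, Finset.toLeft_disjSum, Finset.toRight_disjSum,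
      Finset.toRight_disjSum, Finset.inter_empty, Finset.card_empty, zero_add] at h
    rcases h with h | h <;> omega
  have hveven : ∀ H : Finset γ', (∅ : Finset (Fin 1)).disjSum H ∈ D →
      ∀ K : Finset γ', (∅ : Finset (Fin 1)).disjSum K ∈ D → Even (H ∩ K).card := by
    intro H hH K hK
    by_cases hHK : H = K
    · subst hHK
      rw [Finset.inter_self, hv6 H hH]
      decide
    · have hne : (∅ : Finset (Fin 1)).disjSum H ≠ (∅ : Finset (Fin 1)).disjSum K := by
        intro h
        have := congrArg Finset.toRight h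
        rw [Finset.toRight_disjSum, Finset.toRight_disjSum] at this
        exact hHK this
      have h := Cfsg.Agent.S0356.result hc22 hD hH hK hne
      rw [card_inter_split, Finset.toLeft_disjSum, Finset.toLeft_disjSum,
        Finset.toRight_disjSum, Finset.toRight_disjSum, Finset.inter_self, Finset.card_empty,
        zero_add] at h
      rcases h with h | h <;> rw [h] <;> decide
  obtain ⟨k, hk⟩ := S.subset_cls
    (F := (fun H : Finset γ' => H.image e0) '' {H | (∅ : Finset (Fin 1)).disjSum H ∈ D}) (by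
      rintro _ ⟨H, hH, rfl⟩
      refine ⟨by rw [Finset.card_image_of_injective _ e0.injective, hv6 H hH], ?_⟩
      intro l' hl'
      obtain ⟨l, hl, rfl⟩ := hline' l' hl'
      rw [← Finset.image_inter _ _ e0.injective, Finset.card_image_of_injective _ e0.injective]
      exact hvarc H hH l hl) (by
      rintro _ ⟨H, hH, rfl⟩ _ ⟨K, hK, rfl⟩
      rw [← Finset.image_inter _ _ e0.injective, Finset.card_image_of_injective _ e0.injective]
      exact hveven H hH K hK)
  obtain ⟨g0, hg0l, hg0h⟩ := S.exists_aut (Equiv.swap k 2)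
  let e : Fin 1 ⊕ γ' ≃ Fin 1 ⊕ γ := Equiv.sumCongr (Equiv.refl _) (e0.trans g0)
  have himg : ∀ (s : Finset (Fin 1)) (t : Finset γ'),
      (s.disjSum t).image e = s.disjSum ((t.image e0).image g0) := by
    intro s t
    rw [image_disjSum_of (e : Fin 1 ⊕ γ' → Fin 1 ⊕ γ) id (e0.trans g0) (fun _ => rfl)
      (fun _ => rfl), Finset.image_id, Finset.image_image]
    rfl
  have hsub : (fun b : Finset (Fin 1 ⊕ γ') => b.image e) '' D ⊆
      can B (fun _ : Fin 1 => (2 : Fin 3)) {0, 1} := by
    rintro _ ⟨b, hb, rfl⟩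
    show (({0, 1} : Finset (Fin 3)).disjSum (∅ : Finset γ)) ∪
      (b.image e).image (Sum.map (fun _ : Fin 1 => (2 : Fin 3)) id) ∈ B
    have hb' : b.toLeft.disjSum b.toRight ∈ D := by
      rw [Finset.toLeft_disjSum_toRight]
      exact hb
    rw [← Finset.toLeft_disjSum_toRight (u := b), himg, lift_disjSum]
    rcases fin1_cases b.toLeft with h | h
    · rw [h] at hb' ⊢
      have h1 : (b.toRight.image e0).image g0 ∈ hcls B (Equiv.swap k 2 k) := by
        rw [← hg0h k]
        exact ⟨_, hk ⟨_, hb', rfl⟩, rfl⟩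
      rw [Equiv.swap_apply_left] at h1
      have : ({0, 1} : Finset (Fin 3)) ∪ (∅ : Finset (Fin 1)).image (fun _ => (2 : Fin 3)) =
          Finset.univ.erase 2 := by decide
      rw [this]
      exact h1
    · rw [h] at hb' ⊢
      have h1 : (b.toRight.image e0).image g0 ∈ dlines B := by
        rw [← hg0l]
        exact ⟨_, hline _ hb', rfl⟩
      have : ({0, 1} : Finset (Fin 3)) ∪
          (Finset.univ : Finset (Fin 1)).image (fun _ => (2 : Fin 3)) = Finset.univ := by decide
      rw [this]
      exact h1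
  have hπ : Function.Injective (fun _ : Fin 1 => (2 : Fin 3)) :=
    Function.injective_of_subsingleton _
  have hE : ∀ i : Fin 1, (fun _ : Fin 1 => (2 : Fin 3)) i ∉ ({0, 1} : Finset (Fin 3)) := by
    decide
  refine ⟨e, ?_⟩
  exact steiner_sub_eq (steiner_image hD e) hsub
    (fun c hc => by
      have := can_card S.st hπ hE hc
      have h2 : ({0, 1} : Finset (Fin 3)).card = 2 := by decide
      omega)
    (fun b hb c hc s hs hsb hsc => can_unique S.st hπ hE (by decide) hb hc hs hsb hsc)

end Cfsg.Agent.Lib.Helper93.W24
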