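import Cfsg.Agent.Lib.Helper93.W22b
import Cfsg.Agent.S0355

set_option autoImplicit false

namespace Cfsg.Agent.Lib.Helper93.W24

open Cfsg.Agent.Lib.Helper93.P4

/-- The number of blocks of a Steiner system in split form whose left part is the complement
of a single point. -/
theorem ncard_erase_cls {n t k : ℕ} {γ' : Type*} [Fintype γ'] [DecidableEq γ']
    {D : Set (Finset (Fin n ⊕ γ'))} (hD : Cfsg.IsSteinerSystem t k D) (k0 : Fin n)
    (hn : n ≤ t) :
    ∃ N1 N2 : ℕ,
      N1 * (k - (n - 1)).choose (t - (n - 1)) =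
        (Fintype.card (Fin n ⊕ γ') - (n - 1)).choose (t - (n - 1)) ∧
      N2 * (k - n).choose (t - n) = (Fintype.card (Fin n ⊕ γ') - n).choose (t - n) ∧
      {H : Finset γ' | (Finset.univ.erase k0 : Finset (Fin n)).disjSum H ∈ D}.ncard + N2 = N1 := by
  classical
  set Bf : Finset (Finset (Fin n ⊕ γ')) := Finset.univ.filter (· ∈ D) with hBf
  have hmem : ∀ b, b ∈ Bf ↔ b ∈ D := by
    intro b
    simp [hBf]
  have hc1 : ((Finset.univ.erase k0 : Finset (Fin n)).disjSum (∅ : Finset γ')).card = n - 1 := by
    rw [Finset.card_disjSum, Finset.card_erase_of_mem (Finset.mem_univ k0), Finset.card_univ,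
      Fintype.card_fin, Finset.card_empty, add_zero]
  have hc2 : ((Finset.univ : Finset (Fin n)).disjSum (∅ : Finset γ')).card = n := by
    rw [Finset.card_disjSum, Finset.card_univ, Fintype.card_fin, Finset.card_empty, add_zero]
  have h2 := steiner_lambda hD Bf hmem
    ((Finset.univ.erase k0 : Finset (Fin n)).disjSum (∅ : Finset γ')) (by rw [hc1]; omega)
  have h3 := steiner_lambda hD Bf hmem
    ((Finset.univ : Finset (Fin n)).disjSum (∅ : Finset γ')) (by rw [hc2]; exact hn)
  rw [hc1] at h2
  rw [hc2] at h3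
  refine ⟨_, _, h2, h3, ?_⟩
  have hsplit := Finset.card_filter_add_card_filter_not
    (s := Bf.filter (fun O => (Finset.univ.erase k0 : Finset (Fin n)).disjSum (∅ : Finset γ') ⊆ O))
    (fun O => k0 ∈ O.toLeft)
  have e3 : (Bf.filter (fun O => (Finset.univ.erase k0 : Finset (Fin n)).disjSum
      (∅ : Finset γ') ⊆ O)).filter (fun O => k0 ∈ O.toLeft) =
      Bf.filter (fun O => (Finset.univ : Finset (Fin n)).disjSum (∅ : Finset γ') ⊆ O) := by
    ext O
    simp only [Finset.mem_filter, Finset.disjSum_subset]
    constructor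
    · rintro ⟨⟨hO, h1, -⟩, hk⟩
      refine ⟨hO, ?_, Finset.empty_subset _⟩
      intro x _
      by_cases hx : x = k0
      · rw [hx]
        exact hk
      · exact h1 (Finset.mem_erase.mpr ⟨hx, Finset.mem_univ x⟩)
    · rintro ⟨hO, h1, -⟩
      exact ⟨⟨hO, (Finset.erase_subset _ _).trans h1, Finset.empty_subset _⟩,
        h1 (Finset.mem_univ k0)⟩
  have hset : {H : Finset γ' | (Finset.univ.erase k0 : Finset (Fin n)).disjSum H ∈ D} =
      ↑(Finset.univ.filter
        (fun H : Finset γ' => (Finset.univ.erase k0 : Finset (Fin n)).disjSum H ∈ D)) := by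
    ext H
    simp
  have hbij : (Finset.univ.filter
      (fun H : Finset γ' => (Finset.univ.erase k0 : Finset (Fin n)).disjSum H ∈ D)).card =
      ((Bf.filter (fun O => (Finset.univ.erase k0 : Finset (Fin n)).disjSum
        (∅ : Finset γ') ⊆ O)).filter (fun O => ¬ k0 ∈ O.toLeft)).card := by
    apply Finset.card_bij (fun H _ => (Finset.univ.erase k0 : Finset (Fin n)).disjSum H)
    · intro H hH
      rw [Finset.mem_filter] at hH
      rw [Finset.mem_filter, Finset.mem_filter, hmem, Finset.toLeft_disjSum,
        Finset.disjSum_subset, Finset.toLeft_disjSum]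
      exact ⟨⟨hH.2, subset_refl _, Finset.empty_subset _⟩, Finset.notMem_erase k0 _⟩
    · intro H _ K _ h
      have := congrArg Finset.toRight h
      rw [Finset.toRight_disjSum, Finset.toRight_disjSum] at this
      exact this
    · intro O hO
      rw [Finset.mem_filter, Finset.mem_filter, hmem, Finset.disjSum_subset] at hO
      obtain ⟨⟨hOB, hsub, -⟩, hk⟩ := hO
      have hL : O.toLeft = Finset.univ.erase k0 := by
        apply Finset.Subset.antisymm _ hsub
        intro x hx
        exact Finset.mem_erase.mpr ⟨fun h => hk (h ▸ hx), Finset.mem_univ x⟩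
      refine ⟨O.toRight, ?_, ?_⟩
      · rw [Finset.mem_filter]
        refine ⟨Finset.mem_univ _, ?_⟩
        rw [← hL, Finset.toLeft_disjSum_toRight]
        exact hOB
      · rw [← hL, Finset.toLeft_disjSum_toRight]
  rw [hset, Set.ncard_coe_finset, hbij, ← e3]
  omega

variable {γ : Type*} [Fintype γ] [DecidableEq γ]

omit [Fintype γ] in
theorem insert_inl_disjSum {ι : Type*} [DecidableEq ι] (a : ι) (s : Finset ι) (t : Finset γ) :
    insert (Sum.inl a) (s.disjSum t) = (insert a s).disjSum t := by
  ext x
  rcases x with b | c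
  · simp [Finset.inl_mem_disjSum]
  · simp [Finset.inr_mem_disjSum]

variable {B : Set (Finset (Fin 3 ⊕ γ))}

theorem erase_cases3 : ∀ k : Fin 3, k = 2 ∨
    (Finset.univ.erase k : Finset (Fin 3)) = insert 1 {2} ∨
    (Finset.univ.erase k : Finset (Fin 3)) = insert 0 {2} := by decide

/-- A heptad through the third special point, missing the first two and meeting every block
through them in one or three points, completes to a block with one of the first two. -/
theorem Sys.heptad_split (S : Sys B) {T : Finset (Fin 3 ⊕ γ)} (hT7 : T.card = 7)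
    (hTL : T.toLeft = {2})
    (hT : ∀ O ∈ B, O.toLeft = Finset.univ ∨ O.toLeft = Finset.univ.erase 2 →
      (T ∩ O).card = 1 ∨ (T ∩ O).card = 3) :
    insert (Sum.inl 0) T ∈ B ∨ insert (Sum.inl 1) T ∈ B := by
  have hT0 : T.toRight.card = 6 := by
    have := Finset.card_toLeft_add_card_toRight (u := T)
    rw [hTL, hT7, Finset.card_singleton] at this
    omega
  have hTeq : ({2} : Finset (Fin 3)).disjSum T.toRight = T := by
    rw [← hTL, Finset.toLeft_disjSum_toRight]
  have harc : IsArc (dlines B) T.toRight := by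
    intro l hl
    have h := hT _ hl (Or.inl Finset.toLeft_disjSum)
    rw [card_inter_split, Finset.toLeft_disjSum, Finset.toRight_disjSum, hTL, Finset.inter_univ,
      Finset.card_singleton] at h
    rw [Finset.inter_comm]
    rcases h with h | h <;> omega
  obtain ⟨k, hk⟩ := S.exists_cls hT0 harc
  have hk' : (Finset.univ.erase k : Finset (Fin 3)).disjSum T.toRight ∈ B := hk
  rcases erase_cases3 k with h | h | h
  · exfalso
    subst h
    have h := hT _ hk' (Or.inr Finset.toLeft_disjSum)
    rw [card_inter_split, Finset.toLeft_disjSum, Finset.toRight_disjSum, hTL, Finset.inter_self,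
      hT0] at h
    have : (({2} : Finset (Fin 3)) ∩ Finset.univ.erase 2).card = 0 := by decide
    omega
  · right
    rw [← hTeq, insert_inl_disjSum, ← h]
    exact hk'
  · left
    rw [← hTeq, insert_inl_disjSum, ← h]
    exact hk'

theorem fin3_cases : ∀ a : Fin 3, a = 0 ∨ a = 1 ∨ a = 2 := by decide

/-- In a Steiner system `S(5,8,24)`, a set of seven points missing `p` and `q` and meeting every
block through `p` and `q` in one or three points completes to a block with `p` or with `q`. -/
theorem heptad_extend {α : Type*} [Fintype α] [DecidableEq α] (hα : Fintype.card α = 24)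
    {B : Set (Finset α)} (hB : Cfsg.IsSteinerSystem 5 8 B) {p q : α} (hpq : p ≠ q)
    {S : Finset α} (hS : S.card = 7) (hp : p ∉ S) (hq : q ∉ S)
    (h : ∀ O ∈ B, p ∈ O → q ∈ O → (S ∩ O).card = 1 ∨ (S ∩ O).card = 3) :
    insert p S ∈ B ∨ insert q S ∈ B := by
  classical
  obtain ⟨r, hr⟩ : S.Nonempty := by
    rw [← Finset.card_pos, hS]
    norm_num
  have hrp : r ≠ p := fun h => hp (h ▸ hr)
  have hrq : r ≠ q := fun h => hq (h ▸ hr)
  have c : Fintype.card (Fin 3 ⊕ Fin 21) = 24 := by
    rw [Fintype.card_sum, Fintype.card_fin, Fintype.card_fin]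
  let φ0 : α ≃ Fin 3 ⊕ Fin 21 := Fintype.equivOfCardEq (hα.trans c.symm)
  have hinj : Function.Injective (fun i : Fin 3 => φ0 (![p, q, r] i)) := by
    intro i j hij
    have := φ0.injective hij
    fin_cases i <;> fin_cases j <;> simp_all
  obtain ⟨σ, hσ⟩ := Equiv.Perm.exists_extending_pair (fun i : Fin 3 => φ0 (![p, q, r] i))
    (fun i : Fin 3 => (Sum.inl i : Fin 3 ⊕ Fin 21)) hinj Sum.inl_injective
  let φ : α ≃ Fin 3 ⊕ Fin 21 := φ0.trans σ
  have hφp : φ p = Sum.inl 0 := hσ 0
  have hφq : φ q = Sum.inl 1 := hσ 1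
  have hφr : φ r = Sum.inl 2 := hσ 2
  have Sy : Sys ((fun b : Finset α => b.image φ) '' B) :=
    ⟨Fintype.card_fin 21, steiner_image hB φ⟩
  have hmem : ∀ (a : α) (u : Finset α), φ a ∈ u.image φ ↔ a ∈ u :=
    fun a u => φ.injective.mem_finset_image
  have hTL : (S.image φ).toLeft = {2} := by
    ext a
    rw [Finset.mem_toLeft, Finset.mem_singleton]
    rcases fin3_cases a with rfl | rfl | rfl
    · rw [← hφp, hmem]
      exact ⟨fun h => absurd h hp, fun h => absurd h (by decide)⟩
    · rw [← hφq, hmem]
      exact ⟨fun h => absurd h hq, fun h => absurd h (by decide)⟩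
    · rw [← hφr, hmem]
      exact ⟨fun _ => rfl, fun _ => hr⟩
  have key := Sy.heptad_split (T := S.image φ)
    (by rw [Finset.card_image_of_injective _ φ.injective, hS]) hTL (by
      rintro _ ⟨O, hO, rfl⟩ hL
      have h0 : (0 : Fin 3) ∈ (O.image φ).toLeft := by
        rcases hL with hL | hL <;> rw [hL] <;> decide
      have h1 : (1 : Fin 3) ∈ (O.image φ).toLeft := by
        rcases hL with hL | hL <;> rw [hL] <;> decide
      rw [Finset.mem_toLeft, ← hφp, hmem] at h0
      rw [Finset.mem_toLeft, ← hφq, hmem] at h1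
      rw [← Finset.image_inter _ _ φ.injective, Finset.card_image_of_injective _ φ.injective]
      exact h O hO h0 h1)
  have pull : ∀ x : α, insert (φ x) (S.image φ) ∈ (fun b : Finset α => b.image φ) '' B →
      insert x S ∈ B := by
    rintro x ⟨O, hO, hOe⟩
    rw [← Finset.image_insert] at hOe
    rw [← Finset.image_injective φ.injective hOe]
    exact hO
  rcases key with k | k
  · left
    rw [← hφp] at k
    exact pull p k
  · right
    rw [← hφq] at k
    exact pull q k

/-- A set of seven points of the derived plane meeting every line and every hyperoval of the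
first two classes in one or three points gives a block through the third special point. -/
theorem Sys.heptad_cor (S : Sys B) {T : Finset γ} (hT7 : T.card = 7)
    (hl : ∀ l ∈ dlines B, (T ∩ l).card = 1 ∨ (T ∩ l).card = 3)
    (h0 : ∀ H ∈ hcls B 0, (T ∩ H).card = 1 ∨ (T ∩ H).card = 3)
    (h1 : ∀ H ∈ hcls B 1, (T ∩ H).card = 1 ∨ (T ∩ H).card = 3) :
    ({2} : Finset (Fin 3)).disjSum T ∈ B := by
  classical
  have hX7 : ((∅ : Finset (Fin 3)).disjSum T).card = 7 := by
    rw [Finset.card_disjSum, Finset.card_empty, zero_add, hT7]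
  have hnot : ∀ a : Fin 3, Sum.inl a ∉ (∅ : Finset (Fin 3)).disjSum T := by
    intro a ha
    rw [Finset.inl_mem_disjSum] at ha
    exact Finset.notMem_empty _ ha
  have hcond : ∀ j' : Fin 3, j' ≠ 2 → ∀ H ∈ hcls B j',
      (T ∩ H).card = 1 ∨ (T ∩ H).card = 3 := by
    intro j' hj'
    have : j' = 0 ∨ j' = 1 := by
      revert j'
      decide
    rcases this with rfl | rfl
    · exact h0
    · exact h1
  have hmeet : ∀ O ∈ B, Sum.inl 2 ∈ O → ∀ j : Fin 3, j ≠ 2 → Sum.inl j ∈ O →
      (((∅ : Finset (Fin 3)).disjSum T) ∩ O).card = 1 ∨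
        (((∅ : Finset (Fin 3)).disjSum T) ∩ O).card = 3 := by
    intro O hO h2 j hj2 hj
    have hs : (((∅ : Finset (Fin 3)).disjSum T) ∩ O).card = (T ∩ O.toRight).card := by
      rw [card_inter_split, Finset.toLeft_disjSum, Finset.toRight_disjSum, Finset.empty_inter,
        Finset.card_empty, zero_add]
    rw [hs]
    have hc2 : 2 ≤ O.toLeft.card := by
      have hsub : ({2, j} : Finset (Fin 3)) ⊆ O.toLeft := by
        intro x hx
        rw [Finset.mem_insert, Finset.mem_singleton] at hx
        rcases hx with rfl | rfl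
        · exact Finset.mem_toLeft.mpr h2
        · exact Finset.mem_toLeft.mpr hj
      have := Finset.card_le_card hsub
      rw [Finset.card_pair (Ne.symm hj2)] at this
      exact this
    have hle : O.toLeft.card ≤ 3 := by
      have := Finset.card_le_univ O.toLeft
      rw [Fintype.card_fin] at this
      exact this
    by_cases h3 : O.toLeft.card = 3
    · have hu : O.toLeft = Finset.univ :=
        (Finset.card_eq_iff_eq_univ _).mp (by rw [h3, Fintype.card_fin])
      exact hl _ (S.type_three hO hu)
    · obtain ⟨j', hj'⟩ := card_two_fin3 _ (by omega : O.toLeft.card = 2)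
      have hj'2 : j' ≠ 2 := by
        rintro rfl
        have := Finset.mem_toLeft.mpr h2
        rw [hj'] at this
        exact Finset.notMem_erase _ _ this
      exact hcond j' hj'2 _ (S.type_two hO hj')
  have hne20 : (Sum.inl 2 : Fin 3 ⊕ γ) ≠ Sum.inl 0 :=
    fun h => absurd (Sum.inl_injective h) (by decide)
  have hne21 : (Sum.inl 2 : Fin 3 ⊕ γ) ≠ Sum.inl 1 :=
    fun h => absurd (Sum.inl_injective h) (by decide)
  have k0 := heptad_extend S.card24 S.st hne20 hX7 (hnot 2) (hnot 0)
    (fun O hO hp hq => hmeet O hO hp 0 (by decide) hq)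
  have k1 := heptad_extend S.card24 S.st hne21 hX7 (hnot 2) (hnot 1)
    (fun O hO hp hq => hmeet O hO hp 1 (by decide) hq)
  have goal_eq : insert (Sum.inl 2) ((∅ : Finset (Fin 3)).disjSum T) =
      ({2} : Finset (Fin 3)).disjSum T := by
    rw [insert_inl_disjSum]
    rfl
  rcases k0 with k0 | k0
  · rw [← goal_eq]
    exact k0
  · rcases k1 with k1 | k1
    · rw [← goal_eq]
      exact k1
    · exfalso
      have hne : insert (Sum.inl 0) ((∅ : Finset (Fin 3)).disjSum T) ≠
          insert (Sum.inl 1) ((∅ : Finset (Fin 3)).disjSum T) := by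
        intro h
        have hm : (Sum.inl 0 : Fin 3 ⊕ γ) ∈
            insert (Sum.inl 1) ((∅ : Finset (Fin 3)).disjSum T) :=
          h ▸ Finset.mem_insert_self _ _
        rw [Finset.mem_insert] at hm
        rcases hm with h | h
        · exact absurd (Sum.inl_injective h) (by decide)
        · exact hnot 0 h
      have hi := S.inter k0 k1 hne
      have hsub : (∅ : Finset (Fin 3)).disjSum T ⊆
          insert (Sum.inl 0) ((∅ : Finset (Fin 3)).disjSum T) ∩
            insert (Sum.inl 1) ((∅ : Finset (Fin 3)).disjSum T) :=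
        fun x hx => Finset.mem_inter.mpr
          ⟨Finset.mem_insert_of_mem hx, Finset.mem_insert_of_mem hx⟩
      have := Finset.card_le_card hsub
      rw [hX7] at this
      omega

end Cfsg.Agent.Lib.Helper93.W24
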