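import Cfsg.Agent.Lib.Helper93.W23

set_option autoImplicit false

namespace Cfsg.Agent.Lib.Helper93.W24

open Cfsg.Agent.Lib.Helper93.P4

theorem fin2_cases : ∀ s : Finset (Fin 2), s = ∅ ∨ s = {0} ∨ s = {1} ∨ s = Finset.univ := by
  decide

theorem fin2_erase : ∀ i : Fin 2, ∃ k0 : Fin 2, ({i} : Finset (Fin 2)) = Finset.univ.erase k0 := by
  decide

theorem perm_fin3 (k0 k1 : Fin 3) (h : k0 ≠ k1) :
    ∃ π : Equiv.Perm (Fin 3), π k0 = 1 ∧ π k1 = 0 := by
  obtain ⟨σ, hσ⟩ := Equiv.Perm.exists_extending_pair (fun i : Fin 2 => ![k0, k1] i)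
    (fun i : Fin 2 => ![(1 : Fin 3), 0] i) (by
      intro i j hij
      fin_cases i <;> fin_cases j <;> simp_all) (by decide)
  exact ⟨σ, hσ 0, hσ 1⟩

variable {γ : Type*} [Fintype γ] [DecidableEq γ] {B : Set (Finset (Fin 3 ⊕ γ))}

/-- Every Steiner system `S(4,7,23)` in split form is isomorphic to the canonical one. -/
theorem Sys.iso23 (S : Sys B) {γ' : Type*} [Fintype γ'] [DecidableEq γ']
    (hγ' : Fintype.card γ' = 21) {D : Set (Finset (Fin 2 ⊕ γ'))}
    (hD : Cfsg.IsSteinerSystem 4 7 D) :
    Cfsg.SetSystemIso D (can B (Fin.castSucc : Fin 2 → Fin 3) {2}) := by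
  classical
  have hc23 : Fintype.card (Fin 2 ⊕ γ') = 23 := by
    rw [Fintype.card_sum, Fintype.card_fin, hγ']
  have P' : Plane {l : Finset γ' | (Finset.univ : Finset (Fin 2)).disjSum l ∈ D} :=
    plane_of_split (n := 2) hγ' hD
  obtain ⟨e0, he0⟩ := Cfsg.Agent.S5626.result hγ' S.card P'.st S.plane.st
  have hmeet : ∀ (s s' : Finset (Fin 2)) (t t' : Finset γ'), s.disjSum t ∈ D →
      s'.disjSum t' ∈ D → s.disjSum t ≠ s'.disjSum t' →
      (s ∩ s').card + (t ∩ t').card = 1 ∨ (s ∩ s').card + (t ∩ t').card = 3 := by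
    intro s s' t t' h h' hne
    have := Cfsg.Agent.S0355.result hc23 hD h h' hne
    rw [card_inter_split, Finset.toLeft_disjSum, Finset.toLeft_disjSum, Finset.toRight_disjSum,
      Finset.toRight_disjSum] at this
    exact this
  have hneL : ∀ (s s' : Finset (Fin 2)) (t t' : Finset γ'), s ≠ s' →
      s.disjSum t ≠ s'.disjSum t' := by
    intro s s' t t' hss h
    have := congrArg Finset.toLeft h
    rw [Finset.toLeft_disjSum, Finset.toLeft_disjSum] at this
    exact hss this
  have hneR : ∀ (s : Finset (Fin 2)) (t t' : Finset γ'), t ≠ t' →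
      s.disjSum t ≠ s.disjSum t' := by
    intro s t t' htt h
    have := congrArg Finset.toRight h
    rw [Finset.toRight_disjSum, Finset.toRight_disjSum] at this
    exact htt this
  have hv6 : ∀ (i : Fin 2) (H : Finset γ'), ({i} : Finset (Fin 2)).disjSum H ∈ D →
      H.card = 6 := by
    intro i H hH
    have := hD.1 _ hH
    rw [Finset.card_disjSum, Finset.card_singleton] at this
    omega
  have hvarc : ∀ (i : Fin 2) (H : Finset γ'), ({i} : Finset (Fin 2)).disjSum H ∈ D →
      ∀ l : Finset γ', (Finset.univ : Finset (Fin 2)).disjSum l ∈ D → (l ∩ H).card ≤ 2 := by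
    intro i H hH l hl
    have hu : ∀ i : Fin 2, (Finset.univ : Finset (Fin 2)) ≠ {i} := by decide
    have h := hmeet _ _ _ _ hl hH (hneL _ _ _ _ (hu i))
    rw [Finset.univ_inter, Finset.card_singleton] at h
    omega
  have hveven : ∀ (i : Fin 2) (H K : Finset γ'), ({i} : Finset (Fin 2)).disjSum H ∈ D →
      ({i} : Finset (Fin 2)).disjSum K ∈ D → Even (H ∩ K).card := by
    intro i H K hH hK
    by_cases hHK : H = K
    · subst hHK
      rw [Finset.inter_self, hv6 i H hH]
      decide
    · have h := hmeet _ _ _ _ hH hK (hneR _ _ _ hHK)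
      rw [Finset.inter_self, Finset.card_singleton] at h
      rcases h with h | h
      · have : (H ∩ K).card = 0 := by omega
        rw [this]
        decide
      · have : (H ∩ K).card = 2 := by omega
        rw [this]
        decide
  have hvodd : ∀ (H K : Finset γ'), ({0} : Finset (Fin 2)).disjSum H ∈ D →
      ({1} : Finset (Fin 2)).disjSum K ∈ D → ¬ Even (H ∩ K).card := by
    intro H K hH hK
    have h := hmeet _ _ _ _ hH hK (hneL _ _ _ _ (by decide))
    have h01 : (({0} : Finset (Fin 2)) ∩ {1}).card = 0 := by decide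
    rw [h01, zero_add] at h
    rcases h with h | h <;> rw [h] <;> decide
  have hcount : ∀ i : Fin 2,
      {H : Finset γ' | ({i} : Finset (Fin 2)).disjSum H ∈ D}.ncard = 56 := by
    intro i
    obtain ⟨k0, hk0⟩ := fin2_erase i
    rw [hk0]
    obtain ⟨N1, N2, h1, h2, h3⟩ := ncard_erase_cls hD k0 (by norm_num : 2 ≤ 4)
    rw [hc23] at h1 h2
    have h1' : N1 * 20 = 1540 := h1
    have h2' : N2 * 10 = 210 := h2
    omega
  have hF : ∀ i : Fin 2, ∃ k, (fun H : Finset γ' => H.image e0) ''
      {H | ({i} : Finset (Fin 2)).disjSum H ∈ D} = hcls B k := by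
    intro i
    apply S.class_of_even
    · rintro _ ⟨H, hH, rfl⟩
      refine ⟨by rw [Finset.card_image_of_injective _ e0.injective, hv6 i H hH], ?_⟩
      intro l' hl'
      rw [← he0] at hl'
      obtain ⟨l, hl, rfl⟩ := hl'
      rw [← Finset.image_inter _ _ e0.injective, Finset.card_image_of_injective _ e0.injective]
      exact hvarc i H hH l hl
    · rintro _ ⟨H, hH, rfl⟩ _ ⟨K, hK, rfl⟩
      rw [← Finset.image_inter _ _ e0.injective, Finset.card_image_of_injective _ e0.injective]
      exact hveven i H K hH hK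
    · rw [Set.ncard_image_of_injective _ (Finset.image_injective e0.injective), hcount i]
  obtain ⟨k0, hk0⟩ := hF 0
  obtain ⟨k1, hk1⟩ := hF 1
  have hk01 : k0 ≠ k1 := by
    intro hkk
    obtain ⟨H, hH⟩ : {H : Finset γ' | ({0} : Finset (Fin 2)).disjSum H ∈ D}.Nonempty :=
      Set.nonempty_of_ncard_ne_zero (by rw [hcount 0]; norm_num)
    have hmem : H.image e0 ∈ hcls B k1 := by
      rw [← hkk, ← hk0]
      exact ⟨H, hH, rfl⟩
    rw [← hk1] at hmem
    obtain ⟨K, hK, hKH⟩ := hmem
    have hKH' : K = H := Finset.image_injective e0.injective hKH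
    subst hKH'
    have := hvodd K K hH hK
    rw [Finset.inter_self, hv6 0 K hH] at this
    exact this (by decide)
  obtain ⟨π, hπ0, hπ1⟩ := perm_fin3 k0 k1 hk01
  obtain ⟨g0, hg0l, hg0h⟩ := S.exists_aut π
  let f : γ' ≃ γ := e0.trans g0
  let e : Fin 2 ⊕ γ' ≃ Fin 2 ⊕ γ := Equiv.sumCongr (Equiv.refl _) f
  have hcomp : (fun l : Finset γ' => l.image f) =
      (fun l : Finset γ => l.image g0) ∘ (fun l : Finset γ' => l.image e0) := by
    funext l
    show l.image f = (l.image e0).image g0
    rw [Finset.image_image]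
    rfl
  have El : (fun l : Finset γ' => l.image f) ''
      {l | (Finset.univ : Finset (Fin 2)).disjSum l ∈ D} = dlines B := by
    rw [hcomp, Set.image_comp, he0, hg0l]
  have E0 : (fun l : Finset γ' => l.image f) ''
      {H | ({0} : Finset (Fin 2)).disjSum H ∈ D} = hcls B 1 := by
    rw [hcomp, Set.image_comp, hk0, hg0h, hπ0]
  have E1 : (fun l : Finset γ' => l.image f) ''
      {H | ({1} : Finset (Fin 2)).disjSum H ∈ D} = hcls B 0 := by
    rw [hcomp, Set.image_comp, hk1, hg0h, hπ1]
  have himg : ∀ (s : Finset (Fin 2)) (t : Finset γ'),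
      (s.disjSum t).image e = s.disjSum (t.image f) := by
    intro s t
    rw [image_disjSum_of (e : Fin 2 ⊕ γ' → Fin 2 ⊕ γ) id f (fun _ => rfl) (fun _ => rfl),
      Finset.image_id]
  have hsub : (fun b : Finset (Fin 2 ⊕ γ') => b.image e) '' D ⊆
      can B (Fin.castSucc : Fin 2 → Fin 3) {2} := by
    rintro _ ⟨b, hb, rfl⟩
    show (({2} : Finset (Fin 3)).disjSum (∅ : Finset γ)) ∪
      (b.image e).image (Sum.map (Fin.castSucc : Fin 2 → Fin 3) id) ∈ B
    have hb' : b.toLeft.disjSum b.toRight ∈ D := by
      rw [Finset.toLeft_disjSum_toRight]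
      exact hb
    rw [← Finset.toLeft_disjSum_toRight (u := b), himg, lift_disjSum]
    rcases fin2_cases b.toLeft with h | h | h | h
    · rw [h] at hb' ⊢
      have hs : ({2} : Finset (Fin 3)) ∪ (∅ : Finset (Fin 2)).image Fin.castSucc = {2} := by
        decide
      rw [hs]
      apply S.heptad_cor
      · rw [Finset.card_image_of_injective _ f.injective]
        have := hD.1 _ hb'
        rw [Finset.card_disjSum, Finset.card_empty, zero_add] at this
        exact this
      · intro l hl
        rw [← El] at hl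
        obtain ⟨l', hl', rfl⟩ := hl
        rw [← Finset.image_inter _ _ f.injective, Finset.card_image_of_injective _ f.injective]
        have h := hmeet _ _ _ _ hb' hl' (hneL _ _ _ _ (by decide))
        rw [Finset.empty_inter, Finset.card_empty, zero_add] at h
        exact h
      · intro H hH
        rw [← E1] at hH
        obtain ⟨H', hH', rfl⟩ := hH
        rw [← Finset.image_inter _ _ f.injective, Finset.card_image_of_injective _ f.injective]
        have h := hmeet _ _ _ _ hb' hH' (hneL _ _ _ _ (by decide))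
        rw [Finset.empty_inter, Finset.card_empty, zero_add] at h
        exact h
      · intro H hH
        rw [← E0] at hH
        obtain ⟨H', hH', rfl⟩ := hH
        rw [← Finset.image_inter _ _ f.injective, Finset.card_image_of_injective _ f.injective]
        have h := hmeet _ _ _ _ hb' hH' (hneL _ _ _ _ (by decide))
        rw [Finset.empty_inter, Finset.card_empty, zero_add] at h
        exact h
    · rw [h] at hb' ⊢
      have hs : ({2} : Finset (Fin 3)) ∪ ({0} : Finset (Fin 2)).image Fin.castSucc =
          Finset.univ.erase 1 := by decide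
      rw [hs]
      have : b.toRight.image f ∈ hcls B 1 := by
        rw [← E0]
        exact ⟨_, hb', rfl⟩
      exact this
    · rw [h] at hb' ⊢
      have hs : ({2} : Finset (Fin 3)) ∪ ({1} : Finset (Fin 2)).image Fin.castSucc =
          Finset.univ.erase 0 := by decide
      rw [hs]
      have : b.toRight.image f ∈ hcls B 0 := by
        rw [← E1]
        exact ⟨_, hb', rfl⟩
      exact this
    · rw [h] at hb' ⊢
      have hs : ({2} : Finset (Fin 3)) ∪ (Finset.univ : Finset (Fin 2)).image Fin.castSucc =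
          Finset.univ := by decide
      rw [hs]
      have : b.toRight.image f ∈ dlines B := by
        rw [← El]
        exact ⟨_, hb', rfl⟩
      exact this
  have hπinj : Function.Injective (Fin.castSucc : Fin 2 → Fin 3) := Fin.castSucc_injective 2
  have hE : ∀ i : Fin 2, (Fin.castSucc : Fin 2 → Fin 3) i ∉ ({2} : Finset (Fin 3)) := by decide
  refine ⟨e, ?_⟩
  exact steiner_sub_eq (steiner_image hD e) hsub
    (fun c hc => by
      have := can_card S.st hπinj hE hc
      have h2 : ({2} : Finset (Fin 3)).card = 1 := by decide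
      omega)
    (fun b hb c hc s hs hsb hsc => can_unique S.st hπinj hE (by decide) hb hc hs hsb hsc)

end Cfsg.Agent.Lib.Helper93.W24
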