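import Cfsg.Agent.Lib.Helper93.P4d
import Cfsg.Agent.S0350
import Cfsg.Agent.S0352
import Cfsg.Agent.S0353
import Cfsg.Agent.S5626

set_option autoImplicit false

namespace Cfsg.Agent.Lib.Helper93.W24

open Cfsg.Agent.Lib.Helper93.P4

variable {γ : Type*} [Fintype γ] [DecidableEq γ]

/-- A Steiner system `S(5,8,24)` on `Fin 3 ⊕ γ`. -/
structure Sys (B : Set (Finset (Fin 3 ⊕ γ))) : Prop where
  card : Fintype.card γ = 21
  st : Cfsg.IsSteinerSystem 5 8 B

variable {B : Set (Finset (Fin 3 ⊕ γ))}

omit [DecidableEq γ] in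
theorem Sys.card24 (S : Sys B) : Fintype.card (Fin 3 ⊕ γ) = 24 := by
  rw [Fintype.card_sum, Fintype.card_fin, S.card]

theorem Sys.inter (S : Sys B) {b c : Finset (Fin 3 ⊕ γ)} (hb : b ∈ B) (hc : c ∈ B)
    (hbc : b ≠ c) : (b ∩ c).card = 0 ∨ (b ∩ c).card = 2 ∨ (b ∩ c).card = 4 :=
  Cfsg.Agent.S0352.result S.card24 S.st hb hc hbc

theorem Sys.symmDiff_mem (S : Sys B) {b c : Finset (Fin 3 ⊕ γ)} (hb : b ∈ B) (hc : c ∈ B)
    (h4 : (b ∩ c).card = 4) : symmDiff b c ∈ B :=
  Cfsg.Agent.S0353.result S.card24 S.st hb hc h4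

omit [Fintype γ] in
/-- The size of an intersection, split into the two parts. -/
theorem card_inter_split {ι : Type*} [DecidableEq ι] (u v : Finset (ι ⊕ γ)) :
    (u ∩ v).card = (u.toLeft ∩ v.toLeft).card + (u.toRight ∩ v.toRight).card := by
  rw [← Finset.toLeft_inter, ← Finset.toRight_inter, Finset.card_toLeft_add_card_toRight]

/-- The lines of the derived plane. -/
def dlines (B : Set (Finset (Fin 3 ⊕ γ))) : Set (Finset γ) :=
  {l | (Finset.univ : Finset (Fin 3)).disjSum l ∈ B}

/-- The hyperoval classes. -/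
def hcls (B : Set (Finset (Fin 3 ⊕ γ))) (k : Fin 3) : Set (Finset γ) :=
  {H | (Finset.univ.erase k : Finset (Fin 3)).disjSum H ∈ B}

omit [DecidableEq γ] in
theorem Sys.plane (S : Sys B) : Plane (dlines B) := by
  refine ⟨S.card, ?_, ?_⟩
  · intro l hl
    have := S.st.1 _ hl
    rw [Finset.card_disjSum, Finset.card_univ, Fintype.card_fin] at this
    omega
  · intro s hs
    have h5 : ((Finset.univ : Finset (Fin 3)).disjSum s).card = 5 := by
      rw [Finset.card_disjSum, Finset.card_univ, Fintype.card_fin, hs]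
    obtain ⟨O, ⟨hO, hsub⟩, huniq⟩ := S.st.2 _ h5
    rw [Finset.disjSum_subset] at hsub
    have hleft : O.toLeft = Finset.univ := Finset.univ_subset_iff.mp hsub.1
    refine ⟨O.toRight, ⟨?_, hsub.2⟩, ?_⟩
    · show (Finset.univ : Finset (Fin 3)).disjSum O.toRight ∈ B
      rw [← hleft, Finset.toLeft_disjSum_toRight]
      exact hO
    · rintro l ⟨hl, hsl⟩
      have := huniq _ ⟨hl, Finset.disjSum_mono (subset_refl _) hsl⟩
      rw [← this, Finset.toRight_disjSum]

theorem Sys.hcls_hyp (S : Sys B) {k : Fin 3} {H : Finset γ} (hH : H ∈ hcls B k) :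
    Hyp (dlines B) H := by
  refine ⟨S.plane, ?_, ?_⟩
  · have := S.st.1 _ hH
    rw [Finset.card_disjSum, Finset.card_erase_of_mem (Finset.mem_univ k), Finset.card_univ,
      Fintype.card_fin] at this
    omega
  · intro l hl
    have hne : (Finset.univ : Finset (Fin 3)).disjSum l ≠ (Finset.univ.erase k).disjSum H := by
      intro h
      have := congrArg Finset.toLeft h
      rw [Finset.toLeft_disjSum, Finset.toLeft_disjSum] at this
      have hk : k ∈ (Finset.univ.erase k : Finset (Fin 3)) := this ▸ Finset.mem_univ k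
      exact Finset.notMem_erase k _ hk
    have h := S.inter hl hH hne
    rw [card_inter_split, Finset.toLeft_disjSum, Finset.toLeft_disjSum, Finset.toRight_disjSum,
      Finset.toRight_disjSum] at h
    have h2 : ((Finset.univ : Finset (Fin 3)) ∩ Finset.univ.erase k).card = 2 := by
      rw [Finset.univ_inter, Finset.card_erase_of_mem (Finset.mem_univ k), Finset.card_univ,
        Fintype.card_fin]
    omega

theorem erase_inter_card : ∀ k k' : Fin 3, k ≠ k' →
    ((Finset.univ.erase k : Finset (Fin 3)) ∩ Finset.univ.erase k').card = 1 := by decide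

theorem card_two_fin3 : ∀ s : Finset (Fin 3), s.card = 2 → ∃ k, s = Finset.univ.erase k := by
  decide

theorem Sys.hcls_inter_same (S : Sys B) {k : Fin 3} {H K : Finset γ} (hH : H ∈ hcls B k)
    (hK : K ∈ hcls B k) : Even (H ∩ K).card := by
  by_cases hHK : H = K
  · subst hHK
    rw [Finset.inter_self, (S.hcls_hyp hH).card]
    decide
  · have hne : (Finset.univ.erase k : Finset (Fin 3)).disjSum H ≠
        (Finset.univ.erase k).disjSum K := by
      intro h
      have := congrArg Finset.toRight h
      rw [Finset.toRight_disjSum, Finset.toRight_disjSum] at this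
      exact hHK this
    have h := S.inter hH hK hne
    rw [card_inter_split, Finset.toLeft_disjSum, Finset.toLeft_disjSum, Finset.toRight_disjSum,
      Finset.toRight_disjSum, Finset.inter_self, Finset.card_erase_of_mem (Finset.mem_univ k),
      Finset.card_univ, Fintype.card_fin] at h
    rcases h with h | h | h
    · omega
    · have : (H ∩ K).card = 0 := by omega
      rw [this]
      decide
    · have : (H ∩ K).card = 2 := by omega
      rw [this]
      decide

theorem Sys.hcls_inter_diff (S : Sys B) {k k' : Fin 3} (hkk' : k ≠ k') {H K : Finset γ}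
    (hH : H ∈ hcls B k) (hK : K ∈ hcls B k') : ¬ Even (H ∩ K).card := by
  have hne : (Finset.univ.erase k : Finset (Fin 3)).disjSum H ≠
      (Finset.univ.erase k').disjSum K := by
    intro h
    have := congrArg Finset.toLeft h
    rw [Finset.toLeft_disjSum, Finset.toLeft_disjSum] at this
    have hk : k' ∈ (Finset.univ.erase k : Finset (Fin 3)) :=
      Finset.mem_erase.mpr ⟨Ne.symm hkk', Finset.mem_univ _⟩
    rw [this] at hk
    exact Finset.notMem_erase _ _ hk
  have h := S.inter hH hK hne
  rw [card_inter_split, Finset.toLeft_disjSum, Finset.toLeft_disjSum, Finset.toRight_disjSum,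
    Finset.toRight_disjSum, erase_inter_card k k' hkk'] at h
  rcases h with h | h | h
  · omega
  · have : (H ∩ K).card = 1 := by omega
    rw [this]
    decide
  · have : (H ∩ K).card = 3 := by omega
    rw [this]
    decide

/-- The finset of blocks. -/
noncomputable def blocks (B : Set (Finset (Fin 3 ⊕ γ))) : Finset (Finset (Fin 3 ⊕ γ)) :=
  @Finset.filter _ (· ∈ B) (Classical.decPred _) Finset.univ

omit [DecidableEq γ] in
theorem mem_blocks {O : Finset (Fin 3 ⊕ γ)} : O ∈ blocks B ↔ O ∈ B := by
  simp [blocks]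

/-- The finset of hyperovals of a class. -/
noncomputable def hclsF (B : Set (Finset (Fin 3 ⊕ γ))) (k : Fin 3) : Finset (Finset γ) :=
  @Finset.filter _ (· ∈ hcls B k) (Classical.decPred _) Finset.univ

omit [DecidableEq γ] in
theorem mem_hclsF {k : Fin 3} {H : Finset γ} : H ∈ hclsF B k ↔ H ∈ hcls B k := by
  simp [hclsF]

theorem Sys.card_hclsF (S : Sys B) (k : Fin 3) : (hclsF B k).card = 56 := by
  classical
  have h2 := steiner_lambda S.st (blocks B) (fun _ => mem_blocks)
    ((Finset.univ.erase k : Finset (Fin 3)).disjSum (∅ : Finset γ)) (by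
      rw [Finset.card_disjSum, Finset.card_erase_of_mem (Finset.mem_univ k), Finset.card_univ,
        Fintype.card_fin, Finset.card_empty]
      norm_num)
  have h3 := steiner_lambda S.st (blocks B) (fun _ => mem_blocks)
    ((Finset.univ : Finset (Fin 3)).disjSum (∅ : Finset γ)) (by
      rw [Finset.card_disjSum, Finset.card_univ, Fintype.card_fin, Finset.card_empty]
      norm_num)
  have e2 : (blocks B).filter (fun O => (Finset.univ.erase k : Finset (Fin 3)).disjSum
      (∅ : Finset γ) ⊆ O) = (blocks B).filter (fun O => Finset.univ.erase k ⊆ O.toLeft) := by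
    apply Finset.filter_congr
    intro O _
    rw [Finset.disjSum_subset]
    exact ⟨fun h => h.1, fun h => ⟨h, Finset.empty_subset _⟩⟩
  have e3 : (blocks B).filter (fun O => (Finset.univ : Finset (Fin 3)).disjSum
      (∅ : Finset γ) ⊆ O) = ((blocks B).filter (fun O => Finset.univ.erase k ⊆ O.toLeft)).filter
        (fun O => k ∈ O.toLeft) := by
    rw [Finset.filter_filter]
    apply Finset.filter_congr
    intro O _
    rw [Finset.disjSum_subset]
    constructor
    · intro h
      exact ⟨(Finset.erase_subset _ _).trans h.1, h.1 (Finset.mem_univ k)⟩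
    · rintro ⟨h1, h2⟩
      refine ⟨?_, Finset.empty_subset _⟩
      intro x _
      by_cases hx : x = k
      · rw [hx]; exact h2
      · exact h1 (Finset.mem_erase.mpr ⟨hx, Finset.mem_univ x⟩)
  rw [e2] at h2
  rw [e3] at h3
  rw [Finset.card_disjSum, Finset.card_erase_of_mem (Finset.mem_univ k), Finset.card_univ,
    Fintype.card_fin, Finset.card_empty, S.card24] at h2
  rw [Finset.card_disjSum, Finset.card_univ, Fintype.card_fin, Finset.card_empty, S.card24] at h3
  have h2' : ((blocks B).filter (fun O => Finset.univ.erase k ⊆ O.toLeft)).card * 20 = 1540 := h2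
  have h3' : (((blocks B).filter (fun O => Finset.univ.erase k ⊆ O.toLeft)).filter
      (fun O => k ∈ O.toLeft)).card * 10 = 210 := h3
  have hsplit := Finset.card_filter_add_card_filter_not
    (s := (blocks B).filter (fun O => Finset.univ.erase k ⊆ O.toLeft)) (fun O => k ∈ O.toLeft)
  have hbij : (hclsF B k).card = (((blocks B).filter
      (fun O => Finset.univ.erase k ⊆ O.toLeft)).filter (fun O => ¬ k ∈ O.toLeft)).card := by
    apply Finset.card_bij (fun H _ => (Finset.univ.erase k : Finset (Fin 3)).disjSum H)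
    · intro H hH
      rw [mem_hclsF] at hH
      rw [Finset.mem_filter, Finset.mem_filter, mem_blocks, Finset.toLeft_disjSum]
      exact ⟨⟨hH, subset_refl _⟩, Finset.notMem_erase k _⟩
    · intro H _ K _ h
      have := congrArg Finset.toRight h
      rw [Finset.toRight_disjSum, Finset.toRight_disjSum] at this
      exact this
    · intro O hO
      rw [Finset.mem_filter, Finset.mem_filter, mem_blocks] at hO
      obtain ⟨⟨hOB, hsub⟩, hk⟩ := hO
      have hL : O.toLeft = Finset.univ.erase k := by
        apply Finset.Subset.antisymm _ hsub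
        intro x hx
        exact Finset.mem_erase.mpr ⟨fun h => hk (h ▸ hx), Finset.mem_univ x⟩
      refine ⟨O.toRight, ?_, ?_⟩
      · rw [mem_hclsF]
        show (Finset.univ.erase k : Finset (Fin 3)).disjSum O.toRight ∈ B
        rw [← hL, Finset.toLeft_disjSum_toRight]
        exact hOB
      · rw [← hL, Finset.toLeft_disjSum_toRight]
  omega

/-- Every hyperoval of the derived plane belongs to one of the three classes. -/
theorem Sys.exists_cls (S : Sys B) {H : Finset γ} (hH6 : H.card = 6)
    (hH : IsArc (dlines B) H) : ∃ k, H ∈ hcls B k := by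
  classical
  by_contra hcon
  push Not at hcon
  have hdisj : ∀ k k' : Fin 3, k ≠ k' → Disjoint (hclsF B k) (hclsF B k') := by
    intro k k' hkk'
    rw [Finset.disjoint_left]
    intro K hK hK'
    rw [mem_hclsF] at hK hK'
    have := S.hcls_inter_diff hkk' hK hK'
    rw [Finset.inter_self, (S.hcls_hyp hK).card] at this
    exact this (by decide)
  have hsub : (hclsF B 0 ∪ hclsF B 1 ∪ hclsF B 2) ⊆ (arcs (dlines B) 6).erase H := by
    intro K hK
    rw [Finset.mem_union, Finset.mem_union] at hK
    have hK' : ∃ k, K ∈ hcls B k := by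
      rcases hK with (h | h) | h
      · exact ⟨0, mem_hclsF.mp h⟩
      · exact ⟨1, mem_hclsF.mp h⟩
      · exact ⟨2, mem_hclsF.mp h⟩
    obtain ⟨k, hk⟩ := hK'
    have Q := S.hcls_hyp hk
    rw [Finset.mem_erase, mem_arcs]
    exact ⟨fun h => hcon k (h ▸ hk), Q.card, Q.arc⟩
  have hcard : (hclsF B 0 ∪ hclsF B 1 ∪ hclsF B 2).card = 168 := by
    rw [Finset.card_union_of_disjoint, Finset.card_union_of_disjoint (hdisj 0 1 (by decide)),
      S.card_hclsF, S.card_hclsF, S.card_hclsF]
    rw [Finset.disjoint_union_left]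
    exact ⟨hdisj 0 2 (by decide), hdisj 1 2 (by decide)⟩
  have h1 := Finset.card_le_card hsub
  rw [hcard, Finset.card_erase_of_mem (mem_arcs.mpr ⟨hH6, hH⟩), S.plane.card_arcs_six] at h1
  omega

omit [DecidableEq γ] in
theorem Sys.type_three (_S : Sys B) {O : Finset (Fin 3 ⊕ γ)} (hO : O ∈ B)
    (h : O.toLeft = Finset.univ) : O.toRight ∈ dlines B := by
  show (Finset.univ : Finset (Fin 3)).disjSum O.toRight ∈ B
  rw [← h, Finset.toLeft_disjSum_toRight]
  exact hO

omit [DecidableEq γ] in
theorem Sys.type_two (_S : Sys B) {O : Finset (Fin 3 ⊕ γ)} (hO : O ∈ B) {k : Fin 3}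
    (h : O.toLeft = Finset.univ.erase k) : O.toRight ∈ hcls B k := by
  show (Finset.univ.erase k : Finset (Fin 3)).disjSum O.toRight ∈ B
  rw [← h, Finset.toLeft_disjSum_toRight]
  exact hO

end Cfsg.Agent.Lib.Helper93.W24
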