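import Cfsg.Agent.Lib.Helper93.W24a

set_option autoImplicit false

namespace Cfsg.Agent.Lib.Helper93.W24

open Cfsg.Agent.Lib.Helper93.P4

/-- The image of a Steiner system under a bijection is a Steiner system. -/
theorem steiner_image {α α' : Type*} [DecidableEq α] [DecidableEq α'] {t k : ℕ}
    {B : Set (Finset α)} (hB : Cfsg.IsSteinerSystem t k B) (φ : α ≃ α') :
    Cfsg.IsSteinerSystem t k ((fun b => b.image φ) '' B) := by
  refine ⟨?_, ?_⟩
  · rintro _ ⟨b, hb, rfl⟩
    rw [Finset.card_image_of_injective _ φ.injective]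
    exact hB.1 b hb
  · intro s hs
    have hs0 : (s.image φ.symm).card = t := by
      rw [Finset.card_image_of_injective _ φ.symm.injective, hs]
    obtain ⟨b, ⟨hb, hsb⟩, huniq⟩ := hB.2 _ hs0
    have hss : (s.image φ.symm).image φ = s := by
      ext x
      rw [Finset.mem_image]
      constructor
      · rintro ⟨y, hy, rfl⟩
        obtain ⟨z, hz, rfl⟩ := Finset.mem_image.mp hy
        rw [Equiv.apply_symm_apply]
        exact hz
      · intro hx
        exact ⟨φ.symm x, Finset.mem_image_of_mem _ hx, Equiv.apply_symm_apply _ _⟩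
    refine ⟨b.image φ, ⟨⟨b, hb, rfl⟩, ?_⟩, ?_⟩
    · rw [← hss]
      exact Finset.image_subset_image hsb
    · rintro _ ⟨⟨b', hb', rfl⟩, hsub⟩
      have : s.image φ.symm ⊆ b' := by
        intro x hx
        obtain ⟨y, hy, rfl⟩ := Finset.mem_image.mp hx
        obtain ⟨z, hz, hzy⟩ := Finset.mem_image.mp (hsub hy)
        rw [← hzy, Equiv.symm_apply_apply]
        exact hz
      rw [huniq b' ⟨hb', this⟩]

theorem iso_image {α α' : Type*} [DecidableEq α'] (B : Set (Finset α)) (φ : α ≃ α') :
    Cfsg.SetSystemIso B ((fun b => b.image φ) '' B) := ⟨φ, rfl⟩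

theorem iso_symm {α α' : Type*} [DecidableEq α] [DecidableEq α'] {B : Set (Finset α)}
    {B' : Set (Finset α')} (h : Cfsg.SetSystemIso B B') : Cfsg.SetSystemIso B' B := by
  obtain ⟨e, rfl⟩ := h
  refine ⟨e.symm, ?_⟩
  have hb : ∀ b : Finset α, (b.image e).image e.symm = b := by
    intro b
    ext x
    rw [Finset.mem_image]
    constructor
    · rintro ⟨y, hy, rfl⟩
      obtain ⟨z, hz, rfl⟩ := Finset.mem_image.mp hy
      rw [Equiv.symm_apply_apply]
      exact hz
    · intro hx
      exact ⟨e x, Finset.mem_image_of_mem _ hx, Equiv.symm_apply_apply _ _⟩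
  ext b
  constructor
  · rintro ⟨_, ⟨c, hc, rfl⟩, rfl⟩
    show (c.image e).image e.symm ∈ B
    rw [hb]
    exact hc
  · intro hbB
    exact ⟨b.image e, ⟨b, hbB, rfl⟩, hb b⟩

theorem iso_trans {α α' α'' : Type*} [DecidableEq α'] [DecidableEq α''] {B : Set (Finset α)}
    {B' : Set (Finset α')} {B'' : Set (Finset α'')} (h : Cfsg.SetSystemIso B B')
    (h' : Cfsg.SetSystemIso B' B'') : Cfsg.SetSystemIso B B'' := by
  obtain ⟨e, rfl⟩ := h
  obtain ⟨e', rfl⟩ := h'
  refine ⟨e.trans e', ?_⟩
  rw [Set.image_image]
  congr 1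
  ext b
  rw [Finset.image_image]
  rfl

variable {γ : Type*} [Fintype γ] [DecidableEq γ] {B : Set (Finset (Fin 3 ⊕ γ))}
  {γ' : Type*} [Fintype γ'] [DecidableEq γ'] {B' : Set (Finset (Fin 3 ⊕ γ'))}

/-- Any two Steiner systems `S(5,8,24)` in split form are isomorphic. -/
theorem Sys.iso (S : Sys B) (S' : Sys B') : Cfsg.SetSystemIso B B' := by
  classical
  have P := S.plane
  have P' := S'.plane
  obtain ⟨e0, he0⟩ := Cfsg.Agent.S5626.result S.card S'.card P.st P'.st
  have hline : ∀ l ∈ dlines B, l.image e0 ∈ dlines B' := by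
    intro l hl
    rw [← he0]
    exact ⟨l, hl, rfl⟩
  have hline' : ∀ l' ∈ dlines B', ∃ l ∈ dlines B, l.image e0 = l' := by
    intro l' hl'
    rw [← he0] at hl'
    exact hl'
  have harc : ∀ H : Finset γ, IsArc (dlines B) H → IsArc (dlines B') (H.image e0) := by
    intro H hH l' hl'
    obtain ⟨l, hl, rfl⟩ := hline' l' hl'
    rw [← Finset.image_inter _ _ e0.injective, Finset.card_image_of_injective _ e0.injective]
    exact hH l hl
  have hcls_img : ∀ k (H : Finset γ), H ∈ hcls B k → ∃ j, H.image e0 ∈ hcls B' j := by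
    intro k H hH
    have Q := S.hcls_hyp hH
    exact S'.exists_cls (by rw [Finset.card_image_of_injective _ e0.injective, Q.card])
      (harc H Q.arc)
  have hne : ∀ k, ∃ H, H ∈ hcls B k := by
    intro k
    obtain ⟨H, hH⟩ := Finset.card_pos.mp (by rw [S.card_hclsF k]; norm_num :
      0 < (hclsF B k).card)
    exact ⟨H, mem_hclsF.mp hH⟩
  choose H0 hH0 using hne
  choose π hπ using fun k => hcls_img k (H0 k) (hH0 k)
  have hπall : ∀ k H, H ∈ hcls B k → H.image e0 ∈ hcls B' (π k) := by
    intro k H hH
    obtain ⟨j, hj⟩ := hcls_img k H hH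
    by_cases hjk : j = π k
    · rw [← hjk]
      exact hj
    · exfalso
      have h1 := S'.hcls_inter_diff hjk hj (hπ k)
      have h2 := S.hcls_inter_same hH (hH0 k)
      rw [← Finset.image_inter _ _ e0.injective,
        Finset.card_image_of_injective _ e0.injective] at h1
      exact h1 h2
  have hπinj : Function.Injective π := by
    intro k k' h
    by_contra hkk'
    have h1 := S.hcls_inter_diff hkk' (hH0 k) (hH0 k')
    have hk' := hπ k'
    rw [← h] at hk'
    have h2 := S'.hcls_inter_same (hπ k) hk'
    rw [← Finset.image_inter _ _ e0.injective,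
      Finset.card_image_of_injective _ e0.injective] at h2
    exact h1 h2
  have hπsurj : Function.Surjective π := Finite.injective_iff_surjective.mp hπinj
  let πe : Fin 3 ≃ Fin 3 := Equiv.ofBijective π ⟨hπinj, hπsurj⟩
  let e : Fin 3 ⊕ γ ≃ Fin 3 ⊕ γ' := Equiv.sumCongr πe e0
  have himg : ∀ (s : Finset (Fin 3)) (t : Finset γ),
      (s.disjSum t).image e = (s.image π).disjSum (t.image e0) := by
    intro s t
    ext x
    rw [Finset.mem_image]
    constructor
    · rintro ⟨y, hy, rfl⟩
      rcases y with a | b
      · rw [Finset.inl_mem_disjSum] at hy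
        show Sum.inl (π a) ∈ _
        rw [Finset.inl_mem_disjSum]
        exact Finset.mem_image_of_mem π hy
      · rw [Finset.inr_mem_disjSum] at hy
        show Sum.inr (e0 b) ∈ _
        rw [Finset.inr_mem_disjSum]
        exact Finset.mem_image_of_mem e0 hy
    · intro hx
      rcases x with a | b
      · rw [Finset.inl_mem_disjSum] at hx
        obtain ⟨a0, ha0, rfl⟩ := Finset.mem_image.mp hx
        exact ⟨Sum.inl a0, Finset.inl_mem_disjSum.mpr ha0, rfl⟩
      · rw [Finset.inr_mem_disjSum] at hx
        obtain ⟨b0, hb0, rfl⟩ := Finset.mem_image.mp hx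
        exact ⟨Sum.inr b0, Finset.inr_mem_disjSum.mpr hb0, rfl⟩
  have hhigh : ∀ O ∈ B, 2 ≤ O.toLeft.card → O.image e ∈ B' := by
    intro O hO h2
    rw [← Finset.toLeft_disjSum_toRight (u := O), himg]
    have hle : O.toLeft.card ≤ 3 := by
      have := Finset.card_le_univ O.toLeft
      rw [Fintype.card_fin] at this
      exact this
    by_cases h3 : O.toLeft.card = 3
    · have hu : O.toLeft = Finset.univ :=
        (Finset.card_eq_iff_eq_univ _).mp (by rw [h3, Fintype.card_fin])
      rw [hu, Finset.image_univ_of_surjective hπsurj]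
      exact hline _ (S.type_three hO hu)
    · have h2' : O.toLeft.card = 2 := by omega
      obtain ⟨k, hk⟩ := card_two_fin3 _ h2'
      rw [hk, Finset.image_erase hπinj, Finset.image_univ_of_surjective hπsurj]
      exact hπall k _ (S.type_two hO hk)
  have hall : ∀ O ∈ B, O.image e ∈ B' := by
    intro O hO
    by_cases h2 : 2 ≤ O.toLeft.card
    · exact hhigh O hO h2
    · push Not at h2
      have hR : 7 ≤ O.toRight.card := by
        have := Finset.card_toLeft_add_card_toRight (u := O)
        rw [S.st.1 O hO] at this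
        omega
      obtain ⟨p, hp⟩ : O.toRight.Nonempty := by
        rw [← Finset.card_pos]
        omega
      have hsum := P.pencil_sum_mem p O.toRight hp
      obtain ⟨l, hl, hl3⟩ : ∃ l ∈ pencil (dlines B) p, 3 ≤ (l ∩ O.toRight).card := by
        by_contra hcon
        push Not at hcon
        have := Finset.sum_le_card_nsmul (pencil (dlines B) p) (fun l => (l ∩ O.toRight).card) 2
          (fun l hl => by have := hcon l hl; omega)
        rw [hsum, P.card_pencil, smul_eq_mul] at this
        omega
      rw [mem_pencil] at hl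
      have hO1B : (Finset.univ : Finset (Fin 3)).disjSum l ∈ B := hl.1
      have hne : O ≠ (Finset.univ : Finset (Fin 3)).disjSum l := by
        intro h
        rw [h, Finset.toLeft_disjSum, Finset.card_univ, Fintype.card_fin] at h2
        omega
      have hint : (O ∩ (Finset.univ : Finset (Fin 3)).disjSum l).card = 4 := by
        have h := S.inter hO hO1B hne
        have hs := card_inter_split O ((Finset.univ : Finset (Fin 3)).disjSum l)
        rw [Finset.toLeft_disjSum, Finset.toRight_disjSum, Finset.inter_univ] at hs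
        rw [Finset.inter_comm] at hl3
        omega
      have hO2B := S.symmDiff_mem hO hO1B hint
      have hO2L : 2 ≤ (symmDiff O ((Finset.univ : Finset (Fin 3)).disjSum l)).toLeft.card := by
        have : (symmDiff O ((Finset.univ : Finset (Fin 3)).disjSum l)).toLeft =
            Finset.univ \ O.toLeft := by
          ext x
          rw [Finset.mem_toLeft, Finset.mem_symmDiff, Finset.inl_mem_disjSum, Finset.mem_sdiff,
            Finset.mem_toLeft]
          simp
        rw [this, Finset.card_univ_sdiff, Fintype.card_fin]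
        omega
      have hO_eq : O = symmDiff ((Finset.univ : Finset (Fin 3)).disjSum l)
          (symmDiff O ((Finset.univ : Finset (Fin 3)).disjSum l)) := by
        rw [symmDiff_comm O, symmDiff_symmDiff_cancel_left]
      have h1 := hhigh _ hO1B (by
        rw [Finset.toLeft_disjSum, Finset.card_univ, Fintype.card_fin]
        norm_num)
      have h2' := hhigh _ hO2B hO2L
      rw [hO_eq, Finset.image_symmDiff _ _ e.injective]
      apply S'.symmDiff_mem h1 h2'
      rw [← Finset.image_inter _ _ e.injective, Finset.card_image_of_injective _ e.injective]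
      have hcap : (Finset.univ : Finset (Fin 3)).disjSum l ∩
          symmDiff O ((Finset.univ : Finset (Fin 3)).disjSum l) =
          (Finset.univ : Finset (Fin 3)).disjSum l \ O := by
        ext x
        simp only [Finset.mem_inter, Finset.mem_symmDiff, Finset.mem_sdiff]
        tauto
      rw [hcap]
      have hc := Finset.card_sdiff_add_card_inter ((Finset.univ : Finset (Fin 3)).disjSum l) O
      rw [S.st.1 _ hO1B, Finset.inter_comm, hint] at hc
      omega
  refine ⟨e, ?_⟩
  apply Set.eq_of_subset_of_ncard_le
  · rintro _ ⟨O, hO, rfl⟩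
    exact hall O hO
  · rw [Set.ncard_image_of_injective _ (Finset.image_injective e.injective)]
    have c1 := Cfsg.Agent.S0350.result S.st
    have c2 := Cfsg.Agent.S0350.result S'.st
    rw [S.card24] at c1
    rw [S'.card24] at c2
    have c1' : B.ncard * 56 = 42504 := c1
    have c2' : B'.ncard * 56 = 42504 := c2
    omega
  · exact Set.toFinite _

end Cfsg.Agent.Lib.Helper93.W24
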